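import Cfsg.Agent.Lib.Char.Zassenhaus.Complement
import Cfsg.Agent.Lib.Char.Burnside
import Cfsg.Agent.Lib.Invol.CharTwo
import Cfsg.Agent.Lib.Invol.DihedralSubgroup
import Cfsg.Agent.Lib.Coprime.Core
import Cfsg.Agent.Lib.Perm.Groups.AltAut
import Cfsg.Agent.S0494

/-!
# The six types of Frobenius complements

A group with a fixed-point-free representation has a normal subgroup with cyclic Sylow subgroups
whose quotient is trivial, a four group, or one of `A₄`, `S₄`, `A₅`, `S₅`.
-/

set_option autoImplicit false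
set_option linter.unusedSectionVars false
set_option maxRecDepth 10000

namespace CfsgLib.Char.Zassenhaus

open Subgroup
open scoped commutatorElement

/-- The six possible quotients. -/
def SixType {G : Type*} [Group G] (N : Subgroup G) : Prop :=
  N = ⊤ ∨
    (∃ f : G →* DihedralGroup 2, Function.Surjective f ∧ f.ker = N) ∨
    (∃ f : G →* alternatingGroup (Fin 4), Function.Surjective f ∧ f.ker = N) ∨
    (∃ f : G →* Equiv.Perm (Fin 4), Function.Surjective f ∧ f.ker = N) ∨
    (∃ f : G →* alternatingGroup (Fin 5), Function.Surjective f ∧ f.ker = N) ∨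
    (∃ f : G →* Equiv.Perm (Fin 5), Function.Surjective f ∧ f.ker = N)

/-! ## Small groups -/

/-- A group of order properly dividing sixty is solvable. -/
theorem isSolvable_of_dvd_sixty {Q : Type*} [Group Q] [Finite Q] (hd : Nat.card Q ∣ 60)
    (hne : Nat.card Q ≠ 60) : Group.IsSolvable Q := by
  have key : ∀ d : ℕ, d ∣ 60 → d ≠ 60 → d = 4 ∨ d = 12 ∨ d = 20 ∨ Squarefree d := by
    intro d hd hne
    have h60 : d ∈ Nat.divisors 60 := Nat.mem_divisors.2 ⟨hd, by norm_num⟩
    rw [show Nat.divisors 60 = {1, 2, 3, 4, 5, 6, 10, 12, 15, 20, 30, 60} by decide +kernel] at h60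
    simp only [Finset.mem_insert, Finset.mem_singleton] at h60
    rcases h60 with rfl | rfl | rfl | rfl | rfl | rfl | rfl | rfl | rfl | rfl | rfl | rfl <;>
      first
        | exact Or.inl rfl
        | exact Or.inr (Or.inl rfl)
        | exact Or.inr (Or.inr (Or.inl rfl))
        | exact absurd rfl hne
        | exact Or.inr (Or.inr (Or.inr (by decide +kernel)))
  rcases key _ hd hne with h | h | h | h
  · exact isSolvable_of_card_two_primes Nat.prime_two Nat.prime_three Q 2 0 (by rw [h]; rfl)
  · exact isSolvable_of_card_two_primes Nat.prime_two Nat.prime_three Q 2 1 (by rw [h]; rfl)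
  · exact isSolvable_of_card_two_primes Nat.prime_two Nat.prime_five Q 2 1 (by rw [h]; rfl)
  · haveI := IsZGroup.of_squarefree h
    infer_instance

/-- A non-solvable group of order sixty is simple. -/
theorem isSimple_of_card_sixty {X : Type*} [Group X] [Finite X] (h : Nat.card X = 60)
    (hns : ¬ Group.IsSolvable X) : IsSimpleGroup X := by
  haveI : Nontrivial X := Finite.one_lt_card_iff_nontrivial.1 (by rw [h]; norm_num)
  refine ⟨fun K hK => ?_⟩
  by_contra hc
  push Not at hc
  have h1 := K.card_mul_index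
  rw [h] at h1
  have hK1 : Nat.card K ≠ 1 := fun e => hc.1 (card_eq_one.1 e)
  have hI1 : K.index ≠ 1 := fun e => hc.2 (index_eq_one.1 e)
  haveI : Group.IsSolvable K := isSolvable_of_dvd_sixty (Dvd.intro _ h1) fun e => hI1 (by
    rw [e] at h1; omega)
  haveI : Group.IsSolvable (X ⧸ K) := isSolvable_of_dvd_sixty
    (by rw [← index_eq_card]; exact Dvd.intro_left _ h1) fun e => hK1 (by
      rw [← index_eq_card] at e; rw [e] at h1; omega)
  exact hns ((Group.isSolvable_iff_subgroup_quotient K).2 ⟨‹_›, ‹_›⟩)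

/-- The automorphisms of a four group. -/
theorem card_mulAut_four_dvd {V : Type*} [Group V] [Finite V] (h : Nat.card V = 4) :
    Nat.card (MulAut V) ∣ 6 := by
  classical
  let W := {v : V // v ≠ 1}
  let ι : MulAut V →* Equiv.Perm W :=
    { toFun := fun σ => (σ.toEquiv).subtypeEquiv fun v => by simp
      map_one' := Equiv.ext fun v => Subtype.ext rfl
      map_mul' := fun σ τ => Equiv.ext fun v => Subtype.ext rfl }
  have hι : Function.Injective ι := fun σ τ e => MulEquiv.ext fun v => by
    rcases eq_or_ne v 1 with rfl | hv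
    · rw [map_one, map_one]
    · exact congrArg Subtype.val (Equiv.congr_fun e ⟨v, hv⟩)
  have hW : Nat.card W = 3 := by
    haveI := Fintype.ofFinite V
    rw [Nat.card_eq_fintype_card, Fintype.card_subtype_compl, Fintype.card_subtype_eq,
      ← Nat.card_eq_fintype_card, h]
  have := Subgroup.card_dvd_of_injective ι hι
  rwa [Nat.card_perm, hW] at this

/-- A group with a self-centralizing normal four group and not a 2-group is `A₄` or `S₄`. -/
theorem equiv_of_self_centralizing_four {X : Type*} [Group X] [Finite X] (V : Subgroup X) [hVn : V.Normal]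
    (hV : Nat.card V = 4) (hV2 : ∀ v ∈ V, v * v = 1) (hC : centralizer (V : Set X) ≤ V)
    (hnot : ¬ IsPGroup 2 X) :
    Nonempty (X ≃* Equiv.Perm (Fin 4)) ∨ Nonempty (X ≃* alternatingGroup (Fin 4)) := by
  classical
  haveI : Fact (Nat.Prime 3) := ⟨Nat.prime_three⟩
  let c : X →* MulAut V := MulAut.conjNormal
  have hker : c.ker ≤ V := fun x hx => hC (mem_centralizer_iff.2 fun v hv => by
    have h := congrArg (fun w : MulAut V => ((w ⟨v, hv⟩ : V) : X)) (MonoidHom.mem_ker.1 hx)
    simp only [c, MulAut.conjNormal_apply, MulAut.one_apply] at h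
    exact (mul_inv_eq_iff_eq_mul.1 h).symm)
  have hdvd : Nat.card X ∣ 24 := by
    rw [← c.ker.card_mul_index, index_ker, show (24 : ℕ) = 4 * 6 from rfl, ← hV]
    exact mul_dvd_mul (card_dvd_of_le hker)
      ((card_subgroup_dvd_card _).trans (card_mulAut_four_dvd hV))
  have h4 : 4 ∣ Nat.card X := hV ▸ card_subgroup_dvd_card V
  have h3 : 3 ∣ Nat.card X := by
    by_contra h3
    have : Nat.card X ∣ 2 ^ 3 :=
      (Nat.Coprime.dvd_mul_right ((Nat.Prime.coprime_iff_not_dvd Nat.prime_three).2 h3).symm).1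
        (show Nat.card X ∣ 2 ^ 3 * 3 from hdvd)
    obtain ⟨k, -, hk⟩ := (Nat.dvd_prime_pow Nat.prime_two).1 this
    exact hnot (IsPGroup.of_card hk)
  obtain ⟨a, ha⟩ := h4
  have hcard : Nat.card X = 12 ∨ Nat.card X = 24 := by
    rw [ha] at hdvd h3 ⊢
    have h6 : a ∣ 6 := (Nat.mul_dvd_mul_iff_left (show 0 < 4 by norm_num)).1 (show 4 * a ∣ 4 * 6 from hdvd)
    have := Nat.le_of_dvd (by norm_num) h6
    interval_cases a <;> omega
  have hcomm : ∀ v ∈ V, ∀ P : Sylow 3 X, v ∈ normalizer ((P : Subgroup X) : Set X) →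
      ∀ p ∈ (P : Subgroup X), v * p = p * v := by
    intro v hv P hvN p hp
    have h1 : v * p * v⁻¹ * p⁻¹ ∈ V ⊓ (P : Subgroup X) := ⟨by
      rw [show v * p * v⁻¹ * p⁻¹ = v * (p * v⁻¹ * p⁻¹) by group]
      exact mul_mem hv (hVn.conj_mem _ (inv_mem hv) p), mul_mem ((mem_normalizer_iff.1 hvN p).1 hp) ((P : Subgroup X).inv_mem hp)⟩
    have h2 : V ⊓ (P : Subgroup X) = ⊥ := Subgroup.inf_eq_bot_of_coprime (by
      obtain ⟨k, hk⟩ := P.isPGroup'.exists_card_eq
      rw [hV, hk]
      exact Nat.Coprime.pow_right k (by norm_num))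
    rw [h2, mem_bot] at h1
    exact mul_inv_eq_iff_eq_mul.1 (mul_inv_eq_one.1 h1)
  have hP3 : ∀ P : Sylow 3 X, ¬ (P : Subgroup X) ≤ V := fun P hPV => by
    have h1 := card_dvd_of_le hPV
    have h2 := P.dvd_card_of_dvd_card h3
    rw [hV] at h1
    exact absurd (h2.trans h1) (by norm_num)
  -- there are four Sylow 3-subgroups
  have hn3 : Nat.card (Sylow 3 X) = 4 := by
    obtain ⟨P⟩ : Nonempty (Sylow 3 X) := inferInstance
    have hd := P.card_dvd_index
    have hmod : Nat.card (Sylow 3 X) % 3 = 1 := card_sylow_modEq_one 3 X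
    have hPi := P.not_dvd_index
    have h8 : (P : Subgroup X).index ∣ 8 := by
      refine (Nat.Coprime.dvd_mul_right ((Nat.Prime.coprime_iff_not_dvd Nat.prime_three).2 hPi).symm).1
        (show (P : Subgroup X).index ∣ 8 * 3 from ?_)
      exact (Dvd.intro_left _ (P : Subgroup X).card_mul_index).trans hdvd
    have hd8 := hd.trans h8
    have := Nat.le_of_dvd (by norm_num) hd8
    have hne1 : Nat.card (Sylow 3 X) ≠ 1 := fun h1 => by
      haveI : Subsingleton (Sylow 3 X) := (Nat.card_eq_one_iff_unique.1 h1).1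
      have hPn : ∀ v : X, v ∈ normalizer ((P : Subgroup X) : Set X) := fun v =>
        Sylow.smul_eq_iff_mem_normalizer.1 (Subsingleton.elim _ _)
      exact hP3 P (le_trans (fun p hp => mem_centralizer_iff.2 fun v hv => hcomm v hv P (hPn v) p hp) hC)
    interval_cases hn : Nat.card (Sylow 3 X) <;> omega
  obtain ⟨es⟩ := (Finite.card_eq).1 (hn3.trans (Nat.card_fin 4).symm)
  let φ : X →* Equiv.Perm (Fin 4) :=
    (es.permCongrHom : Equiv.Perm (Sylow 3 X) →* Equiv.Perm (Fin 4)).comp (MulAction.toPermHom X (Sylow 3 X))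
  have hφ : Function.Injective φ := by
    refine (injective_iff_map_eq_one _).2 fun x hx => ?_
    have hx' : ∀ P : Sylow 3 X, x • P = P := fun P =>
      Equiv.congr_fun (es.permCongrHom.injective (hx.trans (map_one _).symm) :
        MulAction.toPermHom X (Sylow 3 X) x = 1) P
    have hK : ∀ v ∈ V, (∀ P : Sylow 3 X, v • P = P) → v = 1 := by
      intro v hv hvP
      by_contra hv1
      obtain ⟨P⟩ : Nonempty (Sylow 3 X) := inferInstance
      have hcp := hcomm v hv P (Sylow.smul_eq_iff_mem_normalizer.1 (hvP P))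
      refine hP3 P (le_trans (fun p hp => ?_) hC)
      -- the action of `p` on the three involutions fixes `v`, so it is trivial
      have hσv : c p ⟨v, hv⟩ = ⟨v, hv⟩ := Subtype.ext (by
        rw [MulAut.conjNormal_apply, ← hcp p hp, mul_inv_cancel_right])
      have hσ3 : ∃ k, (c p) ^ 3 ^ k = 1 := by
        obtain ⟨k, hk⟩ := P.isPGroup' ⟨p, hp⟩
        exact ⟨k, by rw [← map_pow, show p ^ 3 ^ k = 1 from congrArg Subtype.val hk, map_one]⟩
      have hone : c p = 1 := by
        haveI := Fintype.ofFinite V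
        obtain ⟨k, hk⟩ := hσ3
        have h2 : (c p) * (c p) = 1 := MulEquiv.ext fun w => by
          show c p (c p w) = w
          by_contra hne
          have hw1 : w ≠ 1 := fun e => hne (by rw [e, map_one, map_one])
          have hwv : w ≠ ⟨v, hv⟩ := fun e => hne (by rw [e, hσv, hσv])
          have h5 : c p w ≠ w := fun e => hne (by rw [e, e])
          have hset : ({1, ⟨v, hv⟩, w, c p w, c p (c p w)} : Finset V).card ≤ 4 :=
            (Finset.card_le_univ _).trans (le_of_eq (by rw [← Nat.card_eq_fintype_card, hV]))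
          have d1 : c p w ≠ 1 := fun e => hw1 ((c p).injective (e.trans (map_one _).symm))
          have d2 : c p w ≠ ⟨v, hv⟩ := fun e => hwv ((c p).injective (e.trans hσv.symm))
          have d3 : c p (c p w) ≠ 1 := fun e => d1 ((c p).injective (e.trans (map_one _).symm))
          have d4 : c p (c p w) ≠ ⟨v, hv⟩ := fun e => d2 ((c p).injective (e.trans hσv.symm))
          have d5 : c p (c p w) ≠ c p w := fun e => h5 ((c p).injective e)
          have hv1' : (⟨v, hv⟩ : V) ≠ 1 := fun e => hv1 (congrArg Subtype.val e)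
          rw [Finset.card_insert_of_notMem (by simp [hv1'.symm, hw1.symm, d1.symm, d3.symm]),
            Finset.card_insert_of_notMem (by simp [hwv.symm, d2.symm, d4.symm]),
            Finset.card_insert_of_notMem (by simp [h5.symm, Ne.symm hne]),
            Finset.card_insert_of_notMem (by simp [d5.symm]), Finset.card_singleton] at hset
          omega
        have ho : orderOf (c p) ∣ 2 := orderOf_dvd_of_pow_eq_one (by rw [pow_two, h2])
        exact orderOf_eq_one_iff.1 (Nat.eq_one_of_dvd_coprimes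
          (Nat.Coprime.pow_right k (by norm_num)) ho (orderOf_dvd_of_pow_eq_one hk))
      refine mem_centralizer_iff.2 fun w hw => ?_
      have h6 := congrArg (fun σ : MulAut V => ((σ ⟨w, hw⟩ : V) : X)) hone
      simp only [c, MulAut.conjNormal_apply, MulAut.one_apply] at h6
      exact (mul_inv_eq_iff_eq_mul.1 h6).symm
    -- so the kernel centralises the four group
    have hxV : x ∈ V := hC (mem_centralizer_iff.2 fun v hv => by
      have h1 : v * x * v⁻¹ * x⁻¹ ∈ V := by
        rw [show v * x * v⁻¹ * x⁻¹ = v * (x * v⁻¹ * x⁻¹) by group]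
        exact mul_mem hv (hVn.conj_mem _ (inv_mem hv) x)
      refine mul_inv_eq_iff_eq_mul.1 (mul_inv_eq_one.1 (hK _ h1 fun P => ?_))
      rw [mul_smul, mul_smul, mul_smul, inv_smul_eq_iff.2 (hx' P).symm, hx', smul_inv_smul])
    exact hK x hxV hx'
  have h24 : Nat.card (Equiv.Perm (Fin 4)) = 24 := by rw [Nat.card_perm, Nat.card_fin]; rfl
  rcases hcard with h | h
  · refine Or.inr ⟨(MonoidHom.ofInjective hφ).trans (MulEquiv.subgroupCongr ?_)⟩
    refine Equiv.Perm.eq_alternatingGroup_of_index_eq_two ?_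
    have h1 := φ.range.card_mul_index
    rw [Nat.card_congr (MonoidHom.ofInjective hφ).symm.toEquiv, h, h24] at h1
    omega
  · exact Or.inl ⟨MulEquiv.ofBijective φ ((Nat.bijective_iff_injective_and_card φ).2 ⟨hφ, by rw [h, h24]⟩)⟩

/-- An automorphism of odd order of a generalised quaternion group of order at least sixteen is trivial. -/
theorem aut_eq_one_of_quaternion {k : ℕ} (hk : 2 ≤ k) (σ : MulAut (QuaternionGroup (2 ^ k))) {m : ℕ}
    (hm : Odd m) (hσ : σ ^ m = 1) : σ = 1 := by
  open QuaternionGroup in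
  haveI : NeZero (2 ^ k) := ⟨by positivity⟩
  open QuaternionGroup in
  have hbig : ∀ x : QuaternionGroup (2 ^ k), 4 < orderOf x → x ∈ zpowers (a 1) := by
    intro x hx
    cases x with
    | a i =>
      refine ⟨(i.val : ℤ), ?_⟩
      show (a 1 : QuaternionGroup (2 ^ k)) ^ (i.val : ℤ) = a i
      rw [zpow_natCast, a_one_pow, ZMod.natCast_zmod_val]
    | xa i =>
      rw [orderOf_xa] at hx
      omega
  open QuaternionGroup in
  have h1 : 4 < orderOf (a 1 : QuaternionGroup (2 ^ k)) := by
    rw [orderOf_a_one]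
    have : 2 ^ 2 ≤ 2 ^ k := Nat.pow_le_pow_right (by norm_num) hk
    omega
  open QuaternionGroup in
  set K := zpowers (a 1 : QuaternionGroup (2 ^ k)) with hK
  have hmem : ∀ j : ℕ, (σ ^ j) (QuaternionGroup.a 1) ∈ K := fun j =>
    hbig _ (by rw [MulEquiv.orderOf_eq]; exact h1)
  open QuaternionGroup in
  have hKσ : K.map (σ : MulAut (QuaternionGroup (2 ^ k))).toMonoidHom = K := by
    refine Subgroup.eq_of_le_of_card_ge ?_ (by rw [card_map_of_injective σ.injective])
    rw [hK, MonoidHom.map_zpowers, zpowers_le]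
    simpa using hmem 1
  open QuaternionGroup in
  have hpres : ∀ x : QuaternionGroup (2 ^ k), x ∈ K ↔ σ x ∈ K := fun x => by
    constructor
    · intro hx; rw [← hKσ]; exact mem_map_of_mem _ hx
    · intro hx
      rw [← hKσ] at hx
      obtain ⟨y, hy, hyx⟩ := mem_map.1 hx
      rwa [← σ.injective hyx]
  open QuaternionGroup in
  have hσa : σ (a 1) = a 1 := by
    haveI : IsCyclic K := isCyclic_iff_exists_zpowers_eq_top.2 ⟨⟨a 1, mem_zpowers _⟩, top_le_iff.1 fun x _ => by
      obtain ⟨i, hi⟩ := mem_zpowers_iff.1 x.2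
      exact mem_zpowers_iff.2 ⟨i, Subtype.ext (by simpa using hi)⟩⟩
    let τ : MulAut K :=
      { toFun := fun x => ⟨σ x, (hpres x).1 x.2⟩
        invFun := fun x => ⟨σ.symm x, (hpres _).2 (by rw [σ.apply_symm_apply]; exact x.2)⟩
        left_inv := fun x => Subtype.ext (σ.symm_apply_apply _)
        right_inv := fun x => Subtype.ext (σ.apply_symm_apply _)
        map_mul' := fun x y => Subtype.ext (map_mul σ _ _) }
    have hτj : ∀ j : ℕ, ∀ x : K, (((τ ^ j) x : K) : QuaternionGroup (2 ^ k)) = (σ ^ j) x := by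
      intro j
      induction j with
      | zero => intro x; rfl
      | succ j ih => intro x; rw [pow_succ', pow_succ', MulAut.mul_apply, MulAut.mul_apply, ← ih]; rfl
    have hK2 : IsPGroup 2 ↥K := (IsPGroup.of_card (n := k + 2) (by
      rw [Nat.card_eq_fintype_card, QuaternionGroup.card]; ring)).to_subgroup K
    have hτ1 := CfsgLib.Invol.aut_eq_one_of_cyclic_two_group hK2 τ hm
      (MulEquiv.ext fun x => Subtype.ext (by rw [hτj, hσ]; rfl))
    exact congrArg (fun t : MulAut K => ((t ⟨a 1, mem_zpowers _⟩ : K) : QuaternionGroup (2 ^ k))) hτ1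
  open QuaternionGroup in
  obtain ⟨j, hj⟩ : ∃ j, σ (xa 0) = xa j := by
    cases h : σ (xa 0) with
    | xa j => exact ⟨j, rfl⟩
    | a i =>
      exfalso
      have : (xa 0 : QuaternionGroup (2 ^ k)) ∈ K := (hpres _).2 (by
        rw [h]
        refine ⟨(i.val : ℤ), ?_⟩
        show (a 1 : QuaternionGroup (2 ^ k)) ^ (i.val : ℤ) = a i
        rw [zpow_natCast, a_one_pow, ZMod.natCast_zmod_val])
      obtain ⟨i, hi⟩ := mem_zpowers_iff.1 this
      have hc : Commute (a 1 : QuaternionGroup (2 ^ k)) (xa 0) := hi ▸ (Commute.refl _).zpow_right i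
      have hc' := hc.eq
      rw [a_mul_xa, xa_mul_a, zero_sub, zero_add] at hc'
      have h2 : ((2 : ℕ) : ZMod (2 * 2 ^ k)) = 0 := by
        have e := QuaternionGroup.xa.inj hc'
        push_cast
        first
          | linear_combination e
          | linear_combination -e
      have := Nat.le_of_dvd (by norm_num) ((ZMod.natCast_eq_zero_iff _ _).1 h2)
      have : 2 ^ 2 ≤ 2 ^ k := Nat.pow_le_pow_right (by norm_num) hk
      omega
  open QuaternionGroup in
  have hσa' : ∀ i, σ (a i) = a i := fun i => by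
    rw [show (a i : QuaternionGroup (2 ^ k)) = a 1 ^ i.val by rw [a_one_pow, ZMod.natCast_zmod_val], map_pow, hσa]
  open QuaternionGroup in
  have hit : ∀ l : ℕ, (σ ^ l) (xa 0) = xa ((l : ZMod (2 * 2 ^ k)) * j) := by
    intro l
    induction l with
    | zero => simp
    | succ l ih =>
      rw [pow_succ', MulAut.mul_apply, ih,
        show (xa ((l : ZMod (2 * 2 ^ k)) * j) : QuaternionGroup (2 ^ k)) = xa 0 * a ((l : ZMod (2 * 2 ^ k)) * j) by
          simp, map_mul, hj, hσa', xa_mul_a]
      congr 1
      push_cast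
      ring
  open QuaternionGroup in
  have hj0 : j = 0 := by
    have h := hit m
    rw [hσ, MulAut.one_apply] at h
    have h2 : (m : ZMod (2 * 2 ^ k)) * j = 0 := by injection h with h; exact h.symm
    have hu : IsUnit (m : ZMod (2 * 2 ^ k)) := by
      rw [ZMod.isUnit_iff_coprime, show 2 * 2 ^ k = 2 ^ (k + 1) by ring]
      exact Nat.Coprime.pow_right _ hm.coprime_two_right
    exact hu.mul_right_eq_zero.1 h2
  open QuaternionGroup in
  exact MulEquiv.ext fun x => by
    cases x with
    | a i => exact hσa' i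
    | xa i =>
      show σ (xa i) = xa i
      rw [show (xa i : QuaternionGroup (2 ^ k)) = xa 0 * a i by simp, map_mul, hj, hj0, hσa']

/-! ## Elementary quotients of quaternion groups -/

/-- A homomorphism of a 2-group with one involution into a group of exponent two has at most four values. -/
theorem card_range_le_four {P E : Type*} [Group P] [Finite P] [Group E] (hP : IsPGroup 2 P)
    (hu : Coprime.UniqueOrderP 2 P) (f : P →* E) (hE : ∀ x, f x * f x = 1) :
    Nat.card f.range ≤ 4 := by
  classical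
  suffices h : ∃ u v : E, ∀ x, f x ∈ ({1, u, v, v * u} : Finset E) by
    obtain ⟨u, v, h⟩ := h
    let ι : f.range → ({1, u, v, v * u} : Finset E) := fun y => ⟨y.1, by
      obtain ⟨x, hx⟩ := y.2; exact hx ▸ h x⟩
    have hι : Function.Injective ι := fun y y' e => Subtype.ext (Subtype.mk.inj e)
    refine (Nat.card_le_card_of_injective ι hι).trans ?_
    rw [Nat.card_eq_fintype_card, Fintype.card_coe]
    exact Finset.card_le_four
  have hpow : ∀ (w : P) (i : ℕ), f w ^ i = 1 ∨ f w ^ i = f w := by
    intro w i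
    rcases Nat.even_or_odd' i with ⟨l, rfl | rfl⟩
    · exact Or.inl (by rw [pow_mul, pow_two, hE, one_pow])
    · exact Or.inr (by rw [pow_succ, pow_mul, pow_two, hE, one_pow, one_mul])
  rcases Coprime.cyclic_or_quaternion_of_unique_two hP hu with hc | ⟨k, ⟨e⟩⟩
  · obtain ⟨g, hg⟩ := IsCyclic.exists_monoid_generator (α := P)
    refine ⟨f g, f g, fun x => ?_⟩
    obtain ⟨i, rfl⟩ := hg x
    simp only [map_pow, Finset.mem_insert, Finset.mem_singleton]
    rcases hpow g i with h | h
    · exact Or.inl h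
    · exact Or.inr (Or.inl h)
  · haveI : NeZero (2 ^ k) := ⟨by positivity⟩
    set F := f.comp e.symm.toMonoidHom with hF
    refine ⟨F (QuaternionGroup.a 1), F (QuaternionGroup.xa 0), fun x => ?_⟩
    rw [show f x = F (e x) by simp [hF]]
    simp only [Finset.mem_insert, Finset.mem_singleton]
    cases e x with
    | a i =>
      rw [show (QuaternionGroup.a i : QuaternionGroup (2 ^ k)) = QuaternionGroup.a 1 ^ i.val by
        rw [QuaternionGroup.a_one_pow, ZMod.natCast_zmod_val], map_pow]
      rcases hpow (e.symm (QuaternionGroup.a 1)) i.val with h | h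
      · exact Or.inl h
      · exact Or.inr (Or.inl h)
    | xa i =>
      rw [show (QuaternionGroup.xa i : QuaternionGroup (2 ^ k)) =
          QuaternionGroup.xa 0 * QuaternionGroup.a 1 ^ i.val by
        rw [QuaternionGroup.a_one_pow, ZMod.natCast_zmod_val, QuaternionGroup.xa_mul_a, zero_add],
        map_mul, map_pow]
      rcases hpow (e.symm (QuaternionGroup.a 1)) i.val with h | h
      · exact Or.inr (Or.inr (Or.inl (by rw [show F _ ^ i.val = 1 from h, mul_one])))
      · exact Or.inr (Or.inr (Or.inr (by rw [show F _ ^ i.val = _ from h]; rfl)))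

/-- Parities in a generalised quaternion group. -/
def quatParity {n : ℕ} (hn : Even n) : QuaternionGroup n →* DihedralGroup 2 where
  toFun
    | .a i => .r (ZMod.castHom (dvd_mul_right 2 n) (ZMod 2) i)
    | .xa i => .sr (ZMod.castHom (dvd_mul_right 2 n) (ZMod 2) i)
  map_one' := congrArg DihedralGroup.r (map_zero (ZMod.castHom (dvd_mul_right 2 n) (ZMod 2)))
  map_mul' := by
    have h2 : (n : ZMod 2) = 0 := (ZMod.natCast_eq_zero_iff_even).2 hn
    rintro (i | i) (j | j)
    · simp only [QuaternionGroup.a_mul_a, DihedralGroup.r_mul_r, map_add]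
    · simp only [QuaternionGroup.a_mul_xa, DihedralGroup.r_mul_sr, map_sub]
    · simp only [QuaternionGroup.xa_mul_a, DihedralGroup.sr_mul_r, map_add]
    · simp only [QuaternionGroup.xa_mul_xa, DihedralGroup.sr_mul_sr, map_sub, map_add, map_natCast, h2, zero_add]

/-! ## The main theorem -/

variable {G : Type*} [Group G] [Finite G] (ψ : ZRep G)

include ψ in
/-- A subgroup whose image modulo the odd core is cyclic has cyclic Sylow subgroups. -/
theorem isZGroup_of_cyclic_image {H : Type*} [Group H] (q : G →* H) (hq : Odd (Nat.card q.ker))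
    (N : Subgroup G) (hc : IsCyclic (N.map q)) : IsZGroup N := by
  refine ⟨fun p hp P => ?_⟩
  haveI := Fact.mk hp
  rcases eq_or_ne p 2 with rfl | hp2
  · refine isCyclic_of_injective
      (((q.comp N.subtype).comp (P : Subgroup N).subtype).codRestrict (N.map q) fun x =>
        mem_map_of_mem q (x : N).2) ((injective_iff_map_eq_one _).2 fun x hx => ?_)
    have h1 : ((x : N) : G) ∈ q.ker := congrArg Subtype.val hx
    obtain ⟨k, hk⟩ := P.isPGroup' x
    apply Subtype.ext
    apply Subtype.ext
    refine CfsgLib.Invol.eq_one_of_odd_of_pow_two (k := k) (Odd.of_dvd_nat hq ?_) ?_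
    · rw [show orderOf ((x : N) : G) = orderOf (⟨_, h1⟩ : q.ker) from (Subgroup.orderOf_mk _ h1).symm]
      exact orderOf_dvd_natCard _
    · exact congrArg (fun w : (P : Subgroup N) => ((w : N) : G)) hk
  · exact sylow_cyclic (ψ.comap N.subtype N.subtype_injective) hp2 P P.2

/-- The facts about `Q₈` used below. -/
theorem q8_facts : (∀ x : QuaternionGroup 2, ∀ y : QuaternionGroup 2,
      y * (x * x) = x * x * y) ∧
    (∀ a' b' : QuaternionGroup 2,
      (a' = .a 1 ∨ a' = .a 1 * .a 2) → (b' = .xa 0 ∨ b' = .xa 0 * .a 2) →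
        ∃ q, q * .a 1 * q⁻¹ = a' ∧ q * .xa 0 * q⁻¹ = b') ∧
    (∀ x : QuaternionGroup 2, ∃ i : Fin 4, ∃ j : Fin 2, x = .xa 0 ^ j.val * .a 1 ^ i.val) ∧
    (∀ x : QuaternionGroup 2, (∀ y, y * x = x * y) → x = 1 ∨ x = .a 2) ∧
    ((.a 2 : QuaternionGroup 2) ≠ 1 ∧ ∀ y : QuaternionGroup 2, y * .a 2 = .a 2 * y) := by
  decide +kernel

include ψ in
/-- The six types, solvable case. -/
theorem exists_six_solvable [Group.IsSolvable G] :
    ∃ N : Subgroup G, N.Normal ∧ IsZGroup N ∧ SixType N := by
  classical
  haveI : Fact (Nat.Prime 2) := ⟨Nat.prime_two⟩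
  haveI hOn : (Cfsg.pPrimeCore 2 G).Normal := Subgroup.sSup_normal _ fun _ h => h.1
  set O := Cfsg.pPrimeCore 2 G
  set q := QuotientGroup.mk' O with hqdef
  have hqs : Function.Surjective q := QuotientGroup.mk'_surjective O
  have hqk : q.ker = O := QuotientGroup.ker_mk' O
  have hqodd : Odd (Nat.card q.ker) := by
    rw [hqk]; exact Nat.coprime_two_right.1 (Coprime.pPrimeCore_coprime Nat.prime_two)
  obtain ⟨P⟩ : Nonempty (Sylow 2 G) := inferInstance
  have hPinj : ∀ x ∈ (P : Subgroup G), q x = 1 → x = 1 := fun x hx h => by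
    obtain ⟨k, hk⟩ := P.isPGroup' ⟨x, hx⟩
    refine CfsgLib.Invol.eq_one_of_odd_of_pow_two (k := k) (Odd.of_dvd_nat hqodd ?_) (congrArg Subtype.val hk)
    rw [show orderOf x = orderOf (⟨x, h⟩ : q.ker) from (Subgroup.orderOf_mk x h).symm]
    exact orderOf_dvd_natCard _
  have hPu : Coprime.UniqueOrderP 2 (P : Subgroup G) := uniqueOrderP_sylow ψ _ P.isPGroup'
  let Pb : Sylow 2 (G ⧸ O) := P.mapSurjective hqs
  have hPb : ∀ y ∈ (Pb : Subgroup (G ⧸ O)), ∃ x : (P : Subgroup G), q x = y := fun y hy => by
    obtain ⟨x, hx, e⟩ := mem_map.1 hy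
    exact ⟨⟨x, hx⟩, e⟩
  by_cases h2 : IsPGroup 2 (G ⧸ O)
  · -- a 2-group modulo the odd core
    have htop : (Pb : Subgroup (G ⧸ O)) = ⊤ := by
      refine (Pb.is_maximal' ?_ le_top).symm
      exact h2.to_subgroup ⊤
    let eP : (P : Subgroup G) ≃* G ⧸ O := MulEquiv.ofBijective (q.comp (P : Subgroup G).subtype)
      ⟨(injective_iff_map_eq_one _).2 fun x hx => Subtype.ext (hPinj x.1 x.2 hx), fun y =>
        hPb y (htop ▸ mem_top y)⟩
    rcases Coprime.cyclic_or_quaternion_of_unique_two P.isPGroup' hPu with hc | ⟨k, ⟨eQ⟩⟩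
    · haveI : IsCyclic (G ⧸ O) := isCyclic_of_surjective eP.toMonoidHom eP.surjective
      exact ⟨⊤, inferInstance, isZGroup_of_cyclic_image ψ q hqodd ⊤ inferInstance, Or.inl rfl⟩
    · rcases Nat.eq_zero_or_pos k with rfl | hk
      · haveI : IsCyclic (QuaternionGroup (2 ^ 0)) := by rw [pow_zero]; exact QuaternionGroup.quaternionGroup_one_isCyclic
        haveI : IsCyclic (P : Subgroup G) := isCyclic_of_surjective eQ.symm.toMonoidHom eQ.symm.surjective
        haveI : IsCyclic (G ⧸ O) := isCyclic_of_surjective eP.toMonoidHom eP.surjective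
        exact ⟨⊤, inferInstance, isZGroup_of_cyclic_image ψ q hqodd ⊤ inferInstance, Or.inl rfl⟩
      have hev : Even (2 ^ k) := (Nat.even_pow).2 ⟨even_two, by omega⟩
      haveI : NeZero (2 ^ k) := ⟨by positivity⟩
      let θ : G ⧸ O →* DihedralGroup 2 := (quatParity hev).comp (eP.symm.trans eQ).toMonoidHom
      have hθ : Function.Surjective (quatParity hev) := by
        rintro (i | i)
        · obtain ⟨j, hj⟩ := ZMod.castHom_surjective (dvd_mul_right 2 (2 ^ k)) i
          exact ⟨.a j, congrArg DihedralGroup.r hj⟩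
        · obtain ⟨j, hj⟩ := ZMod.castHom_surjective (dvd_mul_right 2 (2 ^ k)) i
          exact ⟨.xa j, congrArg DihedralGroup.sr hj⟩
      refine ⟨(θ.comp q).ker, inferInstance, ?_, Or.inr (Or.inl ⟨θ.comp q,
        (hθ.comp (eP.symm.trans eQ).surjective).comp hqs, rfl⟩)⟩
      refine isZGroup_of_cyclic_image ψ q hqodd _ ?_
      refine isCyclic_of_injective (((eP.symm.trans eQ).toMonoidHom.comp
          ((θ.comp q).ker.map q).subtype).codRestrict (zpowers (QuaternionGroup.a 1)) ?_) ?_
      · rintro ⟨y, hy⟩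
        obtain ⟨x, hx, rfl⟩ := mem_map.1 hy
        show (eP.symm.trans eQ) (q x) ∈ _
        have h : quatParity hev ((eP.symm.trans eQ) (q x)) = 1 := hx
        cases hc : (eP.symm.trans eQ) (q x) with
        | a i =>
          refine ⟨(i.val : ℤ), ?_⟩
          show (QuaternionGroup.a 1 : QuaternionGroup (2 ^ k)) ^ (i.val : ℤ) = QuaternionGroup.a i
          rw [zpow_natCast, QuaternionGroup.a_one_pow, ZMod.natCast_zmod_val]
        | xa i =>
          rw [hc] at h
          exact absurd h (fun e => by injection e)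
      · intro u v e
        exact Subtype.ext ((eP.symm.trans eQ).injective (congrArg Subtype.val e))
  · -- the 2-core is a quaternion group of order eight
    set P2 := Cfsg.pCore 2 (G ⧸ O) with hP2
    haveI : P2.Normal := Coprime.pCore_normal' 2
    have hP2p : IsPGroup 2 P2 := Coprime.pCore_isPGroup 2
    have hC := CfsgLib.Invol.centralizer_pCore_le_of_solvable (G := G ⧸ O) (p := 2)
      (Coprime.pPrimeCore_quotient_eq_bot Nat.prime_two)
    have hle : P2 ≤ (Pb : Subgroup (G ⧸ O)) := by
      obtain ⟨S, hS⟩ := hP2p.exists_le_sylow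
      obtain ⟨g, hg⟩ := MulAction.exists_smul_eq (G ⧸ O) S Pb
      rw [← hg]
      intro a ha
      exact ⟨g⁻¹ * a * g, hS (by simpa using (Coprime.pCore_normal' (G := G ⧸ O) 2).conj_mem a ha g⁻¹), by
        show g * (g⁻¹ * a * g) * g⁻¹ = a
        group⟩
    have hP2u : Coprime.UniqueOrderP 2 P2 := by
      intro x y hx hy hx1
      obtain ⟨u, hu⟩ := hPb _ (hle x.2)
      obtain ⟨v, hv⟩ := hPb _ (hle y.2)
      have hsq : ∀ (w : (P : Subgroup G)) (z : P2), q w = z → z ^ 2 = 1 → w ^ 2 = 1 := fun w z e h =>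
        Subtype.ext (hPinj _ (w ^ 2).2 (by rw [Subgroup.coe_pow, map_pow, e, ← Subgroup.coe_pow, h]; rfl))
      have hu1 : u ≠ 1 := fun e => hx1 (Subtype.ext (by rw [← hu, e]; exact map_one q))
      obtain ⟨i, hi⟩ := hPu u v (hsq u x hu hx) (hsq v y hv hy) hu1
      exact ⟨i, Subtype.ext (by
        show ((x ^ i : P2) : G ⧸ O) = (y : G ⧸ O)
        rw [Subgroup.coe_zpow, ← hu, ← hv, ← hi, ← map_zpow, ← Subgroup.coe_zpow])⟩
    -- odd elements act faithfully
    obtain ⟨o, ho, ho1⟩ : ∃ o : G ⧸ O, Odd (orderOf o) ∧ o ≠ 1 := by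
      by_contra hc
      push Not at hc
      refine h2 (IsPGroup.iff_orderOf.2 fun g => ?_)
      obtain ⟨j, m, hm, he⟩ := Nat.exists_eq_two_pow_mul_odd (orderOf_pos g).ne'
      refine ⟨j, ?_⟩
      have h := hc (g ^ 2 ^ j) (by rw [orderOf_pow_of_dvd (by positivity) (he ▸ Dvd.intro _ rfl), he,
        Nat.mul_div_cancel_left _ (by positivity)]; exact hm)
      have h' := orderOf_dvd_of_pow_eq_one h
      rw [he] at h' ⊢
      have : m = 1 := Nat.eq_one_of_dvd_coprimes (Nat.Coprime.pow_right j hm.coprime_two_right) dvd_rfl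
        ((Dvd.intro_left _ rfl).trans h')
      rw [this, mul_one]
    let cP : G ⧸ O →* MulAut P2 := MulAut.conjNormal
    have hcker : ∀ g, cP g = 1 → g ∈ P2 := fun g hg => hC (mem_centralizer_iff.2 fun v hv => by
      have h := congrArg (fun w : MulAut P2 => ((w ⟨v, hv⟩ : P2) : G ⧸ O)) hg
      simp only [cP, MulAut.conjNormal_apply, MulAut.one_apply] at h
      exact (mul_inv_eq_iff_eq_mul.1 h).symm)
    have hcne : cP o ≠ 1 := fun e => by
      obtain ⟨j, hj⟩ := hP2p ⟨o, hcker o e⟩
      exact ho1 (CfsgLib.Invol.eq_one_of_odd_of_pow_two ho (congrArg Subtype.val hj))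
    have hcpow : cP o ^ orderOf o = 1 := by rw [← map_pow, pow_orderOf_eq_one, map_one]
    obtain ⟨eQ⟩ : Nonempty (P2 ≃* QuaternionGroup 2) := by
      rcases Coprime.cyclic_or_quaternion_of_unique_two hP2p hP2u with hc | ⟨k, ⟨eQ⟩⟩
      · exact absurd (CfsgLib.Invol.aut_eq_one_of_cyclic_two_group hP2p _ ho hcpow) hcne
      · rcases lt_trichotomy k 1 with hk | rfl | hk
        · obtain rfl : k = 0 := by omega
          haveI : IsCyclic (QuaternionGroup (2 ^ 0)) := by rw [pow_zero]; exact QuaternionGroup.quaternionGroup_one_isCyclic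
          haveI : IsCyclic P2 := isCyclic_of_surjective eQ.symm.toMonoidHom eQ.symm.surjective
          exact absurd (CfsgLib.Invol.aut_eq_one_of_cyclic_two_group hP2p _ ho hcpow) hcne
        · exact ⟨eQ⟩
        · refine absurd ?_ hcne
          have := aut_eq_one_of_quaternion hk ((MulAut.congr eQ) (cP o)) ho (by
            rw [← map_pow, hcpow, map_one])
          exact (MulAut.congr eQ).injective (this.trans (map_one _).symm)
    obtain ⟨hqsq, hinner, hgen, hcen, hz1, hz⟩ := q8_facts
    set Z := (Subgroup.center P2).map P2.subtype with hZ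
    haveI : Z.Normal := hZ ▸ ConjAct.normal_of_characteristic_of_normal
    have hZle : Z ≤ P2 := map_subtype_le _
    have hzeta : eQ.symm (.a 2) ∈ Subgroup.center P2 := Subgroup.mem_center_iff.2 fun y =>
      eQ.injective (by simp only [map_mul, MulEquiv.apply_symm_apply]; exact hz _)
    have hZmem : ∀ x : P2, (x : G ⧸ O) ∈ Z → x = 1 ∨ x = eQ.symm (.a 2) := fun x hx => by
      obtain ⟨x', hx', e⟩ := mem_map.1 hx
      obtain rfl : x' = x := Subtype.ext e
      rcases hcen (eQ x') (fun y => by
        obtain ⟨y, rfl⟩ := eQ.surjective y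
        rw [← map_mul, ← map_mul, Subgroup.mem_center_iff.1 hx' y]) with h | h
      · exact Or.inl (eQ.injective (h.trans (map_one eQ).symm))
      · exact Or.inr (eQ.injective (h.trans (eQ.apply_symm_apply _).symm))
    have hcardZ : Nat.card Z = 2 := by
      rw [hZ, card_map_of_injective P2.subtype_injective, Nat.card_eq_two_iff' (⟨1, one_mem _⟩ : center P2)]
      refine ⟨⟨_, hzeta⟩, fun e => hz1 ?_, fun y hy => ?_⟩
      · simpa using congrArg (fun w : center P2 => eQ w.1) e
      · rcases hZmem y.1 (mem_map_of_mem _ y.2) with h | h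
        · exact absurd (Subtype.ext h) hy
        · exact Subtype.ext h
    set q2 := QuotientGroup.mk' Z with hq2
    set V := P2.map q2 with hV
    haveI : V.Normal := hV ▸ Subgroup.Normal.map inferInstance q2 (QuotientGroup.mk'_surjective Z)
    have hcardP2 : Nat.card P2 = 8 := by
      rw [Nat.card_congr eQ.toEquiv, Nat.card_eq_fintype_card, QuaternionGroup.card]
    have hcardV : Nat.card V = 4 := by
      have h1 := Subgroup.card_mul_index (q2.subgroupMap P2).ker
      rw [index_ker, MonoidHom.range_eq_top.2 (q2.subgroupMap_surjective P2), card_top, hcardP2] at h1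
      have h2 : Nat.card (q2.subgroupMap P2).ker = 2 := by
        rw [Subgroup.ker_subgroupMap, hq2, QuotientGroup.ker_mk',
          Nat.card_congr (Subgroup.subgroupOfEquivOfLe hZle).toEquiv, hcardZ]
      rw [h2] at h1
      change 2 * Nat.card V = 8 at h1
      omega
    have hV2 : ∀ v ∈ V, v * v = 1 := fun v hv => by
      obtain ⟨x, hx, rfl⟩ := mem_map.1 hv
      rw [← map_mul, hq2, QuotientGroup.mk'_apply, QuotientGroup.eq_one_iff, hZ]
      refine ⟨⟨x, hx⟩ * ⟨x, hx⟩, Subgroup.mem_center_iff.2 fun y => eQ.injective ?_, rfl⟩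
      simp only [map_mul]
      exact hqsq _ _
    have hVC : centralizer (V : Set ((G ⧸ O) ⧸ Z)) ≤ V := by
      intro w hw
      obtain ⟨g, rfl⟩ := QuotientGroup.mk'_surjective Z w
      have hstep : ∀ x : P2, cP g x = x ∨ cP g x = x * eQ.symm (.a 2) := fun x => by
        have h1 := mem_centralizer_iff.1 hw _ (mem_map_of_mem q2 x.2)
        have h2 : ((x⁻¹ * cP g x : P2) : G ⧸ O) ∈ Z := by
          rw [← QuotientGroup.eq_one_iff, ← QuotientGroup.mk'_apply, Subgroup.coe_mul, Subgroup.coe_inv,
            MulAut.conjNormal_apply, map_mul, map_inv, map_mul, map_mul, map_inv, ← h1, mul_inv_cancel_right,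
            inv_mul_cancel]
        rcases hZmem _ h2 with h | h
        · exact Or.inl (inv_mul_eq_one.1 h).symm
        · exact Or.inr (inv_mul_eq_iff_eq_mul.1 h)
      have hA : ∀ i : QuaternionGroup 2, eQ (cP g (eQ.symm i)) = i ∨ eQ (cP g (eQ.symm i)) = i * .a 2 := fun i =>
        (hstep (eQ.symm i)).imp (fun h => by rw [h, eQ.apply_symm_apply])
          fun h => by rw [h, map_mul, eQ.apply_symm_apply, eQ.apply_symm_apply]
      obtain ⟨t, ht1, ht2⟩ := hinner _ _ (hA (.a 1)) (hA (.xa 0))
      set p : G ⧸ O := ((eQ.symm t : P2) : G ⧸ O) with hp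
      have hfix : cP (p⁻¹ * g) = 1 := by
        refine MulEquiv.ext fun x => ?_
        obtain ⟨i, j, hij⟩ := hgen (eQ x)
        have hx : x = eQ.symm (.xa 0) ^ j.val * eQ.symm (.a 1) ^ i.val := by
          rw [← map_pow, ← map_pow, ← map_mul, ← hij, eQ.symm_apply_apply]
        have hbase : ∀ i, eQ (cP g (eQ.symm i)) = t * i * t⁻¹ → cP (p⁻¹ * g) (eQ.symm i) = eQ.symm i := by
          intro i hi
          have h3 : cP g (eQ.symm i) = eQ.symm t * eQ.symm i * (eQ.symm t)⁻¹ := by
            rw [← map_inv, ← map_mul, ← map_mul, ← hi, eQ.symm_apply_apply]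
          rw [map_mul, MulAut.mul_apply, h3]
          apply Subtype.ext
          rw [MulAut.conjNormal_apply, Subgroup.coe_mul, Subgroup.coe_mul, Subgroup.coe_inv, hp]
          group
        rw [MulAut.one_apply, hx, map_mul, map_pow, map_pow, hbase _ ht1.symm, hbase _ ht2.symm]
      have hg : g = p * (p⁻¹ * g) := by group
      rw [hg]
      exact mem_map_of_mem _ (mul_mem (eQ.symm t).2 (hcker _ hfix))
    have hnot : ¬ IsPGroup 2 ((G ⧸ O) ⧸ Z) := fun h => by
      obtain ⟨j, hj⟩ := h (q2 o)
      rw [← map_pow, hq2, QuotientGroup.mk'_apply, QuotientGroup.eq_one_iff] at hj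
      obtain ⟨i, hi⟩ := hP2p ⟨_, hZle hj⟩
      have h' : o ^ (2 ^ j * 2 ^ i) = 1 := by rw [pow_mul]; exact congrArg Subtype.val hi
      rw [← pow_add] at h'
      exact ho1 (CfsgLib.Invol.eq_one_of_odd_of_pow_two ho h')
    have hzg : IsZGroup (q2.comp q).ker := by
      refine isZGroup_of_cyclic_image ψ q hqodd _ ?_
      haveI : IsCyclic Z := isCyclic_of_prime_card hcardZ
      refine isCyclic_of_injective (Subgroup.inclusion (K := Z) ?_) (Subgroup.inclusion_injective _)
      rintro _ ⟨x, hx, rfl⟩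
      rw [← QuotientGroup.eq_one_iff]
      exact hx
    have hsurj : Function.Surjective (q2.comp q) := (QuotientGroup.mk'_surjective Z).comp hqs
    rcases equiv_of_self_centralizing_four V hcardV hV2 hVC hnot with h4 | h4
    · obtain ⟨e4⟩ := h4
      refine ⟨(q2.comp q).ker, inferInstance, hzg, Or.inr (Or.inr (Or.inr (Or.inl
        ⟨e4.toMonoidHom.comp (q2.comp q), e4.surjective.comp hsurj, ?_⟩)))⟩
      exact Subgroup.ext fun x => e4.map_eq_one_iff
    · obtain ⟨e4⟩ := h4
      refine ⟨(q2.comp q).ker, inferInstance, hzg, Or.inr (Or.inr (Or.inl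
        ⟨e4.toMonoidHom.comp (q2.comp q), e4.surjective.comp hsurj, ?_⟩))⟩
      exact Subgroup.ext fun x => e4.map_eq_one_iff

include ψ in
/-- The six types, non-solvable case. -/
theorem exists_six_nonsolvable (hns : ¬ Group.IsSolvable G) :
    ∃ N : Subgroup G, N.Normal ∧ IsZGroup N ∧ SixType N := by
  classical
  haveI : Fact (Nat.Prime 2) := ⟨Nat.prime_two⟩
  obtain ⟨G0, hG0n, hidx, S, M, hSM, hinf, hcomm, ⟨eS⟩, hMcyc, hM30⟩ := nonsolvable_structure ψ hns
  haveI hOn : (Cfsg.pPrimeCore 2 G).Normal := Subgroup.sSup_normal _ fun _ h => h.1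
  set O := Cfsg.pPrimeCore 2 G with hO
  have hOodd : Odd (Nat.card O) := Nat.coprime_two_right.1 (Coprime.pPrimeCore_coprime Nat.prime_two)
  have hS120 : Nat.card S = 120 := by
    rw [Nat.card_congr eS.toEquiv]
    exact (Nat.card_eq_of_bijective el ⟨fun i j e => by rw [← idx_el i, e, idx_el],
        fun g => ⟨idx g, el_idx g⟩⟩).symm.trans (Nat.card_fin 120)
  have hSle : S ≤ G0 := hSM ▸ le_sup_left
  have hMle : M ≤ G0 := hSM ▸ le_sup_right
  let φ : S × M →* G := MonoidHom.noncommCoprod S.subtype M.subtype fun s m => hcomm _ s.2 _ m.2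
  have hφr : φ.range = G0 := by
    refine (MonoidHom.noncommCoprod_range S.subtype M.subtype _).trans ?_
    rw [Subgroup.range_subtype, Subgroup.range_subtype, hSM]
  have hdecomp : ∀ x ∈ G0, ∃ s ∈ S, ∃ m ∈ M, x = s * m := fun x hx => by
    rw [← hφr] at hx
    obtain ⟨⟨s, m⟩, rfl⟩ := hx
    exact ⟨s, s.2, m, m.2, rfl⟩
  have hφi : Function.Injective φ := by
    refine (injective_iff_map_eq_one _).2 fun ⟨s, m⟩ e => ?_
    have e' : (s : G) * m = 1 := e
    have hs : (s : G) ∈ S ⊓ M := ⟨s.2, by rw [eq_inv_of_mul_eq_one_left e']; exact M.inv_mem m.2⟩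
    rw [hinf, mem_bot] at hs
    rw [hs, one_mul] at e'
    exact Prod.ext (Subtype.ext hs) (Subtype.ext e')
  have hG0card : Nat.card G0 = 120 * Nat.card M := by
    rw [← hφr, ← Nat.card_congr (MonoidHom.ofInjective hφi).toEquiv, Nat.card_prod, hS120]
  haveI hSsub : ¬ Group.IsSolvable S := fun h => by
    haveI := h
    haveI : IsZGroup M := ⟨fun p hp P => by haveI := Fact.mk hp; exact hMcyc p P⟩
    haveI : Group.IsSolvable G0 := by
      have : Function.Surjective (φ.codRestrict G0 fun x => hφr ▸ ⟨x, rfl⟩) := fun ⟨g, hg⟩ => by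
        rw [← hφr] at hg
        obtain ⟨x, hx⟩ := hg
        exact ⟨x, Subtype.ext hx⟩
      exact Group.isSolvable_of_surjective this
    haveI : Group.IsSolvable (G ⧸ G0) := isSolvable_of_dvd_sixty
      (by rw [← index_eq_card]; rcases hidx with h | h <;> rw [h] <;> norm_num)
      (by rw [← index_eq_card]; rcases hidx with h | h <;> rw [h] <;> norm_num)
    exact hns ((Group.isSolvable_iff_subgroup_quotient G0).2 ⟨‹_›, ‹_›⟩)
  haveI hMn : M.Normal := ⟨fun m hm g => by
    obtain ⟨s, hs, m', hm', e⟩ := hdecomp _ (hG0n.conj_mem m (hMle hm) g)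
    have h1 : (g * m * g⁻¹) ^ Nat.card M = 1 := by
      rw [conj_pow, show m ^ Nat.card M = 1 from congrArg Subtype.val (pow_card_eq_one' (x := (⟨m, hm⟩ : M)))]
      group
    rw [e, (show Commute s m' from hcomm s hs m' hm').mul_pow,
      show m' ^ Nat.card M = 1 from congrArg Subtype.val (pow_card_eq_one' (x := (⟨m', hm'⟩ : M))), mul_one] at h1
    have h2 : orderOf s ∣ 120 := hS120 ▸ (Subgroup.orderOf_mk s hs ▸ orderOf_dvd_natCard (⟨s, hs⟩ : S))
    have hs1 : s = 1 := orderOf_eq_one_iff.1 (Nat.eq_one_of_dvd_coprimes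
      ((hM30.pow_right 3).coprime_dvd_right (by norm_num)) (orderOf_dvd_of_pow_eq_one h1) h2)
    rw [e, hs1, one_mul]
    exact hm'⟩
  have hModd : Odd (Nat.card M) := Nat.coprime_two_right.1 (hM30.coprime_dvd_right (by norm_num))
  have hMO : M ≤ O := Coprime.le_pPrimeCore (Nat.coprime_two_right.2 hModd)
  have hOG0 : O ≤ G0 := fun x hx => by
    rw [← QuotientGroup.eq_one_iff (N := G0), ← orderOf_eq_one_iff]
    refine Nat.eq_one_of_dvd_coprimes (Nat.coprime_two_right.2 hOodd)
      ((orderOf_map_dvd (QuotientGroup.mk' G0) x).trans ?_) ((_root_.orderOf_dvd_natCard _).trans ?_)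
    · rw [← Subgroup.orderOf_mk x hx]; exact _root_.orderOf_dvd_natCard _
    · rw [← index_eq_card]; rcases hidx with h | h <;> simp [h]
  have hOM : O ≤ M := by
    have hK : O ⊓ S = ⊥ := by
      by_contra hne
      set K := (O ⊓ S).subgroupOf S with hK
      haveI : K.Normal := by rw [hK, Subgroup.inf_subgroupOf_right]; infer_instance
      have hKodd : Odd (Nat.card K) := by
        rw [hK, Nat.card_congr (Subgroup.subgroupOfEquivOfLe inf_le_right).toEquiv]
        exact hOodd.of_dvd_nat (card_dvd_of_le inf_le_left)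
      have h1 := K.card_mul_index
      rw [hS120] at h1
      have hKd : Nat.card K ∣ 15 :=
        (Nat.Coprime.dvd_mul_left (Nat.Coprime.pow_right 3 (Nat.coprime_two_right.2 hKodd))).1
          (show Nat.card K ∣ 2 ^ 3 * 15 from Dvd.intro _ h1)
      haveI : Group.IsSolvable K := isSolvable_of_dvd_sixty (hKd.trans (by norm_num))
        fun e => absurd (Nat.le_of_dvd (by norm_num) hKd) (by rw [e]; norm_num)
      have hK1 : Nat.card K ≠ 1 := fun e => hne (by
        rw [hK, Nat.card_congr (Subgroup.subgroupOfEquivOfLe inf_le_right).toEquiv] at e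
        exact card_eq_one.1 e)
      haveI : Group.IsSolvable (S ⧸ K) := by
        have h15 := Nat.le_of_dvd (by norm_num) hKd
        rcases (show Nat.card K = 3 ∨ Nat.card K = 5 ∨ Nat.card K = 15 by
          interval_cases hh : Nat.card K <;> simp_all (config := {decide := true})) with e | e | e
        · exact isSolvable_of_card_two_primes Nat.prime_two Nat.prime_five _ 3 1 (by rw [← index_eq_card]; rw [e] at h1; omega)
        · exact isSolvable_of_card_two_primes Nat.prime_two Nat.prime_three _ 3 1 (by rw [← index_eq_card]; rw [e] at h1; omega)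
        · exact isSolvable_of_card_two_primes Nat.prime_two Nat.prime_three _ 3 0 (by rw [← index_eq_card]; rw [e] at h1; omega)
      exact hSsub ((Group.isSolvable_iff_subgroup_quotient K).2 ⟨‹_›, ‹_›⟩)
    intro x hx
    obtain ⟨s, hs, m, hm, rfl⟩ := hdecomp x (hOG0 hx)
    have : s ∈ O ⊓ S := ⟨by simpa using mul_mem hx (inv_mem (hMO hm)), hs⟩
    rw [hK, mem_bot] at this
    rw [this, one_mul]; exact hm
  obtain ⟨z, hzS, hz⟩ : ∃ z ∈ S, orderOf z = 2 := by
    obtain ⟨⟨z, hzS⟩, hz⟩ := exists_prime_orderOf_dvd_card' (G := S) 2 (by rw [hS120]; norm_num)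
    exact ⟨z, hzS, by rwa [Subgroup.orderOf_mk] at hz⟩
  have hzc : ∀ g, g * z * g⁻¹ = z := fun g => by
    have hz' := CfsgLib.Invol.invol_conj hz g
    refine unique_involution ψ ?_ (CfsgLib.Invol.invol_ne_one hz') ?_ (CfsgLib.Invol.invol_ne_one hz)
    · rw [← hz', pow_orderOf_eq_one]
    · rw [← hz, pow_orderOf_eq_one]
  set q := QuotientGroup.mk' O with hq
  set Zz := zpowers (q z) with hZz
  haveI : Zz.Normal := ⟨fun x hx w => by
    obtain ⟨i, rfl⟩ := mem_zpowers_iff.1 hx
    obtain ⟨g, rfl⟩ := QuotientGroup.mk'_surjective O w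
    rw [← conj_zpow, ← map_inv, ← map_mul, ← map_mul, hzc]
    exact zpow_mem (mem_zpowers _) _⟩
  set f := (QuotientGroup.mk' Zz).comp q with hf
  have hfs : Function.Surjective f := (QuotientGroup.mk'_surjective Zz).comp (QuotientGroup.mk'_surjective O)
  set N := f.ker with hN
  have hqodd : Odd (Nat.card q.ker) := by rw [hq, QuotientGroup.ker_mk']; exact hOodd
  have hzO : z ∉ O := fun h => by
    have := hOodd.of_dvd_nat ((hz ▸ Subgroup.orderOf_mk z h ▸ orderOf_dvd_natCard _ : 2 ∣ Nat.card O))
    exact absurd this (by decide)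
  have hqz : orderOf (q z) = 2 := orderOf_eq_prime
    (by rw [← map_pow, ← hz, pow_orderOf_eq_one, map_one])
    (fun h => hzO ((QuotientGroup.eq_one_iff z).1 h))
  have hZzc : Nat.card Zz = 2 := by rw [hZz, Nat.card_zpowers, hqz]
  have hNz : IsZGroup N := by
    refine isZGroup_of_cyclic_image ψ q hqodd N ?_
    haveI : IsCyclic Zz := isCyclic_of_prime_card hZzc
    refine isCyclic_of_injective (Subgroup.inclusion (K := Zz) ?_) (Subgroup.inclusion_injective _)
    rintro _ ⟨x, hx, rfl⟩
    rw [← QuotientGroup.eq_one_iff]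
    exact hx
  -- the order of the image of `G₀`
  set X0 := G0.map f with hX0
  haveI : X0.Normal := hX0 ▸ Subgroup.Normal.map hG0n f hfs
  have hNG0 : N ≤ G0 := fun x hx => by
    obtain ⟨i, hi⟩ := mem_zpowers_iff.1 ((QuotientGroup.eq_one_iff (q x)).1 hx)
    rw [← map_zpow, eq_comm] at hi
    obtain ⟨w, hw, e⟩ := (QuotientGroup.mk'_eq_mk' O).1 hi.symm
    rw [← e]
    exact mul_mem (zpow_mem (hSle hzS) i) (hOG0 hw)
  have hcardN : Nat.card N = 2 * Nat.card M := by
    have h1 := Subgroup.card_mul_index (q.subgroupMap N).ker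
    rw [index_ker, MonoidHom.range_eq_top.2 (q.subgroupMap_surjective N), card_top] at h1
    have h2 : Nat.card (q.subgroupMap N).ker = Nat.card M := by
      have hON : O ≤ N := fun x hx => by
        rw [hN, MonoidHom.mem_ker, hf, MonoidHom.comp_apply, show q x = 1 from (QuotientGroup.eq_one_iff x).2 hx,
          map_one]
      rw [Subgroup.ker_subgroupMap, hq, QuotientGroup.ker_mk',
        Nat.card_congr (Subgroup.subgroupOfEquivOfLe hON).toEquiv, le_antisymm hOM hMO]
    have h3 : N.map q = Zz := by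
      refine le_antisymm ?_ ?_
      · rintro _ ⟨x, hx, rfl⟩
        exact (QuotientGroup.eq_one_iff (q x)).1 hx
      · rw [hZz, zpowers_le]
        exact ⟨z, (QuotientGroup.eq_one_iff (q z)).2 (mem_zpowers _), rfl⟩
    rw [h2, h3, hZzc] at h1
    omega
  have hX0card : Nat.card X0 = 60 := by
    have h1 := Subgroup.card_mul_index (f.subgroupMap G0).ker
    rw [index_ker, MonoidHom.range_eq_top.2 (f.subgroupMap_surjective G0), card_top] at h1
    have h2 : Nat.card (f.subgroupMap G0).ker = 2 * Nat.card M := by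
      rw [Subgroup.ker_subgroupMap, ← hN, Nat.card_congr (Subgroup.subgroupOfEquivOfLe hNG0).toEquiv, hcardN]
    rw [h2, hG0card] at h1
    change 2 * Nat.card M * Nat.card X0 = 120 * Nat.card M at h1
    have hpos : 0 < Nat.card M := Nat.card_pos
    nlinarith
  have hX0ns : ¬ Group.IsSolvable X0 := fun h => by
    haveI := h
    haveI : Group.IsSolvable (f.subgroupMap G0).ker := by
      haveI := hNz
      refine Group.isSolvable_of_isSolvable_injective (G' := N)
        (f := (Subgroup.inclusion (?_ : (f.subgroupMap G0).ker ≤ N.subgroupOf G0)) |> fun i =>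
          (Subgroup.subgroupOfEquivOfLe hNG0).toMonoidHom.comp i) ?_
      · rw [Subgroup.ker_subgroupMap, hN]
      · exact (Subgroup.subgroupOfEquivOfLe hNG0).injective.comp (Subgroup.inclusion_injective _)
    haveI : Group.IsSolvable G0 := by
      haveI : Group.IsSolvable (G0 ⧸ (f.subgroupMap G0).ker) :=
        Group.isSolvable_of_surjective (f := (QuotientGroup.quotientKerEquivOfSurjective (f.subgroupMap G0)
          (f.subgroupMap_surjective G0)).symm.toMonoidHom) (MulEquiv.surjective _)
      exact (Group.isSolvable_iff_subgroup_quotient (f.subgroupMap G0).ker).2 ⟨‹_›, ‹_›⟩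
    exact hSsub (Group.isSolvable_of_isSolvable_injective (f := Subgroup.inclusion hSle) (Subgroup.inclusion_injective _))
  haveI hX0s := isSimple_of_card_sixty hX0card hX0ns
  have hX0nc : ¬ IsMulCommutative X0 := fun h => hX0ns (Group.isSolvable_of_comm fun a b => h.is_comm.comm a b)
  obtain ⟨eA⟩ := Cfsg.Agent.S0494.result (G := X0) hX0card
  rcases hidx with h1 | h2'
  · have htop : X0 = ⊤ := by rw [hX0, index_eq_one.1 h1, map_top_of_surjective f hfs]
    refine ⟨N, inferInstance, hNz, Or.inr (Or.inr (Or.inr (Or.inr (Or.inl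
      ⟨(eA.toMonoidHom.comp (Subgroup.topEquiv.symm.trans (MulEquiv.subgroupCongr htop.symm)).toMonoidHom).comp f,
        (eA.surjective.comp (MulEquiv.surjective _)).comp hfs, ?_⟩))))⟩
    ext x
    simp [hN, MonoidHom.mem_ker]
  · set X := ((G ⧸ O) ⧸ Zz)
    have hXcard : Nat.card X = 120 := by
      have e1 : Nat.card X * Nat.card N = Nat.card G := by
        rw [← N.card_mul_index, hN, index_ker, MonoidHom.range_eq_top.2 hfs, card_top, mul_comm]
      rw [hcardN, ← G0.card_mul_index, h2', hG0card] at e1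
      have hpos : 0 < Nat.card M := Nat.card_pos
      nlinarith
    have hctr : centralizer (X0 : Set X) = ⊥ := by
      set D := centralizer (X0 : Set X) with hD
      have hDX : D ⊓ X0 = ⊥ := by
        by_contra hne
        haveI : (D.subgroupOf X0).Normal := by
          rw [hD]
          infer_instance
        rcases hX0s.eq_bot_or_eq_top_of_normal (D.subgroupOf X0) inferInstance with h | h
        · refine hne (eq_bot_iff.2 fun x hx => ?_)
          have : (⟨x, hx.2⟩ : X0) ∈ D.subgroupOf X0 := hx.1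
          rw [h, mem_bot] at this
          exact congrArg Subtype.val this
        · refine hX0nc ⟨⟨fun u v => Subtype.ext ?_⟩⟩
          have : (v : X) ∈ D := (h ▸ mem_top v : v ∈ D.subgroupOf X0)
          exact mem_centralizer_iff.1 this u u.2
      by_contra hne
      obtain ⟨⟨c, hc⟩, hc1⟩ := D.ne_bot_iff_exists_ne_one.1 hne
      have hc1' : c ≠ 1 := fun e => hc1 (Subtype.ext e)
      have hcX : c ∉ X0 := fun h => hc1' (mem_bot.1 (hDX ▸ ⟨hc, h⟩))
      have hi2 : X0.index = 2 := by
        have := X0.card_mul_index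
        rw [hX0card, hXcard] at this
        omega
      have hc2 : c * c = 1 := by
        have h : c * c ∈ D ⊓ X0 := ⟨mul_mem hc hc, (mul_mem_iff_of_index_two hi2).2 Iff.rfl⟩
        rwa [hDX, mem_bot] at h
      obtain ⟨u, v, hu, hv, huv, hu1, hv1, huv'⟩ : ∃ u v : X0, u * u = 1 ∧ v * v = 1 ∧ u * v = v * u ∧
          u ≠ 1 ∧ v ≠ 1 ∧ u ≠ v := by
        obtain ⟨u, v, h⟩ : ∃ u v : alternatingGroup (Fin 5), u * u = 1 ∧ v * v = 1 ∧ u * v = v * u ∧
            u ≠ 1 ∧ v ≠ 1 ∧ u ≠ v :=
          ⟨⟨Equiv.swap 0 1 * Equiv.swap 2 3, by rw [Equiv.Perm.mem_alternatingGroup]; decide⟩,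
            ⟨Equiv.swap 0 2 * Equiv.swap 1 3, by rw [Equiv.Perm.mem_alternatingGroup]; decide⟩, by decide +kernel⟩
        refine ⟨eA.symm u, eA.symm v, ?_, ?_, ?_, ?_, ?_, ?_⟩ <;>
          simp only [← map_mul, ne_eq, EmbeddingLike.map_eq_one_iff, EmbeddingLike.apply_eq_iff_eq, h.1, h.2.1,
            h.2.2.1, map_one, h.2.2.2.1, h.2.2.2.2.1, h.2.2.2.2.2, not_false_eq_true]
      set E := Subgroup.closure ({(u : X), (v : X), c} : Set X) with hE
      have hgen : ∀ w ∈ ({(u : X), (v : X), c} : Set X), w * w = 1 := by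
        rintro w (rfl | rfl | rfl)
        · exact congrArg Subtype.val hu
        · exact congrArg Subtype.val hv
        · exact hc2
      have hEc : IsMulCommutative E := Subgroup.isMulCommutative_closure (k := {(u : X), (v : X), c}) (by
        have hcu := mem_centralizer_iff.1 hc u u.2
        have hcv := mem_centralizer_iff.1 hc v v.2
        have huv2 : (u : X) * v = v * u := congrArg Subtype.val huv
        rintro x (rfl | rfl | rfl) y (rfl | rfl | rfl) <;>
          first | rfl | exact huv2 | exact huv2.symm | exact hcu | exact hcu.symm | exact hcv | exact hcv.symm)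
      have hE2 : ∀ w ∈ E, w * w = 1 := fun w hw => by
        refine Subgroup.closure_induction (fun a ha => hgen a ha) (one_mul 1)
          (fun a b ha hb ha' hb' => ?_) (fun a _ ha' => by rw [← mul_inv_rev, ha', inv_one]) hw
        have hab : a * b = b * a := congrArg Subtype.val (hEc.is_comm.comm ⟨a, ha⟩ ⟨b, hb⟩)
        rw [show a * b * (a * b) = a * (b * a) * b by group, ← hab,
          show a * (a * b) * b = (a * a) * (b * b) by group, ha', hb', one_mul]
      obtain ⟨P⟩ : Nonempty (Sylow 2 G) := inferInstance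
      obtain ⟨R, hR⟩ := (show IsPGroup 2 E from fun w => ⟨1, Subtype.ext (by
        rw [pow_one, pow_two]; exact hE2 w w.2)⟩).exists_le_sylow
      obtain ⟨g, hg⟩ := MulAction.exists_smul_eq X (P.mapSurjective hfs) R
      obtain ⟨g', rfl⟩ := hfs g
      set Q : Subgroup G := ((g' • P : Sylow 2 G) : Subgroup G) with hQ
      have hQmap : ∀ w ∈ E, ∃ x ∈ Q, f x = w := fun w hw => by
        have := hR hw
        rw [← hg] at this
        obtain ⟨y, hy, e⟩ := this
        obtain ⟨x, hx, rfl⟩ := mem_map.1 hy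
        refine ⟨g' * x * g'⁻¹, ⟨x, hx, rfl⟩, ?_⟩
        rw [map_mul, map_mul, map_inv]
        exact e
      set QE : Subgroup G := Q ⊓ E.comap f with hQE
      have hQEu : Coprime.UniqueOrderP 2 QE := uniqueOrderP_sylow ψ _ ((g' • P : Sylow 2 G).isPGroup'.to_le inf_le_left)
      have h4 := card_range_le_four ((g' • P : Sylow 2 G).isPGroup'.to_le (inf_le_left : QE ≤ Q)) hQEu
        (f.comp QE.subtype) fun x => hE2 _ x.2.2
      have hcard : 5 ≤ Nat.card (f.comp QE.subtype).range := by
        have hmem : ∀ w ∈ E, w ∈ (f.comp QE.subtype).range := fun w hw => by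
          obtain ⟨x, hx, e⟩ := hQmap w hw
          exact ⟨⟨x, hx, show f x ∈ E from e.symm ▸ hw⟩, e⟩
        have huvne : u * v ≠ 1 := fun e => huv' (by
          rw [eq_inv_of_mul_eq_one_left e, inv_eq_of_mul_eq_one_right hv])
        have q0 : ∀ w : X0, w ≠ 1 → (w : X) ≠ 1 := fun w h e => h (Subtype.ext e)
        have hcu : ∀ w : X0, c ≠ w := fun w e => hcX (e ▸ w.2)
        have n4 : (u : X) ≠ v := fun e => huv' (Subtype.ext e)
        have n5 : ((u * v : X0) : X) ≠ u := fun e => hv1 (by
          have := Subtype.ext e; rwa [mul_eq_left] at this)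
        have n6 : ((u * v : X0) : X) ≠ v := fun e => hu1 (by
          have := Subtype.ext e; rwa [mul_eq_right] at this)
        let F5 : Finset X := {c, ((u * v : X0) : X), (u : X), (v : X), 1}
        have hF5 : F5.card = 5 := by
          simp only [F5]
          rw [Finset.card_insert_of_notMem, Finset.card_insert_of_notMem, Finset.card_insert_of_notMem,
            Finset.card_insert_of_notMem, Finset.card_singleton]
          · simpa using q0 v hv1
          · simp only [Finset.mem_insert, Finset.mem_singleton, not_or]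
            exact ⟨n4, q0 u hu1⟩
          · simp only [Finset.mem_insert, Finset.mem_singleton, not_or]
            exact ⟨n5, n6, q0 _ huvne⟩
          · simp only [Finset.mem_insert, Finset.mem_singleton, not_or]
            exact ⟨hcu _, hcu u, hcu v, hc1'⟩
        have hsub : ∀ w : F5, (w : X) ∈ (f.comp QE.subtype).range := by
          rintro ⟨w, hw⟩
          simp only [F5, Finset.mem_insert, Finset.mem_singleton] at hw
          have hu' : (u : X) ∈ E := subset_closure (by simp)
          have hv' : (v : X) ∈ E := subset_closure (by simp)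
          rcases hw with rfl | rfl | rfl | rfl | rfl
          · exact hmem _ (subset_closure (by simp))
          · exact hmem _ (mul_mem hu' hv')
          · exact hmem _ hu'
          · exact hmem _ hv'
          · exact one_mem _
        have := Nat.card_le_card_of_injective (fun w : F5 => (⟨w, hsub w⟩ : (f.comp QE.subtype).range))
          (fun i j e => Subtype.ext (Subtype.mk.inj e))
        rwa [Nat.card_eq_fintype_card, Fintype.card_coe, hF5] at this
      omega
    haveI : (alternatingGroup (Fin 5)).Normal := alternatingGroup.normal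
    let ψX : X →* MulAut (alternatingGroup (Fin 5)) := (MulAut.congr eA).toMonoidHom.comp MulAut.conjNormal
    have hψX : Function.Injective ψX := (MulAut.congr eA).injective.comp ((injective_iff_map_eq_one _).2 fun x hx => by
      refine mem_bot.1 (hctr ▸ mem_centralizer_iff.2 fun w hw => ?_)
      have h := congrArg (fun s : MulAut X0 => ((s ⟨w, hw⟩ : X0) : X)) hx
      simp only [MulAut.conjNormal_apply, MulAut.one_apply] at h
      exact (mul_inv_eq_iff_eq_mul.1 h).symm)
    let eP5 := MulEquiv.ofBijective (MulAut.conjNormal : Equiv.Perm (Fin 5) →* MulAut (alternatingGroup (Fin 5)))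
      (CfsgLib.Perm.Groups.AltAut.conjNormal_bijective (Ω := Fin 5) (by rw [Fintype.card_fin]; norm_num)
        (by rw [Fintype.card_fin]; norm_num))
    have hb : Function.Bijective (eP5.symm.toMonoidHom.comp ψX) := by
      refine (Nat.bijective_iff_injective_and_card _).2 ⟨eP5.symm.injective.comp hψX, ?_⟩
      rw [hXcard, Nat.card_perm, Nat.card_fin]; rfl
    refine ⟨N, inferInstance, hNz, Or.inr (Or.inr (Or.inr (Or.inr (Or.inr
      ⟨(eP5.symm.toMonoidHom.comp ψX).comp f, hb.2.comp hfs, ?_⟩))))⟩
    ext x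
    rw [hN, MonoidHom.mem_ker, MonoidHom.mem_ker, MonoidHom.comp_apply]
    exact map_eq_one_iff _ hb.1

include ψ in
/-- A fixed-point-free group has a normal subgroup of one of the six types. -/
theorem exists_six : ∃ N : Subgroup G, N.Normal ∧ IsZGroup N ∧ SixType N := by
  by_cases hs : Group.IsSolvable G
  · exact exists_six_solvable ψ
  · exact exists_six_nonsolvable ψ hs

end CfsgLib.Char.Zassenhaus
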