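/-
Lifting: a fixed-point-free matrix representation in characteristic prime to the group order gives a nonzero
rational function on the group whose sums along all nontrivial cyclic cosets vanish.
-/
import Cfsg.Agent.Lib.Block.Lift
import Mathlib.RepresentationTheory.Maschke
import Mathlib.LinearAlgebra.Matrix.ToLin
import Mathlib.LinearAlgebra.Dual.Lemmas

set_option autoImplicit false

namespace CfsgLib.Char.Zassenhaus

open Cfsg CfsgLib.Block MonoidAlgebra

variable {G : Type*} [Group G] [Finite G]

/-- A sum over the powers of a fixed-point-free matrix vanishes. -/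
theorem sum_pow_eq_zero {R ι : Type*} [CommRing R] [Fintype ι] [DecidableEq ι]
    (φ : G →* Matrix ι ι R) {x : G} (h : ∀ v, Matrix.mulVec (φ x) v = v → v = 0) :
    ∑ i ∈ Finset.range (orderOf x), φ (x ^ i) = 0 := by
  set S := ∑ i ∈ Finset.range (orderOf x), φ (x ^ i)
  have hxS : φ x * S = S := by
    simp only [S, Finset.mul_sum, ← map_mul, ← pow_succ']
    have h1 := Finset.sum_range_succ' (fun i => φ (x ^ i)) (orderOf x)
    have h2 := Finset.sum_range_succ (fun i => φ (x ^ i)) (orderOf x)
    rw [h1] at h2
    simp only [pow_orderOf_eq_one, pow_zero] at h2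
    exact add_right_cancel h2
  refine Matrix.ext_of_mulVec_single fun j => ?_
  rw [h (S.mulVec (Pi.single j 1)) (by rw [Matrix.mulVec_mulVec, hxS]), Matrix.zero_mulVec]

theorem exists_ratKernel {p : ℕ} [Fact p.Prime] (hp : ¬ p ∣ Nat.card G) {ι : Type*} [Fintype ι]
    [DecidableEq ι] [Nonempty ι] (φ : G →* Matrix ι ι (ZMod p))
    (hφ : ∀ g : G, g ≠ 1 → ∀ v, Matrix.mulVec (φ g) v = v → v = 0) :
    ∃ w : G → ℚ, w ≠ 0 ∧ ∀ x : G, x ≠ 1 → ∀ h, ∑ i ∈ Finset.range (orderOf x), w (x ^ i * h) = 0 := by
  classical
  letI := Fintype.ofFinite G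
  obtain ⟨M, hM⟩ : ∃ M : Ideal AlgInt, IsPModular p M := exists_pModular (Fact.out : p.Prime)
  haveI : M.IsMaximal := hM.2.1
  haveI := charP_resField hM
  let k := ResField M
  haveI : NeZero (Nat.card G : k) := ⟨fun h => hp ((CharP.cast_eq_zero_iff k p _).1 h)⟩
  let c : ZMod p →+* k := ZMod.castHom dvd_rfl k
  let Φ : G →* Matrix ι ι k := c.mapMatrix.toMonoidHom.comp φ
  let π : MonoidAlgebra k G →ₐ[k] Matrix ι ι k := MonoidAlgebra.lift k (Matrix ι ι k) G Φ
  let I : Submodule (MonoidAlgebra k G) (MonoidAlgebra k G) := RingHom.ker π.toRingHom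
  have hI : ∀ a, a ∈ I ↔ π a = 0 := fun a => RingHom.mem_ker
  obtain ⟨q, hq⟩ := MonoidAlgebra.Submodule.exists_isCompl I
  obtain ⟨e, he, a, ha, hea⟩ := Submodule.mem_sup.1 (hq.sup_eq_top.ge (Submodule.mem_top : (1 : MonoidAlgebra k G) ∈ ⊤))
  have hzero : ∀ x ∈ I, x * a = 0 := fun x hx => by
    have h1 : x * a ∈ q := q.smul_mem x ha
    have h2 : x * a ∈ I := (hI _).2 (by rw [map_mul, (hI x).1 hx, zero_mul])
    exact (Submodule.disjoint_def.1 hq.disjoint) _ h2 h1
  have haa : a * a = a := by
    calc a * a = (e + a) * a := by rw [add_mul, hzero e he, zero_add]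
      _ = a := by rw [hea, one_mul]
  have ha0 : a ≠ 0 := fun h => by
    rw [h, add_zero] at hea
    have := (hI e).1 he
    rw [hea, map_one] at this
    exact one_ne_zero this
  choose l hl using fun c : ResField M => res_surjective (M := M) c
  obtain ⟨poly, hE, hE'⟩ := exists_lift_idem (gaOfFun fun x => l (a.coeff x))
    (by rw [show toK M (gaOfFun fun x => l (a.coeff x)) = a from ga_ext fun x => by simp [hl]]; exact haa)
  set E := Polynomial.aeval (gaOfFun fun x => l (a.coeff x)) poly
  rw [show toK M (gaOfFun fun x => l (a.coeff x)) = a from ga_ext fun x => by simp [hl]] at hE'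
  have hker : ∀ x : G, x ≠ 1 → (∑ i ∈ Finset.range (orderOf x), single (x ^ i) (1 : locRing M)) * E = 0 := by
    intro x hx
    set N := ∑ i ∈ Finset.range (orderOf x), single (x ^ i) (1 : locRing M) with hNdef
    have hN2 : N * N = (orderOf x : locRing M) • N := by
      have hx1 : single x (1 : locRing M) * N = N := by
        simp only [hNdef, Finset.mul_sum, single_mul_single, one_mul, ← pow_succ']
        have h1 := Finset.sum_range_succ' (fun i => single (x ^ i) (1 : locRing M)) (orderOf x)
        have h2 := Finset.sum_range_succ (fun i => single (x ^ i) (1 : locRing M)) (orderOf x)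
        rw [h1] at h2
        simp only [pow_orderOf_eq_one, pow_zero] at h2
        exact add_right_cancel h2
      have hxi : ∀ i : ℕ, single (x ^ i) (1 : locRing M) * N = N := by
        intro i
        induction i with
        | zero => rw [pow_zero, ← MonoidAlgebra.one_def, one_mul]
        | succ i ih =>
          rw [pow_succ, show single (x ^ i * x) (1 : locRing M) = single (x ^ i) 1 * single x 1 by
            rw [single_mul_single, one_mul], mul_assoc, hx1, ih]
      conv_lhs => enter [1]; rw [hNdef]
      rw [Finset.sum_mul, Finset.sum_congr rfl fun i _ => hxi i, Finset.sum_const, Finset.card_range,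
        Nat.cast_smul_eq_nsmul]
    have hNk : toK M N * a = 0 := by
      refine hzero _ ((hI _).2 ?_)
      rw [hNdef, map_sum, map_sum]
      have h0 : ∑ i ∈ Finset.range (orderOf x), φ (x ^ i) = 0 := sum_pow_eq_zero φ (hφ x hx)
      have h1 := congrArg c.mapMatrix h0
      rw [map_sum, map_zero] at h1
      refine Eq.trans (Finset.sum_congr rfl fun i _ => ?_) h1
      rw [show toK M (single (x ^ i) (1 : locRing M)) = single (x ^ i) (1 : k) from by
        simp [toK, MonoidAlgebra.mapRingHom_single]]
      simp [π, Φ]
    let T : (G → locRing M) →ₗ[locRing M] (G → locRing M) :=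
      { toFun := fun v g => (N * gaOfFun v * E).coeff g
        map_add' := fun v w => by
          funext g
          rw [show gaOfFun (v + w) = gaOfFun v + gaOfFun w from ga_ext fun _ => by simp, mul_add, add_mul]
          simp
        map_smul' := fun r v => by
          funext g
          rw [show gaOfFun (r • v) = r • gaOfFun v from ga_ext fun _ => by simp, Algebra.mul_smul_comm,
            Algebra.smul_mul_assoc]
          simp }
    let A := LinearMap.toMatrix' T
    have hTT : A * A = (orderOf x : locRing M) • A := by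
      rw [← LinearMap.toMatrix'_comp, ← map_smul]
      congr 1
      refine LinearMap.ext fun v => funext fun g => ?_
      show (N * gaOfFun (fun h => (N * gaOfFun v * E).coeff h) * E).coeff g = _
      rw [show gaOfFun (fun h => (N * gaOfFun v * E).coeff h) = N * gaOfFun v * E from ga_ext fun _ => by simp,
        show N * (N * gaOfFun v * E) * E = N * N * gaOfFun v * (E * E) by simp only [mul_assoc], hN2, hE,
        Algebra.smul_mul_assoc, Algebra.smul_mul_assoc]
      simp [T]
    have hA0 : (res M).mapMatrix A = 0 := by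
      ext g h
      show res M ((N * gaOfFun (Pi.single h 1) * E).coeff g) = 0
      rw [← coeff_toK, map_mul, map_mul, hE']
      have : toK M N * toK M (gaOfFun (Pi.single h 1)) * a = 0 := by
        refine hzero _ ((hI _).2 ?_)
        have hπN : π (toK M N) = 0 := by
          rw [hNdef, map_sum, map_sum]
          have h1 := congrArg c.mapMatrix (sum_pow_eq_zero φ (hφ x hx))
          rw [map_sum, map_zero] at h1
          refine Eq.trans (Finset.sum_congr rfl fun i _ => ?_) h1
          rw [show toK M (single (x ^ i) (1 : locRing M)) = single (x ^ i) (1 : k) from by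
            simp [toK, MonoidAlgebra.mapRingHom_single]]
          simp [π, Φ]
        rw [map_mul, hπN, zero_mul]
      rw [this]; simp
    have hU : IsUnit ((orderOf x : locRing M) • (1 : Matrix G G (locRing M)) - A).det := by
      refine isUnit_locRing_of_res_ne_zero ?_
      rw [RingHom.map_det, map_sub, hA0, sub_zero]
      have : (res M).mapMatrix ((orderOf x : locRing M) • (1 : Matrix G G (locRing M))) =
          (orderOf x : ResField M) • (1 : Matrix G G (ResField M)) := by
        ext i j
        simp [Matrix.one_apply, apply_ite (res M)]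
      rw [this, Matrix.det_smul, Matrix.det_one, mul_one]
      refine pow_ne_zero _ fun h => hp ?_
      exact ((CharP.cast_eq_zero_iff k p _).1 h).trans (orderOf_dvd_natCard x)
    have hAeq : A = 0 := by
      have h1 : ((orderOf x : locRing M) • (1 : Matrix G G (locRing M)) - A) * A = 0 := by
        rw [sub_mul, smul_mul_assoc, one_mul, hTT, sub_self]
      have h2 := congrArg (((orderOf x : locRing M) • (1 : Matrix G G (locRing M)) - A)⁻¹ * ·) h1
      simpa [← mul_assoc, Matrix.nonsing_inv_mul _ hU] using h2
    refine ga_ext fun g => ?_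
    have h3 : T = 0 := LinearMap.toMatrix'.injective (by rw [map_zero]; exact hAeq)
    have := congrFun (LinearMap.congr_fun h3 (Pi.single 1 1)) g
    rw [show (T (Pi.single (1 : G) 1)) g = (N * gaOfFun (Pi.single 1 1) * E).coeff g from rfl,
      show gaOfFun (Pi.single (1 : G) (1 : locRing M)) = 1 from ga_ext fun h => by
        simp [MonoidAlgebra.one_def, Pi.single_apply, Finsupp.single_apply, eq_comm], mul_one] at this
    simpa using this
  have hE0 : E ≠ 0 := fun h => ha0 (by rw [← hE', h, map_zero])
  obtain ⟨h0, hh0⟩ : ∃ h, (E.coeff h : ℂ) ≠ 0 := by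
    by_contra hc
    push Not at hc
    exact hE0 (ga_ext fun g => Subtype.ext (by simpa using hc g))
  obtain ⟨ψ, hψ⟩ : ∃ ψ : Module.Dual ℚ ℂ, ψ (E.coeff h0 : ℂ) ≠ 0 := by
    by_contra hc
    push Not at hc
    exact hh0 ((Module.forall_dual_apply_eq_zero_iff ℚ _).1 hc)
  refine ⟨fun g => ψ (E.coeff g : ℂ), fun h => hψ (congrFun h h0), fun x hx h => ?_⟩
  have h1 := congrArg (fun z => (z.coeff h : ℂ)) (hker x⁻¹ (inv_ne_one.2 hx))
  simp only [Finset.sum_mul, coeff_sum_apply, coeff_single_mul', one_mul, orderOf_inv, inv_pow, inv_inv,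
    AddSubmonoidClass.coe_finset_sum] at h1
  rw [← map_sum, h1]
  simp

end CfsgLib.Char.Zassenhaus
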