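/-
Unitary fixed-point-free representations in which every primitive root of unity of the order of an element
is an eigenvalue of it, and their construction from a fixed-point-free representation modulo a prime.
-/
import Cfsg.Agent.Lib.Char.Zassenhaus.Lift
import Mathlib.Analysis.InnerProductSpace.Adjoint
import Mathlib.Analysis.InnerProductSpace.PiL2
import Mathlib.RingTheory.Polynomial.Cyclotomic.Roots

set_option autoImplicit false

namespace CfsgLib.Char.Zassenhaus

open Matrix

/-- A unitary fixed-point-free representation with all primitive eigenvalues. -/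
structure ZRep (G : Type*) [Group G] where
  /-- The degree. -/
  n : ℕ
  /-- The representation. -/
  rho : G →* Matrix (Fin n) (Fin n) ℂ
  star_rho : ∀ g, star (rho g) = rho g⁻¹
  fpf : ∀ g, g ≠ 1 → ∀ v, rho g *ᵥ v = v → v = 0
  spectral : ∀ (g : G) (ζ : ℂ), IsPrimitiveRoot ζ (orderOf g) → ∃ v, v ≠ 0 ∧ rho g *ᵥ v = ζ • v

/-- Restriction of a representation along an injective homomorphism. -/
def ZRep.comap {G H : Type*} [Group G] [Group H] (ψ : ZRep G) (f : H →* G) (hf : Function.Injective f) :
    ZRep H where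
  n := ψ.n
  rho := ψ.rho.comp f
  star_rho h := by simp [ψ.star_rho, map_inv]
  fpf h hh := ψ.fpf (f h) fun e => hh (hf (by rw [e, map_one]))
  spectral h ζ hζ := ψ.spectral (f h) ζ (by rwa [orderOf_injective f hf])

section Build

variable {G : Type*} [Group G] [Finite G]

/-- The functions with vanishing sums along nontrivial cyclic cosets. -/
def cosetKernel (G : Type*) [Group G] [Fintype G] : Submodule ℂ (EuclideanSpace ℂ G) where
  carrier := {f | ∀ x : G, x ≠ 1 → ∀ h, ∑ i ∈ Finset.range (orderOf x), f (x ^ i * h) = 0}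
  zero_mem' := fun x _ h => by simp
  add_mem' := fun {f g} hf hg x hx h => by simp [Finset.sum_add_distrib, hf x hx h, hg x hx h]
  smul_mem' := fun c f hf x hx h => by simp [← Finset.mul_sum, hf x hx h]

/-- Left translation on the functions. -/
def translate [Fintype G] (g : G) : cosetKernel G →ₗ[ℂ] cosetKernel G where
  toFun f := ⟨WithLp.toLp 2 fun h => f.1 (g⁻¹ * h), fun x hx h => by
    have := f.2 (g⁻¹ * x * g) (fun e => hx (by
      have := congrArg (fun y => g * y * g⁻¹) e; simpa [mul_assoc] using this)) (g⁻¹ * h)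
    rw [show orderOf (g⁻¹ * x * g) = orderOf x from by
      simpa using MulEquiv.orderOf_eq (MulAut.conj g⁻¹) x] at this
    refine Eq.trans (Finset.sum_congr rfl fun i _ => ?_) this
    rw [show g⁻¹ * x * g = g⁻¹ * x * g⁻¹⁻¹ by rw [inv_inv], conj_pow, inv_inv]
    show f.1 (g⁻¹ * (x ^ i * h)) = _
    congr 1
    group⟩
  map_add' f f' := Subtype.ext (by ext h; simp)
  map_smul' c f := Subtype.ext (by ext h; simp)

theorem translate_apply [Fintype G] (g : G) (f : cosetKernel G) (h : G) :
    (translate g f).1 h = f.1 (g⁻¹ * h) := rfl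

theorem translate_mul [Fintype G] (g g' : G) (f : cosetKernel G) :
    translate (g * g') f = translate g (translate g' f) :=
  Subtype.ext (by ext h; simp [translate_apply, mul_assoc])

theorem translate_one [Fintype G] (f : cosetKernel G) : translate 1 f = f :=
  Subtype.ext (by ext h; simp [translate_apply])

theorem inner_translate [Fintype G] (g : G) (a b : cosetKernel G) :
    inner ℂ (translate g a) (translate g b) = inner ℂ a b := by
  simp only [Submodule.coe_inner, PiLp.inner_apply, translate_apply]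
  exact Fintype.sum_equiv (Equiv.mulLeft g⁻¹) _ _ fun h => rfl

theorem translate_fpf [Fintype G] {g : G} (hg : g ≠ 1) {f : cosetKernel G} (hf : translate g f = f) :
    f = 0 := by
  have h1 : ∀ h, f.1 (g⁻¹ * h) = f.1 h := fun h => by rw [← translate_apply, hf]
  refine Subtype.ext ?_
  ext h
  have h2 := f.2 g⁻¹ (inv_ne_one.2 hg) h
  have h3 : ∀ i : ℕ, f.1 ((g⁻¹) ^ i * h) = f.1 h := by
    intro i
    induction i with
    | zero => simp
    | succ i ih => rw [pow_succ', mul_assoc, h1, ih]
  simp only [h3, Finset.sum_const, Finset.card_range, nsmul_eq_mul, mul_eq_zero, Nat.cast_eq_zero] at h2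
  exact h2.resolve_left (orderOf_pos _).ne'

theorem exists_eigen [Fintype G] (w : G → ℚ) (hw : w ≠ 0)
    (hker : ∀ x : G, x ≠ 1 → ∀ h, ∑ i ∈ Finset.range (orderOf x), w (x ^ i * h) = 0) (g : G) (ζ : ℂ)
    (hζ : IsPrimitiveRoot ζ (orderOf g)) :
    ∃ f : cosetKernel G, f ≠ 0 ∧ translate g f = ζ • f := by
  classical
  set n := orderOf g with hn
  have hpos : 0 < n := orderOf_pos g
  let W : cosetKernel G := ⟨WithLp.toLp 2 fun h => (w h : ℂ), fun x hx h => by
    show ∑ i ∈ Finset.range (orderOf x), (w (x ^ i * h) : ℂ) = 0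
    rw [← Rat.cast_sum, hker x hx h, Rat.cast_zero]⟩
  let v : ℂ → cosetKernel G := fun η => ∑ i ∈ Finset.range n, η ^ i • translate (g ^ i) W
  have hv : ∀ η h, (v η).1 h = ∑ i ∈ Finset.range n, η ^ i * (w ((g ^ i)⁻¹ * h) : ℂ) := fun η h => by
    simp [v, W, translate_apply]
  have hshift : ∀ η : ℂ, η ^ n = 1 → η • translate g (v η) = v η := by
    intro η hη
    simp only [v, map_sum, map_smul, ← translate_mul, Finset.smul_sum, smul_smul, ← pow_succ']
    have h1 := Finset.sum_range_succ' (fun i => η ^ i • translate (g ^ i) W) n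
    have h2 := Finset.sum_range_succ (fun i => η ^ i • translate (g ^ i) W) n
    rw [h1, hη] at h2
    simp only [hn, pow_orderOf_eq_one, pow_zero] at h2 ⊢
    exact add_right_cancel h2
  suffices hne : ∃ η : ℂ, IsPrimitiveRoot η n ∧ v η ≠ 0 by
    obtain ⟨η, hη, hvη⟩ := hne
    have hζi : IsPrimitiveRoot ζ⁻¹ n := hζ.inv
    refine ⟨v ζ⁻¹, fun h0 => hvη (Subtype.ext ?_), ?_⟩
    · ext h
      let P : Polynomial ℚ := ∑ i ∈ Finset.range n, Polynomial.monomial i (w ((g ^ i)⁻¹ * h))
      have hP : ∀ μ : ℂ, Polynomial.aeval μ P = (v μ).1 h := fun μ => by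
        simp [P, hv, Polynomial.aeval_monomial, mul_comm]
      have hdvd : minpoly ℚ ζ⁻¹ ∣ P := minpoly.dvd ℚ _ (by rw [hP, h0]; simp)
      rw [← Polynomial.cyclotomic_eq_minpoly_rat hζi hpos, Polynomial.cyclotomic_eq_minpoly_rat hη hpos] at hdvd
      obtain ⟨Q, hQ⟩ := hdvd
      have := congrArg (Polynomial.aeval η) hQ
      rw [hP, map_mul, minpoly.aeval, zero_mul] at this
      simpa using this
    · have h := hshift ζ⁻¹ hζi.pow_eq_one
      have h' := congrArg (fun f => ζ • f) h
      simp only [smul_smul, mul_inv_cancel₀ (hζ.ne_zero hpos.ne'), one_smul] at h'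
      exact h'
  by_contra hcon
  push Not at hcon
  have hall : ∀ η : ℂ, η ^ n = 1 → v η = 0 := by
    intro η hη
    by_cases hp : IsPrimitiveRoot η n
    · exact hcon η hp
    · have hη0 : η ≠ 0 := fun e => by simp [e, hpos.ne'] at hη
      obtain ⟨d, hd0, hdn, hd⟩ : ∃ d, 0 < d ∧ d < n ∧ η ^ d = 1 := by
        by_contra hc
        push Not at hc
        exact hp (IsPrimitiveRoot.mk_of_lt η hpos hη fun d h1 h2 e => hc d h1 h2 e)
      refine translate_fpf (g := g ^ d) ?_ ?_
      · intro e
        exact absurd (orderOf_le_of_pow_eq_one hd0 e) (by omega)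
      · have key : ∀ j : ℕ, η ^ j • translate (g ^ j) (v η) = v η := by
          intro j
          induction j with
          | zero => simp [translate_one]
          | succ j ih =>
            rw [pow_succ g j, translate_mul, pow_succ, mul_smul, ← map_smul (translate (g ^ j)) η, hshift η hη, ih]
        simpa [hd] using key d
  refine hw (funext fun h => ?_)
  have hroot := Complex.isPrimitiveRoot_exp n hpos.ne'
  set μ := Complex.exp (2 * Real.pi * Complex.I / n) with hμ
  have hsum : ∑ l ∈ Finset.range n, (v (μ ^ l)).1 h = 0 := by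
    refine Finset.sum_eq_zero fun l _ => ?_
    rw [hall (μ ^ l) (by rw [← pow_mul, mul_comm, pow_mul, hroot.pow_eq_one, one_pow])]
    simp
  simp only [hv] at hsum
  rw [Finset.sum_comm, Finset.sum_eq_single 0] at hsum
  · simp [hpos.ne'] at hsum
    simpa using hsum
  · intro i hi hi0
    rw [← Finset.sum_mul]
    refine mul_eq_zero_of_left ?_ _
    have h1 : μ ^ i ≠ 1 := hroot.pow_ne_one_of_pos_of_lt hi0 (Finset.mem_range.1 hi)
    have h2 : (μ ^ i) ^ n = 1 := by rw [← pow_mul, mul_comm, pow_mul, hroot.pow_eq_one, one_pow]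
    simp only [← pow_mul]
    simp only [fun l => mul_comm l i, pow_mul]
    have := geom_sum_mul (μ ^ i) n
    rw [h2, sub_self] at this
    exact (mul_eq_zero.1 this).resolve_right (sub_ne_zero.2 h1)
  · intro h0; exact absurd (Finset.mem_range.2 hpos) h0

/-- A rational kernel function gives a representation. -/
theorem exists_zrep_of_kernel (w : G → ℚ) (hw : w ≠ 0)
    (hker : ∀ x : G, x ≠ 1 → ∀ h, ∑ i ∈ Finset.range (orderOf x), w (x ^ i * h) = 0) :
    Nonempty (ZRep G) := by
  classical
  letI := Fintype.ofFinite G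
  let b := stdOrthonormalBasis ℂ ↥(cosetKernel G)
  let E := LinearMap.toMatrixAlgEquiv b.toBasis
  let L : G →* (↥(cosetKernel G) →ₗ[ℂ] ↥(cosetKernel G)) :=
    { toFun := translate
      map_one' := LinearMap.ext translate_one
      map_mul' := fun g g' => LinearMap.ext (translate_mul g g') }
  haveI : FiniteDimensional ℂ ↥(cosetKernel G) := inferInstance
  have hadj : ∀ g, LinearMap.adjoint (𝕜 := ℂ) (E := ↥(cosetKernel G)) (F := ↥(cosetKernel G)) (translate g) = translate g⁻¹ := fun g => by
    refine ((LinearMap.eq_adjoint_iff _ _).2 fun x y => ?_).symm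
    show inner ℂ (translate g⁻¹ x) y = inner ℂ x (translate g y)
    rw [← inner_translate g, ← translate_mul, mul_inv_cancel, translate_one]
  let ρ : G →* Matrix (Fin (Module.finrank ℂ ↥(cosetKernel G))) (Fin (Module.finrank ℂ ↥(cosetKernel G))) ℂ :=
    (E.toAlgHom.toRingHom.toMonoidHom).comp L
  have hρ : ∀ g (f : ↥(cosetKernel G)), ρ g *ᵥ ⇑(b.repr f) = ⇑(b.repr (translate g f)) := fun g f => by
    have := LinearMap.toMatrix_mulVec_repr b.toBasis b.toBasis (L g) f
    rw [show ⇑(b.toBasis.repr f) = ⇑(b.repr f) from funext fun i => b.coe_toBasis_repr_apply f i,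
      show ⇑(b.toBasis.repr (L g f)) = ⇑(b.repr (L g f)) from funext fun i => b.coe_toBasis_repr_apply _ i] at this
    simpa [ρ, E, L, LinearMap.toMatrixAlgEquiv] using this
  have hsurj : ∀ v : Fin (Module.finrank ℂ ↥(cosetKernel G)) → ℂ, ∃ f : ↥(cosetKernel G), ⇑(b.repr f) = v := fun v =>
    ⟨b.repr.symm (WithLp.toLp 2 v), by simp⟩
  refine ⟨⟨_, ρ, fun g => ?_, fun g hg v hv => ?_, fun g ζ hζ => ?_⟩⟩
  · show (LinearMap.toMatrix b.toBasis b.toBasis (L g))ᴴ = LinearMap.toMatrix b.toBasis b.toBasis (L g⁻¹)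
    rw [← LinearMap.toMatrix_adjoint]
    exact congrArg _ (hadj g)
  · obtain ⟨f, rfl⟩ := hsurj v
    rw [hρ] at hv
    have hf : translate g f = f := b.repr.injective (WithLp.ofLp_injective 2 hv)
    simp [translate_fpf hg hf]
  · obtain ⟨f, hf0, hf⟩ := exists_eigen w hw hker g ζ hζ
    refine ⟨⇑(b.repr f), fun h => hf0 (b.repr.injective (WithLp.ofLp_injective 2 ?_)), ?_⟩
    · simpa using h
    · rw [hρ, hf, map_smul]; rfl

/-- A representation from a fixed-point-free representation modulo a prime. -/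
theorem exists_zrep_of_modp {p : ℕ} [Fact p.Prime] (hp : ¬ p ∣ Nat.card G) {ι : Type*} [Fintype ι]
    [DecidableEq ι] [Nonempty ι] (φ : G →* Matrix ι ι (ZMod p))
    (hφ : ∀ g : G, g ≠ 1 → ∀ v, φ g *ᵥ v = v → v = 0) : Nonempty (ZRep G) := by
  obtain ⟨w, hw, hker⟩ := exists_ratKernel hp φ hφ
  exact exists_zrep_of_kernel w hw hker

end Build

end CfsgLib.Char.Zassenhaus
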