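/-
Two elements of order three in a fixed-point-free unitary group: the anticommutator of their skew parts.
-/
import Cfsg.Agent.Lib.Char.Zassenhaus.Rep
import Mathlib.Analysis.SpecialFunctions.Trigonometric.Basic
import Mathlib.RingTheory.RootsOfUnity.Complex
import Mathlib.Tactic.NoncommRing
import Mathlib.LinearAlgebra.Matrix.DotProduct

set_option autoImplicit false

namespace CfsgLib.Char.Zassenhaus

open Matrix

/-- The real value of the form of a matrix at a vector. -/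
def formVal {n : ℕ} (A : Matrix (Fin n) (Fin n) ℂ) (v : Fin n → ℂ) : ℝ := (star v ⬝ᵥ (A *ᵥ v)).re

section Form

variable {n : ℕ}

theorem formVal_add (A B : Matrix (Fin n) (Fin n) ℂ) (v : Fin n → ℂ) :
    formVal (A + B) v = formVal A v + formVal B v := by
  simp [formVal, add_mulVec, dotProduct_add]

theorem formVal_neg (A : Matrix (Fin n) (Fin n) ℂ) (v : Fin n → ℂ) : formVal (-A) v = -formVal A v := by
  simp [formVal, neg_mulVec]

theorem formVal_sub (A B : Matrix (Fin n) (Fin n) ℂ) (v : Fin n → ℂ) :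
    formVal (A - B) v = formVal A v - formVal B v := by
  rw [sub_eq_add_neg, formVal_add, formVal_neg, sub_eq_add_neg]

theorem formVal_smul (r : ℝ) (A : Matrix (Fin n) (Fin n) ℂ) (v : Fin n → ℂ) :
    formVal ((r : ℂ) • A) v = r * formVal A v := by
  simp [formVal, smul_mulVec, dotProduct_smul]

theorem formVal_star_mul_nonneg (A : Matrix (Fin n) (Fin n) ℂ) (v : Fin n → ℂ) :
    0 ≤ formVal (star A * A) v := by
  rw [formVal, ← mulVec_mulVec, dotProduct_mulVec, show star A = Aᴴ from rfl, ← star_mulVec]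
  simp only [dotProduct, Pi.star_apply, Complex.re_sum]
  refine Finset.sum_nonneg fun i _ => ?_
  simp only [Complex.star_def, ← Complex.normSq_eq_conj_mul_self, Complex.ofReal_re]
  exact Complex.normSq_nonneg _

theorem formVal_sq_nonneg {A : Matrix (Fin n) (Fin n) ℂ} (hA : star A = A) (v : Fin n → ℂ) :
    0 ≤ formVal (A * A) v := by
  have h := formVal_star_mul_nonneg A v
  rwa [hA] at h

theorem formVal_sq_nonpos {A : Matrix (Fin n) (Fin n) ℂ} (hA : star A = -A) (v : Fin n → ℂ) :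
    formVal (A * A) v ≤ 0 := by
  have h := formVal_star_mul_nonneg A v
  rw [hA, neg_mul, formVal_neg] at h
  linarith

theorem formVal_one_pos {v : Fin n → ℂ} (hv : v ≠ 0) : 0 < formVal 1 v := by
  rw [formVal, one_mulVec]
  simp only [dotProduct, Pi.star_apply, Complex.re_sum, Complex.star_def, ← Complex.normSq_eq_conj_mul_self,
    Complex.ofReal_re]
  obtain ⟨i, hi⟩ := Function.ne_iff.1 hv
  exact Finset.sum_pos' (fun j _ => Complex.normSq_nonneg _) ⟨i, Finset.mem_univ i, Complex.normSq_pos.2 hi⟩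

theorem formVal_eigen {A : Matrix (Fin n) (Fin n) ℂ} {v : Fin n → ℂ} {c : ℝ} (h : A *ᵥ v = (c : ℂ) • v) :
    formVal A v = c * formVal 1 v := by
  simp [formVal, h, one_mulVec, dotProduct_smul]

theorem formVal_natCast (k : ℕ) (v : Fin n → ℂ) :
    formVal (k : Matrix (Fin n) (Fin n) ℂ) v = k * formVal 1 v := by
  rw [show (k : Matrix (Fin n) (Fin n) ℂ) = ((k : ℝ) : ℂ) • (1 : Matrix (Fin n) (Fin n) ℂ) by
    ext i j; by_cases e : i = j <;> simp [e, Matrix.natCast_apply], formVal_smul]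

open scoped ComplexOrder in
/-- A matrix which is skew and squares to zero is zero. -/
theorem eq_zero_of_sq_zero {A : Matrix (Fin n) (Fin n) ℂ} (hA : star A = A ∨ star A = -A) (h : A * A = 0) :
    A = 0 := by
  have h' : Aᴴ * A = 0 := by
    rcases hA with e | e
    · show star A * A = 0; rw [e, h]
    · show star A * A = 0; rw [e, neg_mul, h, neg_zero]
  exact Matrix.conjTranspose_mul_self_eq_zero.1 h'

end Form

variable {G : Type*} [Group G] [Finite G] (ψ : ZRep G)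

local notation "ρ" => ψ.rho

/-- The matrices of the representation. -/
abbrev ZMat (ψ : ZRep G) : Type := Matrix (Fin ψ.n) (Fin ψ.n) ℂ

theorem eq_zero_of_rho_mul {g : G} (hg : g ≠ 1) {X : ZMat ψ} (h : ρ g * X = X) : X = 0 := by
  refine Matrix.ext_of_mulVec_single fun j => ?_
  rw [Matrix.zero_mulVec]
  exact ψ.fpf g hg _ (by rw [Matrix.mulVec_mulVec, h])

theorem n_pos : 0 < ψ.n := by
  rcases Nat.eq_zero_or_pos ψ.n with h | h
  · obtain ⟨v, hv, -⟩ := ψ.spectral 1 1 (by simp [IsPrimitiveRoot.one])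
    exact absurd (funext fun i : Fin ψ.n => absurd i.isLt (by omega)) hv
  · exact h

theorem rho_mul_inv (g : G) : ρ g * ρ g⁻¹ = 1 := by rw [← map_mul, mul_inv_cancel, map_one]

theorem rho_inv_mul (g : G) : ρ g⁻¹ * ρ g = 1 := by rw [← map_mul, inv_mul_cancel, map_one]

theorem rho_injective : Function.Injective ψ.rho := by
  intro g h e
  by_contra hne
  have h1 : ρ (g * h⁻¹) * 1 = 1 := by rw [mul_one, map_mul, e, rho_mul_inv]
  haveI : Nonempty (Fin ψ.n) := ⟨⟨0, n_pos ψ⟩⟩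
  exact one_ne_zero (eq_zero_of_rho_mul ψ (fun he => hne (mul_inv_eq_one.1 he)) h1)

theorem rho_eq_neg_one {g : G} (hg : g ^ 2 = 1) (hg1 : g ≠ 1) : ρ g = -1 := by
  refine eq_neg_of_add_eq_zero_left (eq_zero_of_rho_mul ψ hg1 ?_)
  rw [mul_add, ← map_mul, ← sq, hg, map_one, mul_one, add_comm]

theorem rho_sq_of_four {g : G} (h4 : g ^ 4 = 1) (h2 : g ^ 2 ≠ 1) :
    ρ g * ρ g = -1 ∧ star (ρ g) = -ρ g := by
  have h := rho_eq_neg_one ψ (g := g ^ 2) (by rw [← pow_mul]; exact h4) h2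
  rw [sq, map_mul] at h
  refine ⟨h, ?_⟩
  rw [ψ.star_rho]
  calc ρ g⁻¹ = ρ g⁻¹ * (ρ g * ρ g) * (-1) := by rw [h]; simp
    _ = _ := by rw [← mul_assoc, rho_inv_mul, one_mul, mul_neg_one]

theorem rho_of_three {g : G} (h3 : g ^ 3 = 1) (h1 : g ≠ 1) :
    ρ g * ρ g = -1 - ρ g ∧ star (ρ g) = -1 - ρ g := by
  have hs : ρ g * ρ g + ρ g + 1 = 0 := by
    refine eq_zero_of_rho_mul ψ h1 ?_
    have e : ρ g * (ρ g * ρ g) = 1 := by rw [← map_mul, ← map_mul, ← pow_three, h3, map_one]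
    rw [mul_add, mul_add, e, mul_one]
    abel
  have h : ρ g * ρ g = -1 - ρ g := by
    rw [eq_sub_iff_add_eq, eq_neg_iff_add_eq_zero]; exact hs
  refine ⟨h, ?_⟩
  rw [ψ.star_rho, ← h, ← map_mul]
  congr 1
  rw [inv_eq_iff_mul_eq_one, ← pow_three, h3]

/-- The skew part of an element of order three. -/
def skewPart (g : G) : ZMat ψ := ρ g + ρ g + 1

/-- The anticommutator of the skew parts. -/
def anti (a b : G) : ZMat ψ := skewPart ψ a * skewPart ψ b + skewPart ψ b * skewPart ψ a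

theorem anti_comm (a b : G) : anti ψ a b = anti ψ b a := add_comm _ _

theorem skewPart_sq {g : G} (h3 : g ^ 3 = 1) (h1 : g ≠ 1) :
    skewPart ψ g * skewPart ψ g = -3 ∧ star (skewPart ψ g) = -skewPart ψ g := by
  obtain ⟨hq, hs⟩ := rho_of_three ψ h3 h1
  constructor
  · rw [show skewPart ψ g * skewPart ψ g = 4 * (ρ g * ρ g) + 4 * ρ g + 1 by
      simp only [skewPart]; (noncomm_ring <;> norm_num [zsmul_eq_mul]), hq]
    (noncomm_ring <;> norm_num [zsmul_eq_mul])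
  · simp only [skewPart, star_add, star_one, hs]
    abel

theorem skewPart_inv {g : G} (h3 : g ^ 3 = 1) (h1 : g ≠ 1) : skewPart ψ g⁻¹ = -skewPart ψ g := by
  obtain ⟨hq, hs⟩ := rho_of_three ψ h3 h1
  rw [ψ.star_rho] at hs
  simp only [skewPart, hs]
  abel

theorem anti_inv_right {a b : G} (h3 : b ^ 3 = 1) (h1 : b ≠ 1) : anti ψ a b⁻¹ = -anti ψ a b := by
  simp only [anti, skewPart_inv ψ h3 h1]
  (noncomm_ring <;> norm_num [zsmul_eq_mul])

theorem skewPart_injective {a b : G} (h : skewPart ψ a = skewPart ψ b) : a = b := by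
  refine rho_injective ψ ?_
  simp only [skewPart, add_left_inj] at h
  ext i j
  have := congrFun (congrFun h i) j
  simp only [Matrix.add_apply] at this
  linear_combination this / 2

theorem anti_eq_trace {a b : G} (ha : a ^ 3 = 1) (ha1 : a ≠ 1) (hb : b ^ 3 = 1) (hb1 : b ≠ 1) :
    anti ψ a b = 4 * (ρ (a * b) + ρ (a * b)⁻¹) - 2 := by
  obtain ⟨-, sa⟩ := rho_of_three ψ ha ha1
  obtain ⟨-, sb⟩ := rho_of_three ψ hb hb1
  rw [ψ.star_rho] at sa sb
  rw [_root_.mul_inv_rev, map_mul, map_mul, sa, sb]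
  simp only [anti, skewPart]
  (noncomm_ring <;> norm_num [zsmul_eq_mul] <;> (rw [add_left_comm]; norm_num [add_comm]))

theorem anti_bound {a b : G} (ha : a ^ 3 = 1) (ha1 : a ≠ 1) (hb : b ^ 3 = 1) (hb1 : b ≠ 1)
    (v : Fin ψ.n → ℂ) : formVal (anti ψ a b) v ≤ 6 * formVal 1 v ∧ -(6 * formVal 1 v) ≤ formVal (anti ψ a b) v := by
  obtain ⟨qa, sa⟩ := skewPart_sq ψ ha ha1
  obtain ⟨qb, sb⟩ := skewPart_sq ψ hb hb1
  have h6 : formVal (6 : ZMat ψ) v = 6 * formVal 1 v := by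
    simpa using formVal_natCast (n := ψ.n) 6 v
  constructor
  · have h := formVal_sq_nonpos (A := skewPart ψ a + skewPart ψ b) (by rw [star_add, sa, sb, neg_add]) v
    rw [show (skewPart ψ a + skewPart ψ b) * (skewPart ψ a + skewPart ψ b) =
      skewPart ψ a * skewPart ψ a + skewPart ψ b * skewPart ψ b + anti ψ a b by
        simp only [anti]; (noncomm_ring <;> norm_num [zsmul_eq_mul]), qa, qb, show (-3 : ZMat ψ) + -3 + anti ψ a b = anti ψ a b - 6 by
        (noncomm_ring <;> norm_num [zsmul_eq_mul] <;> abel), formVal_sub, h6] at h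
    linarith
  · have h := formVal_sq_nonpos (A := skewPart ψ a - skewPart ψ b) (by rw [star_sub, sa, sb]; abel) v
    rw [show (skewPart ψ a - skewPart ψ b) * (skewPart ψ a - skewPart ψ b) =
      skewPart ψ a * skewPart ψ a + skewPart ψ b * skewPart ψ b - anti ψ a b by
        simp only [anti]; (noncomm_ring <;> norm_num [zsmul_eq_mul]), qa, qb, show (-3 : ZMat ψ) + -3 - anti ψ a b = -anti ψ a b - 6 by
        (noncomm_ring <;> norm_num [zsmul_eq_mul] <;> abel), formVal_sub, formVal_neg, h6] at h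
    linarith

theorem inv_eigen {g : G} {ζ : ℂ} (hζ : ζ ≠ 0) {v : Fin ψ.n → ℂ} (h : ρ g *ᵥ v = ζ • v) :
    ρ g⁻¹ *ᵥ v = ζ⁻¹ • v := by
  calc ρ g⁻¹ *ᵥ v = ρ g⁻¹ *ᵥ (ζ⁻¹ • (ρ g *ᵥ v)) := by rw [h, smul_smul, inv_mul_cancel₀ hζ, one_smul]
    _ = _ := by rw [mulVec_smul, mulVec_mulVec, rho_inv_mul, one_mulVec]

/-- An eigenvector of the trace of an element, for each primitive root. -/
theorem exists_trace_eigen (g : G) {l : ℕ} (hl : l.Coprime (orderOf g)) :
    ∃ v, v ≠ 0 ∧ (ρ g + ρ g⁻¹) *ᵥ v =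
      ((2 * Real.cos (2 * Real.pi * l / orderOf g) : ℝ) : ℂ) • v := by
  have hn : orderOf g ≠ 0 := (orderOf_pos g).ne'
  have hζ := Complex.isPrimitiveRoot_exp_of_coprime l (orderOf g) hn hl
  obtain ⟨v, hv, h⟩ := ψ.spectral g _ hζ
  refine ⟨v, hv, ?_⟩
  rw [add_mulVec, h, inv_eigen ψ (Complex.exp_ne_zero _) h, ← add_smul]
  congr 1
  rw [← Complex.exp_neg, Complex.ofReal_mul, Complex.ofReal_cos, Complex.ofReal_ofNat,
    Complex.two_cos]
  push_cast
  ring_nf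

/-- An anticommutator with square 20 and both eigenvalues. -/
def IsFive {n : ℕ} (h : Matrix (Fin n) (Fin n) ℂ) : Prop :=
  h * h = 20 ∧ (∃ (v : Fin n → ℂ) (c : ℝ), v ≠ 0 ∧ 4 < c ∧ h *ᵥ v = (c : ℂ) • v) ∧
    ∃ (v : Fin n → ℂ) (c : ℝ), v ≠ 0 ∧ c < -4 ∧ h *ᵥ v = (c : ℂ) • v

theorem exists_coprime_angle {n : ℕ} (h0 : 0 < n) (h1 : n ≠ 1) (h3 : n ≠ 3) (h4 : n ≠ 4) (h6 : n ≠ 6)
    (h10 : n ≠ 10) : ∃ l : ℕ, l.Coprime n ∧ n < 3 * l ∧ 2 * l ≤ n := by
  rcases Nat.even_or_odd n with ⟨m, rfl⟩ | ⟨m, rfl⟩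
  · rcases Nat.lt_or_ge m 2 with hm | hm
    · exact ⟨1, Nat.coprime_one_left _, by omega, by omega⟩
    rcases Nat.even_or_odd m with ⟨j, rfl⟩ | ⟨j, rfl⟩
    · refine ⟨2 * j - 1, Nat.coprime_of_dvd fun k hk hk1 hk2 => ?_, by omega, by omega⟩
      have h : k ∣ 2 * (2 * j) := by rwa [show j + j + (j + j) = 2 * (2 * j) by ring] at hk2
      rcases hk.dvd_mul.1 h with h | h
      · rw [(Nat.prime_dvd_prime_iff_eq hk Nat.prime_two).1 h] at hk1
        omega
      · have h' := Nat.dvd_sub h hk1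
        rw [show 2 * j - (2 * j - 1) = 1 by omega] at h'
        exact hk.one_lt.ne' (Nat.dvd_one.1 h')
    · refine ⟨2 * j - 1, Nat.coprime_of_dvd fun k hk hk1 hk2 => ?_, by omega, by omega⟩
      have h : k ∣ 2 * (2 * j + 1) := by rwa [show 2 * j + 1 + (2 * j + 1) = 2 * (2 * j + 1) by ring] at hk2
      rcases hk.dvd_mul.1 h with h | h
      · rw [(Nat.prime_dvd_prime_iff_eq hk Nat.prime_two).1 h] at hk1
        omega
      · have h' := Nat.dvd_sub h hk1
        rw [show 2 * j + 1 - (2 * j - 1) = 2 by omega] at h'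
        rw [(Nat.prime_dvd_prime_iff_eq hk Nat.prime_two).1 h'] at h
        omega
  · refine ⟨m, Nat.coprime_of_dvd fun k hk hk1 hk2 => ?_, by omega, by omega⟩
    have h' := Nat.dvd_sub hk2 (Dvd.dvd.mul_left hk1 2)
    rw [show 2 * m + 1 - 2 * m = 1 by omega] at h'
    exact hk.one_lt.ne' (Nat.dvd_one.1 h')

/-- Two elements of order three: the possible anticommutators. -/
theorem anti_cases {a b : G} (ha : a ^ 3 = 1) (ha1 : a ≠ 1) (hb : b ^ 3 = 1) (hb1 : b ≠ 1) :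
    (orderOf (a * b) = 1 ∧ b = a⁻¹ ∧ anti ψ a b = 6) ∨ (orderOf (a * b) = 3 ∧ a = b ∧ anti ψ a b = -6) ∨
      (orderOf (a * b) = 4 ∧ anti ψ a b = -2) ∨ (orderOf (a * b) = 6 ∧ anti ψ a b = 2) ∨
      (orderOf (a * b) = 10 ∧ IsFive (anti ψ a b)) := by
  set q := a * b with hq
  set n := orderOf q with hn
  have htr := anti_eq_trace ψ ha ha1 hb hb1
  rw [← hq] at htr
  have heig : ∀ (v : Fin ψ.n → ℂ) (w : ℝ), (ρ q + ρ q⁻¹) *ᵥ v = (w : ℂ) • v →
      anti ψ a b *ᵥ v = ((4 * w - 2 : ℝ) : ℂ) • v := fun v w h => by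
    rw [htr, sub_mulVec, ← mulVec_mulVec, h, mulVec_smul]
    rw [show (4 : ZMat ψ) = (4 : ℂ) • 1 by rw [← Algebra.algebraMap_eq_smul_one, map_ofNat],
      show (2 : ZMat ψ) = (2 : ℂ) • 1 by rw [← Algebra.algebraMap_eq_smul_one, map_ofNat], smul_mulVec,
      smul_mulVec, one_mulVec, smul_smul, ← sub_smul]
    congr 1
    push_cast
    ring
  have hmem : n = 1 ∨ n = 3 ∨ n = 4 ∨ n = 6 ∨ n = 10 := by
    by_contra hc
    push Not at hc
    obtain ⟨l, hl, hl1, hl2⟩ := exists_coprime_angle (orderOf_pos q) hc.1 hc.2.1 hc.2.2.1 hc.2.2.2.1 hc.2.2.2.2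
    obtain ⟨v, hv, h⟩ := exists_trace_eigen ψ q hl
    have e := formVal_eigen (heig v _ h)
    have hb' := (anti_bound ψ ha ha1 hb hb1 v).2
    have hp := formVal_one_pos hv
    have hcos : Real.cos (2 * Real.pi * l / n) < -(1 / 2) := by
      have h23 : Real.cos (2 * Real.pi / 3) = -(1 / 2) := by
        rw [show 2 * Real.pi / 3 = Real.pi - Real.pi / 3 by ring, Real.cos_pi_sub, Real.cos_pi_div_three]
      rw [← h23]
      have hnpos : (0 : ℝ) < n := by exact_mod_cast orderOf_pos q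
      have hl1' : (n : ℝ) < 3 * l := by exact_mod_cast hl1
      have hl2' : (2 : ℝ) * l ≤ n := by exact_mod_cast hl2
      refine Real.cos_lt_cos_of_nonneg_of_le_pi (by positivity) ?_ ?_
      · rw [div_le_iff₀ hnpos]; nlinarith [Real.pi_pos]
      · rw [div_lt_div_iff₀ (by norm_num) hnpos]; nlinarith [Real.pi_pos]
    rw [e] at hb'
    nlinarith
  rcases hmem with h | h | h | h | h
  · have hq1 : q = 1 := orderOf_eq_one_iff.1 h
    refine Or.inl ⟨h, eq_inv_of_mul_eq_one_right (hq ▸ hq1), ?_⟩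
    rw [htr, hq1, inv_one, map_one]; (noncomm_ring <;> norm_num [zsmul_eq_mul])
  · have h3 : q ^ 3 = 1 := h ▸ pow_orderOf_eq_one q
    have h1 : q ≠ 1 := fun e => by rw [hn, e, orderOf_one] at h; omega
    obtain ⟨-, hs⟩ := rho_of_three ψ h3 h1
    rw [ψ.star_rho] at hs
    have hh : anti ψ a b = -6 := by rw [htr, hs]; (noncomm_ring <;> norm_num [zsmul_eq_mul])
    refine Or.inr (Or.inl ⟨h, ?_, hh⟩)
    obtain ⟨qa, sa⟩ := skewPart_sq ψ ha ha1
    obtain ⟨qb, sb⟩ := skewPart_sq ψ hb hb1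
    refine skewPart_injective ψ (sub_eq_zero.1 (eq_zero_of_sq_zero (Or.inr (by rw [star_sub, sa, sb]; abel)) ?_))
    rw [show (skewPart ψ a - skewPart ψ b) * (skewPart ψ a - skewPart ψ b) =
      skewPart ψ a * skewPart ψ a + skewPart ψ b * skewPart ψ b - anti ψ a b by
        simp only [anti]; (noncomm_ring <;> norm_num [zsmul_eq_mul]), qa, qb, hh]
    (noncomm_ring <;> norm_num [zsmul_eq_mul])
  · have h4 : q ^ 4 = 1 := h ▸ pow_orderOf_eq_one q
    have h2 : q ^ 2 ≠ 1 := fun e => by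
      have := orderOf_le_of_pow_eq_one (by norm_num) e; rw [← hn, h] at this; omega
    obtain ⟨-, hs⟩ := rho_sq_of_four ψ h4 h2
    rw [ψ.star_rho] at hs
    refine Or.inr (Or.inr (Or.inl ⟨h, ?_⟩))
    rw [htr, hs]; (noncomm_ring <;> norm_num [zsmul_eq_mul])
  · have h6 : q ^ 6 = 1 := h ▸ pow_orderOf_eq_one q
    have h3 : q ^ 3 ≠ 1 := fun e => by
      have := orderOf_le_of_pow_eq_one (by norm_num) e; rw [← hn, h] at this; omega
    have h2 : q ^ 2 ≠ 1 := fun e => by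
      have := orderOf_le_of_pow_eq_one (by norm_num) e; rw [← hn, h] at this; omega
    obtain ⟨hs, hss⟩ := rho_of_three ψ (g := q ^ 2) (by rw [← pow_mul]; exact h6) h2
    have hm : ρ (q ^ 3) = -1 := rho_eq_neg_one ψ (by rw [← pow_mul]; exact h6) h3
    rw [ψ.star_rho] at hss
    have e1 : ρ q = 1 + ρ (q ^ 2) := by
      have : ρ q = ρ (q ^ 3) * ρ (q ^ 2)⁻¹ := by
        rw [← map_mul]; congr 1; group
      rw [this, hm, hss]; (noncomm_ring <;> norm_num [zsmul_eq_mul])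
    have e2 : ρ q⁻¹ = -ρ (q ^ 2) := by
      have : ρ q⁻¹ = ρ (q ^ 3) * ρ (q ^ 2) := by
        rw [← map_mul]; congr 1
        rw [inv_eq_iff_mul_eq_one, ← pow_add, ← pow_succ', h6]
      rw [this, hm]; (noncomm_ring <;> norm_num [zsmul_eq_mul])
    refine Or.inr (Or.inr (Or.inr (Or.inl ⟨h, ?_⟩)))
    rw [htr, e1, e2]; (noncomm_ring <;> norm_num [zsmul_eq_mul])
  · refine Or.inr (Or.inr (Or.inr (Or.inr ⟨h, ?_⟩)))
    have h10 : q ^ 10 = 1 := h ▸ pow_orderOf_eq_one q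
    have hne : ∀ j : ℕ, 0 < j → j < 10 → q ^ j ≠ 1 := fun j h1 h2 e => by
      have := orderOf_le_of_pow_eq_one h1 e; rw [← hn, h] at this; omega
    have hm : ρ (q ^ 5) = -1 := rho_eq_neg_one ψ (by rw [← pow_mul]; exact h10) (hne 5 (by norm_num) (by norm_num))
    set Q := ρ q with hQ
    have hqi : ρ q⁻¹ = -(Q * Q * Q * Q) := by
      have : ρ q⁻¹ = ρ (q ^ 5) * ρ (q ^ 4) := by
        rw [← map_mul]; congr 1
        rw [inv_eq_iff_mul_eq_one, ← pow_add, ← pow_succ', h10]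
      rw [this, hm, neg_one_mul, map_pow, ← hQ]
      simp only [pow_succ, pow_zero, one_mul]
    have h5 : Q * Q * Q * Q * Q = -1 := by
      rw [← hm, map_pow]; simp only [pow_succ, pow_zero, one_mul, hQ]
    have hphi : Q * Q * Q * Q - Q * Q * Q + Q * Q - Q + 1 = 0 := by
      have hsum : (Q * Q) * (1 + Q * Q + Q * Q * Q * Q + Q * Q * Q * Q * Q * Q + Q * Q * Q * Q * Q * Q * Q * Q) =
          1 + Q * Q + Q * Q * Q * Q + Q * Q * Q * Q * Q * Q + Q * Q * Q * Q * Q * Q * Q * Q := by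
        rw [show (Q * Q) * (1 + Q * Q + Q * Q * Q * Q + Q * Q * Q * Q * Q * Q + Q * Q * Q * Q * Q * Q * Q * Q) =
          Q * Q + Q * Q * Q * Q + Q * Q * Q * Q * Q * Q + Q * Q * Q * Q * Q * Q * Q * Q +
            (Q * Q * Q * Q * Q) * (Q * Q * Q * Q * Q) by (noncomm_ring <;> norm_num [zsmul_eq_mul]), h5]
        (noncomm_ring <;> norm_num [zsmul_eq_mul])
      have h0 := eq_zero_of_rho_mul ψ (g := q ^ 2) (hne 2 (by norm_num) (by norm_num))
        (X := 1 + Q * Q + Q * Q * Q * Q + Q * Q * Q * Q * Q * Q + Q * Q * Q * Q * Q * Q * Q * Q)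
        (by rw [sq, map_mul, ← hQ]; exact hsum)
      rw [← h0, show Q * Q * Q * Q * Q * Q = (Q * Q * Q * Q * Q) * Q by (noncomm_ring <;> norm_num [zsmul_eq_mul]),
        show (Q * Q * Q * Q * Q) * Q * Q * Q = (Q * Q * Q * Q * Q) * (Q * Q * Q) by (noncomm_ring <;> norm_num [zsmul_eq_mul]), h5]
      (noncomm_ring <;> norm_num [zsmul_eq_mul])
    have hW : (Q + ρ q⁻¹) * (Q + ρ q⁻¹) = Q + ρ q⁻¹ + 1 := by
      rw [hqi, ← sub_eq_zero, ← hphi, show (Q + -(Q * Q * Q * Q)) * (Q + -(Q * Q * Q * Q)) =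
        Q * Q - (Q * Q * Q * Q * Q) - (Q * Q * Q * Q * Q) + (Q * Q * Q * Q * Q) * (Q * Q * Q) by (noncomm_ring <;> norm_num [zsmul_eq_mul]), h5]
      (noncomm_ring <;> norm_num [zsmul_eq_mul])
    have h20 : anti ψ a b * anti ψ a b = 20 := by
      rw [htr, show (4 * (Q + ρ q⁻¹) - 2) * (4 * (Q + ρ q⁻¹) - 2) =
        16 * ((Q + ρ q⁻¹) * (Q + ρ q⁻¹)) - 16 * (Q + ρ q⁻¹) + 4 by (noncomm_ring <;> norm_num [zsmul_eq_mul]), hW]
      (noncomm_ring <;> norm_num [zsmul_eq_mul])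
    have key : ∀ l : ℕ, l.Coprime n → ∃ (v : Fin ψ.n → ℂ) (w : ℝ), v ≠ 0 ∧ w = 2 * Real.cos (2 * Real.pi * l / n) ∧
        w * w = w + 1 ∧ anti ψ a b *ᵥ v = ((4 * w - 2 : ℝ) : ℂ) • v := by
      intro l hl
      obtain ⟨v, hv, hE⟩ := exists_trace_eigen ψ q hl
      refine ⟨v, _, hv, rfl, ?_, heig v _ hE⟩
      set w := 2 * Real.cos (2 * Real.pi * l / n)
      have e1 : ((Q + ρ q⁻¹) * (Q + ρ q⁻¹)) *ᵥ v = (((w * w : ℝ)) : ℂ) • v := by
        rw [← mulVec_mulVec, hE, mulVec_smul, hE, smul_smul]; push_cast; rfl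
      rw [hW, add_mulVec, hE, one_mulVec] at e1
      have e2 : (((w + 1 : ℝ) : ℂ) - ((w * w : ℝ) : ℂ)) • v = 0 := by
        rw [sub_smul, ← e1]; push_cast; rw [add_smul, one_smul, sub_self]
      have := (smul_eq_zero.1 e2).resolve_right hv
      rw [sub_eq_zero, Complex.ofReal_inj] at this
      exact this.symm
    refine ⟨h20, ?_, ?_⟩
    · obtain ⟨v, w, hv, hw, hw2, hE⟩ := key 1 (Nat.coprime_one_left _)
      refine ⟨v, 4 * w - 2, hv, ?_, hE⟩
      have hpos : 0 < w := by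
        rw [hw, h]
        have := Real.cos_pos_of_mem_Ioo (x := 2 * Real.pi * ((1 : ℕ) : ℝ) / ((10 : ℕ) : ℝ))
          ⟨by push_cast; linarith [Real.pi_pos], by push_cast; linarith [Real.pi_pos]⟩
        linarith
      nlinarith
    · obtain ⟨v, w, hv, hw, hw2, hE⟩ := key 3 (by rw [h]; decide)
      refine ⟨v, 4 * w - 2, hv, ?_, hE⟩
      have hneg : w < 0 := by
        rw [hw, h]
        have := Real.cos_neg_of_pi_div_two_lt_of_lt (x := 2 * Real.pi * ((3 : ℕ) : ℝ) / ((10 : ℕ) : ℝ))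
          (by push_cast; linarith [Real.pi_pos]) (by push_cast; linarith [Real.pi_pos])
        linarith
      nlinarith

end CfsgLib.Char.Zassenhaus
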