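/-
An irreducible fixed-point-free representation over the algebraic numbers.
-/
import Cfsg.Agent.Lib.Char.Zassenhaus.Pair
import Mathlib.FieldTheory.IsAlgClosed.AlgebraicClosure
import Mathlib.LinearAlgebra.Matrix.GeneralLinearGroup.Defs
import Mathlib.RingTheory.Artinian.Module
import Mathlib.Algebra.Module.LinearMap.Basic

set_option autoImplicit false

namespace CfsgLib.Char.Zassenhaus

open Matrix

variable {G : Type*} [Group G] [Finite G]

/-- A fixed-point-free complex representation gives a rational function with vanishing coset sums. -/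
theorem exists_ratKernel_of_zrep (ψ : ZRep G) :
    ∃ w : G → ℚ, w ≠ 0 ∧ ∀ x : G, x ≠ 1 → ∀ h, ∑ i ∈ Finset.range (orderOf x), w (x ^ i * h) = 0 := by
  classical
  let j : Fin ψ.n := ⟨0, n_pos ψ⟩
  let b := Module.Free.chooseBasis ℚ ℂ
  obtain ⟨k, hk⟩ : ∃ k, b.coord k (1 : ℂ) ≠ 0 := by
    by_contra hc
    push Not at hc
    exact one_ne_zero (b.forall_coord_eq_zero_iff.1 hc)
  refine ⟨fun h => b.coord k (ψ.rho h⁻¹ j j), fun h0 => hk ?_, fun x hx h => ?_⟩
  · have := congrFun h0 1
    simpa using this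
  · rw [← map_sum]
    have hS : ψ.rho x⁻¹ * (∑ i ∈ Finset.range (orderOf x), ψ.rho (x⁻¹ ^ i)) =
        ∑ i ∈ Finset.range (orderOf x), ψ.rho (x⁻¹ ^ i) := by
      rw [Finset.mul_sum]
      simp only [← map_mul, ← pow_succ']
      have h1 := Finset.sum_range_succ' (fun i => ψ.rho (x⁻¹ ^ i)) (orderOf x)
      have h2 := Finset.sum_range_succ (fun i => ψ.rho (x⁻¹ ^ i)) (orderOf x)
      rw [h1, show x⁻¹ ^ orderOf x = x⁻¹ ^ 0 by rw [inv_pow, pow_orderOf_eq_one, inv_one, pow_zero]] at h2
      exact add_right_cancel h2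
    have h0 := eq_zero_of_rho_mul ψ (inv_ne_one.2 hx) hS
    have : ∑ i ∈ Finset.range (orderOf x), ψ.rho (x ^ i * h)⁻¹ j j = 0 := by
      have h1 : ψ.rho h⁻¹ * ∑ i ∈ Finset.range (orderOf x), ψ.rho (x⁻¹ ^ i) = 0 := by rw [h0, mul_zero]
      rw [Finset.mul_sum] at h1
      have h2 := congrFun (congrFun h1 j) j
      rw [Matrix.sum_apply] at h2
      simpa [map_mul, inv_pow] using h2
    rw [this, map_zero]

variable (K : Type*) [Field K] [CharZero K] [Fintype G]

/-- The kernel functions over a field. -/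
def kernelOver (G : Type*) [Group G] [Fintype G] : Submodule K (G → K) where
  carrier := {f | ∀ x : G, x ≠ 1 → ∀ h, ∑ i ∈ Finset.range (orderOf x), f (x ^ i * h) = 0}
  zero_mem' := fun x _ h => by simp
  add_mem' := fun {f g} hf hg x hx h => by simp [Finset.sum_add_distrib, hf x hx h, hg x hx h]
  smul_mem' := fun c f hf x hx h => by simp [← Finset.mul_sum, hf x hx h]

omit [Finite G] in
/-- The representation. -/
theorem exists_irreducible_fpf (ψ : ZRep G) :
    ∃ (n : ℕ) (ρ : G →* GL (Fin n) K), 0 < n ∧ Function.Injective ρ ∧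
      (∀ W : Submodule K (Fin n → K), (∀ g : G, ∀ w ∈ W, ((ρ g : GL (Fin n) K) : Matrix (Fin n) (Fin n) K).mulVec w ∈ W) →
        W = ⊥ ∨ W = ⊤) ∧
      ∀ g : G, g ≠ 1 → ∀ v : Fin n → K, ((ρ g : GL (Fin n) K) : Matrix (Fin n) (Fin n) K).mulVec v = v → v = 0 := by
  classical
  haveI : Finite G := Finite.of_fintype G
  obtain ⟨w, hw, hker⟩ := exists_ratKernel_of_zrep ψ
  let T : G → (G → K) →ₗ[K] (G → K) := fun g => LinearMap.funLeft K K fun h => g⁻¹ * h
  have hTm : ∀ g g' f, T (g * g') f = T g (T g' f) := fun g g' f => by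
    funext h; simp [T, LinearMap.funLeft, mul_assoc]
  have hT1 : ∀ f, T 1 f = f := fun f => by funext h; simp [T, LinearMap.funLeft]
  let P : Submodule K (G → K) → Prop := fun U => U ≠ ⊥ ∧ U ≤ kernelOver K G ∧ ∀ g, ∀ f ∈ U, T g f ∈ U
  have hP : ∃ U, P U := by
    refine ⟨kernelOver K G, fun h0 => hw (funext fun h => ?_), le_rfl, fun g f hf x hx h => ?_⟩
    · have hm : (fun h => (w h : K)) ∈ kernelOver K G := fun x hx h => by
        show ∑ i ∈ Finset.range (orderOf x), (w (x ^ i * h) : K) = 0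
        rw [← Rat.cast_sum, hker x hx h, Rat.cast_zero]
      rw [h0, Submodule.mem_bot] at hm
      simpa using congrFun hm h
    · have hx' : g⁻¹ * x * g ≠ 1 := fun e => hx (by
        have := congrArg (fun y => g * y * g⁻¹) e; simpa [mul_assoc] using this)
      have := hf (g⁻¹ * x * g) hx' (g⁻¹ * h)
      rw [show orderOf (g⁻¹ * x * g) = orderOf x from by
        simpa using MulEquiv.orderOf_eq (MulAut.conj g⁻¹) x] at this
      refine Eq.trans (Finset.sum_congr rfl fun i _ => ?_) this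
      rw [show g⁻¹ * x * g = g⁻¹ * x * g⁻¹⁻¹ by rw [inv_inv], conj_pow, inv_inv]
      show f (g⁻¹ * (x ^ i * h)) = _
      congr 1
      group
  obtain ⟨U, ⟨hU0, hUk, hUT⟩, hmin⟩ := IsArtinian.set_has_minimal {U | P U} hP
  let L : G →* (U →ₗ[K] U) :=
    { toFun := fun g => (T g).restrict (hUT g)
      map_one' := LinearMap.ext fun f => Subtype.ext (hT1 f)
      map_mul' := fun g g' => LinearMap.ext fun f => Subtype.ext (hTm g g' f) }
  let b := Module.finBasis K U
  let E := LinearMap.toMatrixAlgEquiv b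
  let R : G →* Matrix (Fin (Module.finrank K U)) (Fin (Module.finrank K U)) K :=
    E.toAlgHom.toRingHom.toMonoidHom.comp L
  have hR : ∀ g (f : U), R g *ᵥ ⇑(b.repr f) = ⇑(b.repr (L g f)) := fun g f =>
    LinearMap.toMatrix_mulVec_repr b b (L g) f
  have hsurj : ∀ v, ∃ f : U, ⇑(b.repr f) = v := fun v => ⟨b.equivFun.symm v, by
    rw [← b.equivFun_apply, LinearEquiv.apply_symm_apply]⟩
  have hfix : ∀ g, g ≠ 1 → ∀ f : U, L g f = f → f = 0 := by
    intro g hg f hf
    have h1 : ∀ h, f.1 (g⁻¹ * h) = f.1 h := fun h => congrFun (congrArg Subtype.val hf) h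
    refine Subtype.ext (funext fun h => ?_)
    have h2 := hUk f.2 g⁻¹ (inv_ne_one.2 hg) h
    have h3 : ∀ i : ℕ, f.1 ((g⁻¹) ^ i * h) = f.1 h := by
      intro i
      induction i with
      | zero => simp
      | succ i ih => rw [pow_succ', mul_assoc, h1, ih]
    simp only [h3, Finset.sum_const, Finset.card_range, nsmul_eq_mul, mul_eq_zero, Nat.cast_eq_zero] at h2
    exact h2.resolve_left (orderOf_pos _).ne'
  haveI : Nontrivial U := (Submodule.nontrivial_iff_ne_bot).2 hU0
  have hn : 0 < Module.finrank K U := Module.finrank_pos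
  have hfpf : ∀ g : G, g ≠ 1 → ∀ v, R g *ᵥ v = v → v = 0 := by
    intro g hg v hv
    obtain ⟨f, rfl⟩ := hsurj v
    rw [hR] at hv
    rw [hfix g hg f (b.repr.injective (DFunLike.coe_injective hv))]
    simp
  refine ⟨_, R.toHomUnits, hn, ?_, ?_, fun g hg v hv => hfpf g hg v hv⟩
  · intro g h e
    by_contra hne
    obtain ⟨f, hf⟩ := exists_ne (0 : U)
    refine hf (hfix (h⁻¹ * g) (fun e => hne (inv_mul_eq_one.1 e).symm) f ?_)
    have e' : L g = L h := E.injective (congrArg Units.val e)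
    rw [map_mul, e', ← map_mul, inv_mul_cancel, map_one]; rfl
  · intro W hW
    let V : Submodule K (G → K) := (W.comap b.equivFun.toLinearMap).map U.subtype
    by_cases hV : V = ⊥
    · refine Or.inl ((Submodule.eq_bot_iff W).2 fun v hv => ?_)
      obtain ⟨f, rfl⟩ := hsurj v
      have : (f : G → K) ∈ V := ⟨f, by simpa [Submodule.mem_comap] using hv, rfl⟩
      rw [hV, Submodule.mem_bot] at this
      rw [show f = 0 from Subtype.ext this]
      simp
    refine Or.inr ?_
    have hVU : V ≤ U := Submodule.map_subtype_le _ _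
    have hVP : P V := ⟨hV, hVU.trans hUk, fun g f hf => by
      obtain ⟨u, hu, rfl⟩ := hf
      refine ⟨L g u, ?_, rfl⟩
      simp only [SetLike.mem_coe, Submodule.mem_comap, LinearEquiv.coe_coe, Module.Basis.equivFun_apply] at hu ⊢
      rw [← hR]
      exact hW g _ hu⟩
    have hVeq : V = U := le_antisymm hVU (not_lt_iff_le_imp_ge.1 (hmin V hVP) hVU)
    rw [Submodule.eq_top_iff']
    intro v
    obtain ⟨f, rfl⟩ := hsurj v
    have : (f : G → K) ∈ V := hVeq.symm ▸ f.2
    obtain ⟨u, hu, e⟩ := this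
    rw [← Subtype.ext e]
    simpa [Submodule.mem_comap] using hu

end CfsgLib.Char.Zassenhaus
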