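/-
Computing in a quaternion algebra with coefficients in a Clifford algebra of rank two, over the rationals.
-/
import Mathlib.Algebra.Algebra.Rat
import Mathlib.Tactic.Module
import Mathlib.Tactic.NoncommRing

set_option autoImplicit false

namespace CfsgLib.Char.Zassenhaus

/-- Coefficients on `1, Y, V, YV`. -/
structure Cliff where
  /-- Scalar. -/
  c1 : ℚ
  /-- Coefficient of `Y`. -/
  cy : ℚ
  /-- Coefficient of `V`. -/
  cv : ℚ
  /-- Coefficient of `YV`. -/
  cp : ℚ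
deriving DecidableEq

/-- Coefficients on `1, a, t, at`. -/
structure QCliff where
  /-- Scalar part. -/
  q1 : Cliff
  /-- Coefficient of `a`. -/
  qa : Cliff
  /-- Coefficient of `t`. -/
  qt : Cliff
  /-- Coefficient of `at`. -/
  qu : Cliff
deriving DecidableEq

/-- The parameters `Y², V², YV+VY`. -/
structure CliffPar where
  /-- The square of `Y`. -/
  y : ℚ
  /-- The square of `V`. -/
  v : ℚ
  /-- The anticommutator. -/
  k : ℚ

/-- Zero. -/
def Cliff.zero : Cliff := ⟨0, 0, 0, 0⟩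

/-- A rational number. -/
def Cliff.scalar (r : ℚ) : Cliff := ⟨r, 0, 0, 0⟩

/-- Sum. -/
def Cliff.add (P Q : Cliff) : Cliff := ⟨P.c1 + Q.c1, P.cy + Q.cy, P.cv + Q.cv, P.cp + Q.cp⟩

/-- Multiple. -/
def Cliff.smul (r : ℚ) (P : Cliff) : Cliff := ⟨r * P.c1, r * P.cy, r * P.cv, r * P.cp⟩

/-- Right multiplication by `Y`. -/
def Cliff.mulY (π : CliffPar) (P : Cliff) : Cliff :=
  ⟨π.y * P.cy + π.k * P.cv, P.c1 + π.k * P.cp, -(π.y * P.cp), -P.cv⟩

/-- Right multiplication by `V`. -/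
def Cliff.mulV (π : CliffPar) (P : Cliff) : Cliff := ⟨π.v * P.cv, π.v * P.cp, P.c1, P.cy⟩

/-- Product. -/
def Cliff.mul (π : CliffPar) (P Q : Cliff) : Cliff :=
  ((Cliff.smul Q.c1 P).add (Cliff.smul Q.cy (P.mulY π))).add
    ((Cliff.smul Q.cv (P.mulV π)).add (Cliff.smul Q.cp ((P.mulY π).mulV π)))

/-- The conjugate. -/
def Cliff.conj (π : CliffPar) (P : Cliff) : Cliff := ⟨P.c1 + π.k * P.cp, -P.cy, -P.cv, -P.cp⟩

/-- A rational number. -/
def QCliff.scalar (r : ℚ) : QCliff := ⟨Cliff.scalar r, Cliff.zero, Cliff.zero, Cliff.zero⟩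

/-- Sum. -/
def QCliff.add (P Q : QCliff) : QCliff := ⟨P.q1.add Q.q1, P.qa.add Q.qa, P.qt.add Q.qt, P.qu.add Q.qu⟩

/-- Multiple. -/
def QCliff.smul (r : ℚ) (P : QCliff) : QCliff := ⟨P.q1.smul r, P.qa.smul r, P.qt.smul r, P.qu.smul r⟩

/-- Product. -/
def QCliff.mul (π : CliffPar) (P Q : QCliff) : QCliff :=
  ⟨((P.q1.mul π Q.q1).add ((P.qa.mul π Q.qa).smul (-3))).add
      (((P.qt.mul π Q.qt).smul (-1)).add ((P.qu.mul π Q.qu).smul (-3))),
    ((P.q1.mul π Q.qa).add (P.qa.mul π Q.q1)).add ((P.qt.mul π Q.qu).add ((P.qu.mul π Q.qt).smul (-1))),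
    ((P.q1.mul π Q.qt).add (P.qt.mul π Q.q1)).add
      (((P.qa.mul π Q.qu).smul (-3)).add ((P.qu.mul π Q.qa).smul 3)),
    ((P.q1.mul π Q.qu).add (P.qu.mul π Q.q1)).add ((P.qa.mul π Q.qt).add ((P.qt.mul π Q.qa).smul (-1)))⟩

variable {R : Type*} [Ring R] [Algebra ℚ R]

/-- Generators satisfying the relations. -/
structure CliffGens (π : CliffPar) (R : Type*) [Ring R] [Algebra ℚ R] where
  /-- `Y`. -/
  Y : R
  /-- `V`. -/
  V : R
  /-- `a`. -/
  a : R
  /-- `t`. -/
  t : R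
  hYY : Y * Y = π.y • (1 : R)
  hVV : V * V = π.v • (1 : R)
  hYV : Y * V + V * Y = π.k • (1 : R)
  haY : Commute a Y
  haV : Commute a V
  htY : Commute t Y
  htV : Commute t V
  haa : a * a = (-3 : ℚ) • (1 : R)
  htt : t * t = (-1 : ℚ) • (1 : R)
  hta : t * a = -(a * t)

variable {π : CliffPar} (γ : CliffGens π R)

/-- The value of a Clifford coefficient. -/
def CliffGens.evalC (P : Cliff) : R := P.c1 • (1 : R) + P.cy • γ.Y + P.cv • γ.V + P.cp • (γ.Y * γ.V)

/-- The value. -/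
def CliffGens.eval (P : QCliff) : R :=
  γ.evalC P.q1 + γ.evalC P.qa * γ.a + γ.evalC P.qt * γ.t + γ.evalC P.qu * (γ.a * γ.t)

theorem CliffGens.evalC_add (P Q : Cliff) : γ.evalC (P.add Q) = γ.evalC P + γ.evalC Q := by
  simp only [evalC, Cliff.add]; module

theorem CliffGens.evalC_smul (r : ℚ) (P : Cliff) : γ.evalC (P.smul r) = r • γ.evalC P := by
  simp only [evalC, Cliff.smul]; module

theorem CliffGens.evalC_mulY (P : Cliff) : γ.evalC (P.mulY π) = γ.evalC P * γ.Y := by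
  have hVY : γ.V * γ.Y = π.k • (1 : R) - γ.Y * γ.V := eq_sub_of_add_eq' γ.hYV
  simp only [evalC, Cliff.mulY, add_mul, smul_mul_assoc, one_mul, γ.hYY, hVY]
  rw [mul_assoc γ.Y γ.V, hVY, mul_sub, ← mul_assoc γ.Y γ.Y, γ.hYY, smul_mul_assoc, one_mul, mul_smul_comm,
    mul_one]
  module

theorem CliffGens.evalC_mulV (P : Cliff) : γ.evalC (P.mulV π) = γ.evalC P * γ.V := by
  simp only [evalC, Cliff.mulV, add_mul, smul_mul_assoc, one_mul, mul_assoc, γ.hVV, mul_smul_comm, mul_one]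
  module

theorem CliffGens.evalC_mul (P Q : Cliff) : γ.evalC (P.mul π Q) = γ.evalC P * γ.evalC Q := by
  rw [Cliff.mul, γ.evalC_add, γ.evalC_add, γ.evalC_add, γ.evalC_smul, γ.evalC_smul, γ.evalC_smul, γ.evalC_smul,
    γ.evalC_mulV, γ.evalC_mulV, γ.evalC_mulY]
  rw [show γ.evalC Q = Q.c1 • (1 : R) + Q.cy • γ.Y + Q.cv • γ.V + Q.cp • (γ.Y * γ.V) from rfl]
  simp only [mul_add, mul_smul_comm, mul_one, mul_assoc]
  abel

theorem CliffGens.commute_a (P : Cliff) : Commute γ.a (γ.evalC P) := by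
  refine Commute.add_right (Commute.add_right (Commute.add_right ?_ ?_) ?_) ?_
  · exact (Commute.one_right _).smul_right _
  · exact γ.haY.smul_right _
  · exact γ.haV.smul_right _
  · exact (γ.haY.mul_right γ.haV).smul_right _

theorem CliffGens.commute_t (P : Cliff) : Commute γ.t (γ.evalC P) := by
  refine Commute.add_right (Commute.add_right (Commute.add_right ?_ ?_) ?_) ?_
  · exact (Commute.one_right _).smul_right _
  · exact γ.htY.smul_right _
  · exact γ.htV.smul_right _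
  · exact (γ.htY.mul_right γ.htV).smul_right _

theorem CliffGens.eval_add (P Q : QCliff) : γ.eval (P.add Q) = γ.eval P + γ.eval Q := by
  simp only [eval, QCliff.add, γ.evalC_add, add_mul]; abel

theorem CliffGens.eval_smul (r : ℚ) (P : QCliff) : γ.eval (P.smul r) = r • γ.eval P := by
  simp only [eval, QCliff.smul, γ.evalC_smul, smul_mul_assoc, smul_add]

theorem CliffGens.eval_scalar (r : ℚ) : γ.eval (QCliff.scalar r) = r • (1 : R) := by
  simp [eval, QCliff.scalar, Cliff.scalar, Cliff.zero, evalC]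

theorem CliffGens.eval_mul (P Q : QCliff) : γ.eval (P.mul π Q) = γ.eval P * γ.eval Q := by
  have ca : ∀ (x : R) (S : Cliff) (y : R), x * γ.a * (γ.evalC S * y) = x * γ.evalC S * (γ.a * y) := fun x S y => by
    rw [mul_assoc, ← mul_assoc γ.a, (γ.commute_a S).eq, mul_assoc, mul_assoc]
  have ct : ∀ (x : R) (S : Cliff) (y : R), x * γ.t * (γ.evalC S * y) = x * γ.evalC S * (γ.t * y) := fun x S y => by
    rw [mul_assoc, ← mul_assoc γ.t, (γ.commute_t S).eq, mul_assoc, mul_assoc]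
  have cu : ∀ (x : R) (S : Cliff) (y : R), x * (γ.a * γ.t) * (γ.evalC S * y) =
      x * γ.evalC S * (γ.a * γ.t * y) := fun x S y => by
    rw [mul_assoc, ← mul_assoc (γ.a * γ.t), ((γ.commute_a S).mul_left (γ.commute_t S)).eq]
    simp only [mul_assoc]
  have c1 : ∀ (x : R) (S : Cliff), x * γ.a * γ.evalC S = x * γ.evalC S * γ.a := fun x S => by
    rw [mul_assoc, (γ.commute_a S).eq, mul_assoc]
  have c2 : ∀ (x : R) (S : Cliff), x * γ.t * γ.evalC S = x * γ.evalC S * γ.t := fun x S => by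
    rw [mul_assoc, (γ.commute_t S).eq, mul_assoc]
  have c3 : ∀ (x : R) (S : Cliff), x * (γ.a * γ.t) * γ.evalC S = x * γ.evalC S * (γ.a * γ.t) := fun x S => by
    rw [mul_assoc, ((γ.commute_a S).mul_left (γ.commute_t S)).eq, mul_assoc]
  have pau : γ.a * (γ.a * γ.t) = (-3 : ℚ) • γ.t := by rw [← mul_assoc, γ.haa, smul_mul_assoc, one_mul]
  have pua : γ.a * γ.t * γ.a = (3 : ℚ) • γ.t := by rw [mul_assoc, γ.hta, mul_neg, pau]; module
  have put : γ.a * γ.t * γ.t = (-1 : ℚ) • γ.a := by rw [mul_assoc, γ.htt, mul_smul_comm, mul_one]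
  have ptu : γ.t * (γ.a * γ.t) = γ.a := by rw [← mul_assoc, γ.hta, neg_mul, put]; module
  have puu : γ.a * γ.t * (γ.a * γ.t) = (-3 : ℚ) • (1 : R) := by rw [mul_assoc, ptu, γ.haa]
  simp only [eval, QCliff.mul, γ.evalC_add, γ.evalC_smul, γ.evalC_mul]
  simp only [mul_add, add_mul, ca, ct, cu, c1, c2, c3, γ.haa, γ.htt, γ.hta, pau, pua, put, ptu, puu]
  simp only [← mul_assoc (γ.evalC P.q1), smul_mul_assoc, mul_smul_comm, mul_one, mul_neg]
  module

/-- Four times the scalar part. -/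
def QCliff.part (π : CliffPar) (P : QCliff) : QCliff :=
  let a : QCliff := ⟨Cliff.zero, Cliff.scalar 1, Cliff.zero, Cliff.zero⟩
  let t : QCliff := ⟨Cliff.zero, Cliff.zero, Cliff.scalar 1, Cliff.zero⟩
  let u : QCliff := ⟨Cliff.zero, Cliff.zero, Cliff.zero, Cliff.scalar 1⟩
  (P.add ((((a.mul π P).mul π a)).smul (-1 / 3))).add
    ((((t.mul π P).mul π t).smul (-1)).add (((u.mul π P).mul π u).smul (-1 / 3)))

/-- An element whose scalar part has nonzero norm does not vanish. -/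
theorem CliffGens.eval_ne_zero [Nontrivial R] {P : QCliff} {N : ℚ} (hN : N ≠ 0)
    (h : (P.part π).mul π ⟨(P.q1).conj π, Cliff.zero, Cliff.zero, Cliff.zero⟩ = QCliff.scalar N) :
    γ.eval P ≠ 0 := by
  intro h0
  have e := congrArg γ.eval h
  simp only [QCliff.part, γ.eval_mul, γ.eval_add, γ.eval_smul, γ.eval_scalar, h0, mul_zero, zero_mul, smul_zero,
    add_zero] at e
  exact hN ((smul_eq_zero.1 e.symm).resolve_right one_ne_zero)

end CfsgLib.Char.Zassenhaus
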