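/-
Coordinates of a skew element of square `-3` with respect to the quaternions spanned by two others.
-/
import Mathlib.Algebra.Algebra.Rat
import Mathlib.Tactic.Module
import Mathlib.Tactic.NoncommRing
import Mathlib.Tactic.LinearCombination
import Mathlib.Algebra.Module.Basic

set_option autoImplicit false

namespace CfsgLib.Char.Zassenhaus

variable {R : Type*} [Ring R] [Algebra ℚ R]

/-- An element commutes with its anticommutator with an element of scalar square. -/
theorem commute_anticomm {x y : R} {r : ℚ} (hx : x * x = r • (1 : R)) : Commute x (x * y + y * x) := by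
  show x * (x * y + y * x) = (x * y + y * x) * x
  rw [mul_add, add_mul, ← mul_assoc x x, hx, mul_assoc y x x, hx, ← mul_assoc, smul_mul_assoc, one_mul,
    mul_smul_comm, mul_one]
  abel

/-- An element commutes with an anticommutator if it anticommutes with one factor and has scalar anticommutator
with the other. -/
theorem commute_anticomm_of_scalar {x y z : R} {r : ℚ} (hxy : x * y = -(y * x))
    (hxz : x * z + z * x = r • (1 : R)) : Commute x (y * z + z * y) := by
  have hxz' : x * z = r • (1 : R) - z * x := eq_sub_of_add_eq hxz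
  show x * (y * z + z * y) = (y * z + z * y) * x
  rw [mul_add, add_mul, ← mul_assoc x y, hxy, neg_mul, mul_assoc y x, hxz', ← mul_assoc x z, hxz',
    sub_mul, mul_assoc z x y, hxy, mul_sub, mul_smul_comm, smul_mul_assoc, mul_one, one_mul, mul_neg,
    mul_assoc y z x, ← mul_assoc z y x]
  noncomm_ring

/-- The decomposition. -/
theorem decompose {a t b X Y : R} (haa : a * a = (-3 : ℚ) • (1 : R)) (htt : t * t = (-1 : ℚ) • (1 : R))
    (hta : t * a = -(a * t)) (hbb : b * b = (-3 : ℚ) • (1 : R)) (hab : a * b + b * a = (2 : ℚ) • (1 : R))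
    (hX : t * b + b * t = (-2 : ℚ) • X) (hY : a * t * b + b * (a * t) = (-6 : ℚ) • Y) :
    b = (-1 / 3 : ℚ) • a + X * t + Y * (a * t) ∧ Commute X Y ∧ Commute a X ∧ Commute t X ∧ Commute a Y ∧
      Commute t Y ∧ X * X + (3 : ℚ) • (Y * Y) = (8 / 3 : ℚ) • (1 : R) := by
  have eX : X = (-1 / 2 : ℚ) • (t * b + b * t) := by rw [hX, smul_smul]; norm_num
  have eY : Y = (-1 / 6 : ℚ) • (a * t * b + b * (a * t)) := by rw [hY, smul_smul]; norm_num
  have hat : a * t = -(t * a) := by rw [hta, neg_neg]
  have haat : a * (a * t) = (-3 : ℚ) • t := by rw [← mul_assoc, haa, smul_mul_assoc, one_mul]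
  have hata : a * t * a = (3 : ℚ) • t := by rw [mul_assoc, hta, mul_neg, haat]; module
  have hatt : a * t * t = (-1 : ℚ) • a := by rw [mul_assoc, htt, mul_smul_comm, mul_one]
  have htat : t * (a * t) = a := by rw [← mul_assoc, hta, neg_mul, hatt]; module
  have huu : a * t * (a * t) = (-3 : ℚ) • (1 : R) := by rw [mul_assoc, htat, haa]
  have hau : a * (a * t) = -(a * t * a) := by rw [haat, hata]; module
  have htu : t * (a * t) = -(a * t * t) := by rw [htat, hatt]; module
  have caX : Commute a X := by
    rw [eX]; exact (commute_anticomm_of_scalar hat hab).smul_right _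
  have ctX : Commute t X := by
    rw [eX]; exact (commute_anticomm (r := -1) htt).smul_right _
  have cbX : Commute b X := by
    rw [eX, add_comm]; exact (commute_anticomm (r := -3) hbb).smul_right _
  have caY : Commute a Y := by
    rw [eY]; exact (commute_anticomm_of_scalar hau hab).smul_right _
  have cbY : Commute b Y := by
    rw [eY, add_comm]; exact (commute_anticomm (r := -3) hbb).smul_right _
  have cuY : Commute (a * t) Y := by
    rw [eY]; exact (commute_anticomm (r := -3) huu).smul_right _
  have ctY : Commute t Y := by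
    have h : Commute (a * (a * t)) Y := caY.mul_left cuY
    rw [haat] at h
    have h' := h.smul_left (-1 / 3 : ℚ)
    rwa [smul_smul, show (-1 / 3 : ℚ) * -3 = 1 by norm_num, one_smul] at h'
  have cXY : Commute X Y := by
    rw [eX]
    exact (((ctY.mul_left cbY).add_left (cbY.mul_left ctY)).smul_left _)
  set r : R := b + (1 / 3 : ℚ) • a - X * t - Y * (a * t) with hr
  have cuX : Commute (a * t) X := caX.mul_left ctX
  have aXt : a * (X * t) = X * (a * t) := by rw [← mul_assoc, caX.eq, mul_assoc]
  have aYu : a * (Y * (a * t)) = Y * (a * (a * t)) := by rw [← mul_assoc, caY.eq, mul_assoc]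
  have tXt : t * (X * t) = X * (t * t) := by rw [← mul_assoc, ctX.eq, mul_assoc]
  have tYu : t * (Y * (a * t)) = Y * (t * (a * t)) := by rw [← mul_assoc, ctY.eq, mul_assoc]
  have uXt : a * t * (X * t) = X * (a * t * t) := by rw [← mul_assoc, cuX.eq, mul_assoc]
  have uYu : a * t * (Y * (a * t)) = Y * (a * t * (a * t)) := by rw [← mul_assoc, cuY.eq, mul_assoc]
  have ra : a * r + r * a = 0 := by
    have : a * r + r * a = (a * b + b * a) + (2 / 3 : ℚ) • (a * a) - X * (a * t + t * a) -
        Y * (a * (a * t) + a * t * a) := by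
      simp only [hr, mul_add, add_mul, mul_sub, sub_mul, mul_smul_comm, smul_mul_assoc, aXt, aYu]
      simp only [mul_assoc]
      module
    rw [this, hab, haa, hta, haat, hata, add_neg_cancel, mul_zero]
    simp only [smul_smul, ← add_smul]
    norm_num
  have rt : t * r + r * t = 0 := by
    have : t * r + r * t = (t * b + b * t) + (1 / 3 : ℚ) • (t * a + a * t) - (2 : ℚ) • (X * (t * t)) -
        Y * (t * (a * t) + a * t * t) := by
      simp only [hr, mul_add, add_mul, mul_sub, sub_mul, mul_smul_comm, smul_mul_assoc, tXt, tYu]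
      simp only [mul_assoc]
      module
    rw [this, hX, hta, neg_add_cancel, htt, htat, hatt, mul_smul_comm, mul_one]
    rw [show a + (-1 : ℚ) • a = 0 by module, mul_zero, smul_zero]
    module
  have ru : a * t * r + r * (a * t) = 0 := by
    have : a * t * r + r * (a * t) = (a * t * b + b * (a * t)) + (1 / 3 : ℚ) • (a * t * a + a * (a * t)) -
        X * (t * (a * t) + a * t * t) - (2 : ℚ) • (Y * (a * t * (a * t))) := by
      simp only [hr, mul_add, add_mul, mul_sub, sub_mul, mul_smul_comm, smul_mul_assoc, uXt, uYu]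
      simp only [mul_assoc]
      module
    rw [this, hY, hata, haat, htat, hatt, huu, mul_smul_comm, mul_one]
    rw [show a + (-1 : ℚ) • a = 0 by module, mul_zero]
    module
  have ru' : a * t * r = r * (a * t) := by
    rw [mul_assoc, eq_neg_of_add_eq_zero_left rt, mul_neg, ← mul_assoc, eq_neg_of_add_eq_zero_left ra, neg_mul,
      neg_neg, mul_assoc]
  have r0 : r = 0 := by
    have h2 : (2 : ℚ) • (a * t * r) = 0 := by
      rw [two_smul]; nth_rewrite 2 [ru']; exact ru
    have h3 : a * t * r = 0 := (smul_eq_zero.1 h2).resolve_left (by norm_num)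
    have h4 : (-3 : ℚ) • r = 0 := by
      rw [show (-3 : ℚ) • r = a * t * (a * t) * r by rw [huu, smul_mul_assoc, one_mul], mul_assoc, h3, mul_zero]
    exact (smul_eq_zero.1 h4).resolve_left (by norm_num)
  have hbe : b = (-1 / 3 : ℚ) • a + X * t + Y * (a * t) := by
    rw [← sub_eq_zero, ← r0, hr]; module
  refine ⟨hbe, cXY, caX, ctX, caY, ctY, ?_⟩
  have bX : b * X = X * b := cbX.eq
  have : b * b = (1 / 9 : ℚ) • (a * a) + X * X * (t * t) + Y * Y * (a * t * (a * t)) +
      (-1 / 3 : ℚ) • (X * (a * t + t * a)) + (-1 / 3 : ℚ) • (Y * (a * (a * t) + a * t * a)) +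
      X * Y * (t * (a * t) + a * t * t) := by
    conv_lhs => rw [hbe]
    simp only [mul_add, add_mul, smul_mul_assoc, mul_smul_comm, mul_assoc X t, mul_assoc Y (a * t), tXt, tYu, uXt,
      uYu, aXt, aYu]
    simp only [← mul_assoc Y X, ← cXY.eq]
    simp only [mul_assoc]
    module
  rw [hbb, haa, htt, huu, hta, haat, hata, htat, hatt, add_neg_cancel, mul_zero,
    show a + (-1 : ℚ) • a = 0 by module, mul_zero, show (-3 : ℚ) • t + (3 : ℚ) • t = 0 by module, mul_zero,
    mul_smul_comm, mul_smul_comm, mul_one, mul_one] at this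
  calc X * X + (3 : ℚ) • (Y * Y) = (X * X + (3 : ℚ) • (Y * Y)) -
        ((-3 : ℚ) • (1 : R) - ((1 / 9 : ℚ) • (-3 : ℚ) • (1 : R) + (-1 : ℚ) • (X * X) + (-3 : ℚ) • (Y * Y) +
          (-1 / 3 : ℚ) • (0 : R) + (-1 / 3 : ℚ) • (0 : R) + 0)) := by rw [← this, sub_self, sub_zero]
    _ = _ := by module

/-- An element squaring to `2` or satisfying `x² = 1 ± x`. -/
def IsTraceValue (x : R) : Prop := x * x = (2 : ℚ) • (1 : R) ∨ x * x = 1 + x ∨ x * x = 1 - x

theorem IsTraceValue.eq_zero_of_mul {x y : R} (h : IsTraceValue y) (hxy : y * x = 0) : x = 0 := by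
  have : y * y * x = 0 := by rw [mul_assoc, hxy, mul_zero]
  rcases h with e | e | e <;> rw [e] at this
  · rw [smul_mul_assoc, one_mul] at this
    exact (smul_eq_zero.1 this).resolve_left (by norm_num)
  · rwa [add_mul, hxy, add_zero, one_mul] at this
  · rwa [sub_mul, hxy, sub_zero, one_mul] at this

theorem not_trace_two [Nontrivial R] {x y z : R} (hyz : Commute y z) (hsum : x + y + z = 0)
    (hsq : x * x + y * y + z * z = (4 : ℚ) • (1 : R)) (hx : x * x = (2 : ℚ) • (1 : R)) (hy : IsTraceValue y)
    (hz : IsTraceValue z) : False := by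
  have e : x = -y - z := by rw [← sub_eq_zero, ← hsum]; abel
  have : (2 : ℚ) • (y * z) = x * x - ((4 : ℚ) • (1 : R) - x * x) := by
    rw [← hsq, e]; simp only [sub_mul, mul_sub, neg_mul, mul_neg, ← hyz.eq, neg_neg]
    module
  rw [hx, show (2 : ℚ) • (1 : R) - ((4 : ℚ) • (1 : R) - (2 : ℚ) • (1 : R)) = 0 by module] at this
  have hz0 : z = 0 := hy.eq_zero_of_mul ((smul_eq_zero.1 this).resolve_left (by norm_num))
  subst hz0
  exact one_ne_zero (α := R) (hz.eq_zero_of_mul (zero_mul 1))

theorem no_half [Nontrivial R] {x : R} {s : ℚ} (h : x = s • (1 : R)) (hx : x * x = 1 + x ∨ x * x = 1 - x)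
    (h1 : s * s ≠ 1 + s) (h2 : s * s ≠ 1 - s) : False := by
  subst h
  simp only [smul_mul_assoc, one_mul, smul_smul] at hx
  rcases hx with e | e
  · refine h1 (sub_eq_zero.1 ((smul_eq_zero.1 (?_ : (s * s - (1 + s)) • (1 : R) = 0)).resolve_right one_ne_zero))
    rw [sub_smul, add_smul, one_smul, e, sub_self]
  · refine h2 (sub_eq_zero.1 ((smul_eq_zero.1 (?_ : (s * s - (1 - s)) • (1 : R) = 0)).resolve_right one_ne_zero))
    rw [sub_smul, sub_smul, one_smul, e, sub_self]

/-- No three commuting such elements with sum zero and sum of squares four. -/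
theorem not_three_traces [Nontrivial R] {x y z : R} (hxy : Commute x y) (hxz : Commute x z) (hyz : Commute y z)
    (hsum : x + y + z = 0) (hsq : x * x + y * y + z * z = (4 : ℚ) • (1 : R)) (hx : IsTraceValue x)
    (hy : IsTraceValue y) (hz : IsTraceValue z) : False := by
  rcases hx with e | e | e
  · exact not_trace_two hyz hsum hsq e hy hz
  all_goals rcases hy with f | f | f
  all_goals try exact not_trace_two hxz (by rw [← hsum]; abel) (by rw [← hsq]; abel) f (by first | exact Or.inr (Or.inl e) | exact Or.inr (Or.inr e)) hz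
  all_goals rcases hz with g | g | g
  all_goals try exact not_trace_two hxy (by rw [← hsum]; abel) (by rw [← hsq]; abel) g (by first | exact Or.inr (Or.inl e) | exact Or.inr (Or.inr e)) (by first | exact Or.inr (Or.inl f) | exact Or.inr (Or.inr f))
  all_goals rw [e, f, g] at hsq
  all_goals have hz' : z = -x - y := by rw [← sub_eq_zero, ← hsum]; abel
  all_goals have hy' : y = -x - z := by rw [← sub_eq_zero, ← hsum]; abel
  all_goals have hx' : x = -y - z := by rw [← sub_eq_zero, ← hsum]; abel
  -- `+++`
  · rw [show (1 : R) + x + (1 + y) + (1 + z) = (3 : ℚ) • (1 : R) by rw [hz']; module] at hsq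
    exact one_ne_zero (α := R) ((smul_eq_zero.1 (show (1 : ℚ) • (1 : R) = 0 by
      linear_combination (norm := module) -hsq)).resolve_left (by norm_num))
  -- `++-`
  · refine no_half (x := z) (s := -1 / 2) ?_ (Or.inr g) (by norm_num) (by norm_num)
    linear_combination (norm := module) (-1 / 2 : ℚ) • hsq + (1 / 2 : ℚ) • hsum
  -- `+-+`
  · refine no_half (x := y) (s := -1 / 2) ?_ (Or.inr f) (by norm_num) (by norm_num)
    linear_combination (norm := module) (-1 / 2 : ℚ) • hsq + (1 / 2 : ℚ) • hsum
  -- `+--`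
  · refine no_half (x := x) (s := 1 / 2) ?_ (Or.inl e) (by norm_num) (by norm_num)
    linear_combination (norm := module) (1 / 2 : ℚ) • hsq + (1 / 2 : ℚ) • hsum
  -- `-++`
  · refine no_half (x := x) (s := -1 / 2) ?_ (Or.inr e) (by norm_num) (by norm_num)
    linear_combination (norm := module) (-1 / 2 : ℚ) • hsq + (1 / 2 : ℚ) • hsum
  -- `-+-`
  · refine no_half (x := y) (s := 1 / 2) ?_ (Or.inl f) (by norm_num) (by norm_num)
    linear_combination (norm := module) (1 / 2 : ℚ) • hsq + (1 / 2 : ℚ) • hsum
  -- `--+`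
  · refine no_half (x := z) (s := 1 / 2) ?_ (Or.inl g) (by norm_num) (by norm_num)
    linear_combination (norm := module) (1 / 2 : ℚ) • hsq + (1 / 2 : ℚ) • hsum
  -- `---`
  · rw [show (1 : R) - x + (1 - y) + (1 - z) = (3 : ℚ) • (1 : R) by rw [hz']; module] at hsq
    exact one_ne_zero (α := R) ((smul_eq_zero.1 (show (1 : ℚ) • (1 : R) = 0 by
      linear_combination (norm := module) -hsq)).resolve_left (by norm_num))

end CfsgLib.Char.Zassenhaus
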