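/-
The trace of an element in a fixed-point-free unitary group whose square is at most `8/3`.
-/
import Cfsg.Agent.Lib.Char.Zassenhaus.Pair
import Cfsg.Agent.Lib.Char.Zassenhaus.Decomp

set_option autoImplicit false

namespace CfsgLib.Char.Zassenhaus

open Matrix

variable {G : Type*} [Group G] [Finite G] (ψ : ZRep G)

local notation "ρ" => ψ.rho

/-- The trace of an element. -/
def tr (g : G) : ZMat ψ := ρ g + ρ g⁻¹

theorem natCast_eq_smul (k : ℕ) : (k : ZMat ψ) = (k : ℚ) • (1 : ZMat ψ) := by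
  rw [← Algebra.algebraMap_eq_smul_one, map_natCast]

theorem formVal_ratSmul (r : ℚ) (A : ZMat ψ) (v : Fin ψ.n → ℂ) : formVal (r • A) v = r * formVal A v := by
  rw [show r • A = (((r : ℝ)) : ℂ) • A by
    ext i j
    simp [Rat.smul_def], formVal_smul]

theorem nontrivial_zmat : Nontrivial (ZMat ψ) := by
  haveI : Nonempty (Fin ψ.n) := ⟨⟨0, n_pos ψ⟩⟩
  infer_instance

theorem tr_five {g : G} (h5 : g ^ 5 = 1) (h1 : g ≠ 1) : tr ψ g * tr ψ g = 1 - tr ψ g := by
  set Q := ρ g with hQ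
  have e5 : Q * Q * Q * Q * Q = 1 := by
    rw [hQ, ← map_mul, ← map_mul, ← map_mul, ← map_mul, ← map_one ψ.rho, ← h5]
    congr 1
    simp only [pow_succ, pow_zero, one_mul]
  have hi : ρ g⁻¹ = Q * Q * Q * Q := by
    rw [hQ, ← map_mul, ← map_mul, ← map_mul]
    congr 1
    rw [inv_eq_iff_mul_eq_one, ← h5]
    simp only [pow_succ, pow_zero, one_mul, mul_assoc]
  have h0 : 1 + Q + Q * Q + Q * Q * Q + Q * Q * Q * Q = 0 := by
    refine eq_zero_of_rho_mul ψ h1 ?_
    rw [← hQ, show Q * (1 + Q + Q * Q + Q * Q * Q + Q * Q * Q * Q) =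
      Q + Q * Q + Q * Q * Q + Q * Q * Q * Q + Q * Q * Q * Q * Q by noncomm_ring, e5]
    abel
  rw [tr, ← hQ, hi, ← sub_eq_zero, ← h0]
  rw [show (Q + Q * Q * Q * Q) * (Q + Q * Q * Q * Q) =
    Q * Q + Q * Q * Q * Q * Q + Q * Q * Q * Q * Q + (Q * Q * Q * Q * Q) * (Q * Q * Q) by noncomm_ring, e5]
  noncomm_ring

theorem tr_mul_central {g z : G} (hz : ρ z = -1) : tr ψ (g * z) = -tr ψ g := by
  have hz' : ρ z⁻¹ = -1 := by
    calc ρ z⁻¹ = ρ z⁻¹ * (ρ z * -1) := by rw [hz]; simp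
      _ = _ := by rw [← mul_assoc, rho_inv_mul, one_mul]
  simp only [tr, _root_.mul_inv_rev, map_mul, hz, hz', mul_neg, mul_one, neg_mul, one_mul, neg_add]

theorem exists_eigen_square {g : G} {l : ℕ} (hl : l.Coprime (orderOf g)) :
    ∃ v, v ≠ 0 ∧ formVal (tr ψ g * tr ψ g) v =
      (2 * Real.cos (2 * Real.pi * l / orderOf g)) ^ 2 * formVal 1 v := by
  obtain ⟨v, hv, h⟩ := exists_trace_eigen ψ g hl
  refine ⟨v, hv, ?_⟩
  refine formVal_eigen ?_
  rw [← mulVec_mulVec, tr, h, mulVec_smul, h, smul_smul]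
  congr 1
  push_cast
  ring

/-- The possible traces with square at most `8/3`. -/
theorem tr_cases {g : G} (hb : ∀ v, formVal (tr ψ g * tr ψ g) v ≤ 8 / 3 * formVal 1 v) :
    tr ψ g = 0 ∨ tr ψ g = 1 ∨ tr ψ g = -1 ∨ IsTraceValue (tr ψ g) := by
  set n := orderOf g with hn
  have key : ∀ l : ℕ, l.Coprime n → (2 * Real.cos (2 * Real.pi * l / n)) ^ 2 ≤ 8 / 3 := by
    intro l hl
    obtain ⟨v, hv, e⟩ := exists_eigen_square ψ hl
    have := hb v
    rw [e] at this
    exact le_of_mul_le_mul_right this (formVal_one_pos hv)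
  have hcos : ∀ x : ℝ, 0 ≤ x → x ≤ 0.53 → 8 / 3 < (2 * Real.cos x) ^ 2 := by
    intro x h0 h1
    have := Real.one_sub_sq_div_two_le_cos (x := x)
    have h2 : x ^ 2 ≤ 0.2809 := by nlinarith
    have h3 : (0.859 : ℝ) ≤ Real.cos x := by linarith
    nlinarith
  have hn0 : 0 < n := orderOf_pos g
  have hpi := Real.pi_lt_d2
  have hmem : n = 3 ∨ n = 4 ∨ n = 5 ∨ n = 6 ∨ n = 8 ∨ n = 10 := by
    have e1 : n ≠ 1 := fun e => by
      have := key 0 (by rw [e]; decide)
      norm_num at this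
    have e2 : n ≠ 2 := fun e => by
      have := key 1 (Nat.coprime_one_left _)
      rw [e, show 2 * Real.pi * ((1 : ℕ) : ℝ) / ((2 : ℕ) : ℝ) = Real.pi by push_cast; ring, Real.cos_pi] at this
      norm_num at this
    have e11 : n ≤ 11 := by
      by_contra hc
      push Not at hc
      have := key 1 (Nat.coprime_one_left _)
      have hn' : (12 : ℝ) ≤ n := by exact_mod_cast hc
      refine absurd this (not_le.2 (hcos _ (by positivity) ?_))
      push_cast
      rw [div_le_iff₀ (by linarith)]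
      nlinarith
    have hodd : ∀ m : ℕ, n = 2 * m + 1 → m.Coprime n → 3 ≤ m → False := by
      intro m hm hc h3
      have := key m hc
      have hn' : (n : ℝ) = 2 * m + 1 := by exact_mod_cast hm
      have h3' : (3 : ℝ) ≤ m := by exact_mod_cast h3
      rw [show 2 * Real.pi * (m : ℝ) / n = Real.pi - Real.pi / n by rw [hn']; field_simp; ring, Real.cos_pi_sub]
        at this
      have h := hcos (Real.pi / n) (by positivity) (by rw [div_le_iff₀ (by linarith)]; nlinarith)
      nlinarith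
    have e7 : n ≠ 7 := fun e => hodd 3 (by omega) (by rw [e]; decide) le_rfl
    have e9 : n ≠ 9 := fun e => hodd 4 (by omega) (by rw [e]; decide) (by omega)
    have e11' : n ≠ 11 := fun e => hodd 5 (by omega) (by rw [e]; decide) (by omega)
    omega
  have hne : ∀ j : ℕ, 0 < j → j < n → g ^ j ≠ 1 := fun j h1 h2 e => by
    have := orderOf_le_of_pow_eq_one h1 e; omega
  have hpow := pow_orderOf_eq_one g
  rcases hmem with h | h | h | h | h | h <;> rw [h] at hne <;> rw [← hn, h] at hpow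
  · refine Or.inr (Or.inr (Or.inl ?_))
    obtain ⟨-, hs⟩ := rho_of_three ψ hpow (by simpa using hne 1)
    rw [ψ.star_rho] at hs
    rw [tr, hs]; abel
  · obtain ⟨-, hs⟩ := rho_sq_of_four ψ hpow (hne 2 (by norm_num) (by norm_num))
    rw [ψ.star_rho] at hs
    exact Or.inl (by rw [tr, hs, add_neg_cancel])
  · exact Or.inr (Or.inr (Or.inr (Or.inr (Or.inr (tr_five ψ hpow (by simpa using hne 1))))))
  · refine Or.inr (Or.inl ?_)
    have hz : ρ (g ^ 3) = -1 := rho_eq_neg_one ψ (by rw [← pow_mul]; exact hpow) (hne 3 (by norm_num) (by norm_num))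
    have e := tr_mul_central ψ (g := g) hz
    have h4 : (g * g ^ 3) ^ 3 = 1 := by
      rw [← pow_succ', ← pow_mul, show (3 + 1) * 3 = 6 * 2 by norm_num, pow_mul, hpow, one_pow]
    obtain ⟨-, hs⟩ := rho_of_three ψ h4 (by rw [← pow_succ']; exact hne 4 (by norm_num) (by norm_num))
    rw [ψ.star_rho] at hs
    rw [tr, hs] at e
    have e' := congrArg Neg.neg e
    rw [neg_neg] at e'
    rw [← e']
    abel
  · refine Or.inr (Or.inr (Or.inr (Or.inl ?_)))
    obtain ⟨hs, -⟩ := rho_sq_of_four ψ (g := g ^ 2) (by rw [← pow_mul]; exact hpow)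
      (by rw [← pow_mul]; exact hne 4 (by norm_num) (by norm_num))
    have hi : ρ g⁻¹ = -(ρ g * (ρ g * ρ g)) := by
      have hz := rho_eq_neg_one ψ (g := g ^ 4) (by rw [← pow_mul]; exact hpow) (hne 4 (by norm_num) (by norm_num))
      rw [← map_mul, ← map_mul, show g⁻¹ = g ^ 4 * (g * (g * g)) by
        rw [inv_eq_iff_mul_eq_one, ← hpow]; simp only [pow_succ, pow_zero, one_mul, mul_assoc], map_mul, hz,
        neg_one_mul]
    rw [sq, map_mul] at hs
    rw [tr, hi, show (ρ g + -(ρ g * (ρ g * ρ g))) * (ρ g + -(ρ g * (ρ g * ρ g))) =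
      ρ g * ρ g - ρ g * ρ g * (ρ g * ρ g) - ρ g * ρ g * (ρ g * ρ g) + ρ g * ρ g * (ρ g * ρ g) * (ρ g * ρ g) by
        noncomm_ring, hs]
    rw [neg_one_mul, sub_neg_eq_add, sub_neg_eq_add]
    rw [show (2 : ℚ) • (1 : ZMat ψ) = 1 + 1 by module]
    abel
  · refine Or.inr (Or.inr (Or.inr (Or.inr (Or.inl ?_))))
    have hz : ρ (g ^ 5) = -1 := rho_eq_neg_one ψ (by rw [← pow_mul]; exact hpow) (hne 5 (by norm_num) (by norm_num))
    have h := tr_five ψ (g := g * g ^ 5)
      (by rw [← pow_succ', ← pow_mul, show (5 + 1) * 5 = 10 * 3 by norm_num, pow_mul, hpow, one_pow])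
      (by rw [← pow_succ']; exact hne 6 (by norm_num) (by norm_num))
    rw [tr_mul_central ψ hz] at h
    simpa using h

end CfsgLib.Char.Zassenhaus
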