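/-
An element of order three which has product of order six with an element of order three of a copy of
`SL(2,5)` lies in it.
-/
import Cfsg.Agent.Lib.Char.Zassenhaus.TraceValue
import Cfsg.Agent.Lib.Char.Zassenhaus.Clifford

set_option autoImplicit false

namespace CfsgLib.Char.Zassenhaus

open Matrix

variable {G : Type*} [Group G] [Finite G] (ψ : ZRep G)

local notation "ρ" => ψ.rho

/-- An element of order four inverting `a`, with an element of order three adapted to it. -/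
structure Frame (S : Subgroup G) (a t c : G) : Prop where
  ha : a ^ 3 = 1
  ha1 : a ≠ 1
  h4 : t ^ 4 = 1
  h2 : t ^ 2 ≠ 1
  hinv : t * a * t⁻¹ = a⁻¹
  hc : c ^ 3 = 1
  hc1 : c ≠ 1
  hac : orderOf (a * c) = 6
  htc : orderOf (t * c) = 3
  haS : a ∈ S
  htS : t ∈ S
  hcS : c ∈ S

variable {ψ}

theorem Frame.inv {S : Subgroup G} {a t c : G} (F : Frame S a t c) : Frame S a t⁻¹ (t * c⁻¹ * t⁻¹) := by
  have hti : t⁻¹ * a * t⁻¹⁻¹ = a⁻¹ := by
    have h := congrArg Inv.inv F.hinv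
    simp only [_root_.mul_inv_rev, inv_inv] at h
    calc t⁻¹ * a * t⁻¹⁻¹ = t⁻¹ * (t * (a⁻¹ * t⁻¹)) * t := by rw [h, inv_inv]
      _ = a⁻¹ := by group
  refine ⟨F.ha, F.ha1, by rw [inv_pow, F.h4, inv_one], by rw [inv_pow]; simpa using F.h2, hti, ?_, ?_, ?_, ?_,
    F.haS, inv_mem F.htS, mul_mem (mul_mem F.htS (inv_mem F.hcS)) (inv_mem F.htS)⟩
  · rw [conj_pow, inv_pow, F.hc]; simp
  · intro e; exact F.hc1 (by simpa [mul_inv_eq_one] using e)
  · have e : a * (t * c⁻¹ * t⁻¹) = MulAut.conj t (MulAut.conj a⁻¹ (a * c)⁻¹) := by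
      have e1 : a * t = t * a⁻¹ := by
        have h := congrArg Inv.inv F.hinv
        simp only [_root_.mul_inv_rev, inv_inv] at h
        calc a * t = t * (a⁻¹ * t⁻¹) * t := by rw [h]
          _ = t * a⁻¹ := by group
      simp only [MulAut.conj_apply, _root_.mul_inv_rev, inv_inv]
      rw [← mul_assoc, ← mul_assoc, e1]
      group
    rw [e, MulEquiv.orderOf_eq, MulEquiv.orderOf_eq, orderOf_inv, F.hac]
  · rw [show t⁻¹ * (t * c⁻¹ * t⁻¹) = (t * c)⁻¹ by group, orderOf_inv, F.htc]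

theorem Frame.conj {S : Subgroup G} {a t c : G} (F : Frame S a t c) {h : G} (hh : h ∈ S)
    (hha : MulAut.conj h a = a) : Frame S a (MulAut.conj h t) (MulAut.conj h c) := by
  refine ⟨F.ha, F.ha1, by rw [← map_pow, F.h4, map_one], ?_, ?_, by rw [← map_pow, F.hc, map_one], ?_, ?_, ?_,
    F.haS, ?_, ?_⟩
  · rw [← map_pow]; intro e
    exact F.h2 ((MulAut.conj h).injective (by rw [e, map_one]))
  · conv_rhs => rw [← hha, ← map_inv, ← F.hinv, map_mul, map_mul, map_inv, hha]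
  · intro e; exact F.hc1 ((MulAut.conj h).injective (by rw [e, map_one]))
  · conv_lhs => rw [← hha, ← map_mul, MulEquiv.orderOf_eq, F.hac]
  · rw [← map_mul, MulEquiv.orderOf_eq, F.htc]
  · rw [MulAut.conj_apply]; exact mul_mem (mul_mem hh F.htS) (inv_mem hh)
  · rw [MulAut.conj_apply]; exact mul_mem (mul_mem hh F.hcS) (inv_mem hh)

variable (ψ)

theorem anti_two {a b : G} (ha : a ^ 3 = 1) (ha1 : a ≠ 1) (hb : b ^ 3 = 1) (hb1 : b ≠ 1)
    (h6 : orderOf (a * b) = 6) : anti ψ a b = 2 := by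
  rcases anti_cases ψ ha ha1 hb hb1 with ⟨h, -⟩ | ⟨h, -⟩ | ⟨h, -⟩ | ⟨-, h⟩ | ⟨h, -⟩
  iterate 3 omega
  · exact h
  · omega

theorem two_eq : (2 : ZMat ψ) = (2 : ℚ) • (1 : ZMat ψ) := by simpa using natCast_eq_smul ψ 2

theorem three_eq : (3 : ZMat ψ) = (3 : ℚ) • (1 : ZMat ψ) := by simpa using natCast_eq_smul ψ 3

theorem six_eq : (6 : ZMat ψ) = (6 : ℚ) • (1 : ZMat ψ) := by simpa using natCast_eq_smul ψ 6

theorem skewPart_sq_smul {g : G} (h3 : g ^ 3 = 1) (h1 : g ≠ 1) :
    skewPart ψ g * skewPart ψ g = (-3 : ℚ) • (1 : ZMat ψ) := by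
  rw [(skewPart_sq ψ h3 h1).1, three_eq ψ, neg_smul]

theorem rho_eq_skew (g : G) : ρ g = (1 / 2 : ℚ) • skewPart ψ g + (-1 / 2 : ℚ) • (1 : ZMat ψ) := by
  simp only [skewPart]; module

theorem trace_rel {t b : G} (h4 : t ^ 4 = 1) (h2 : t ^ 2 ≠ 1) (hb : b ^ 3 = 1) (hb1 : b ≠ 1) :
    ρ t * skewPart ψ b + skewPart ψ b * ρ t = (2 : ℚ) • tr ψ (t * b) := by
  obtain ⟨-, st⟩ := rho_sq_of_four ψ h4 h2
  obtain ⟨-, sb⟩ := rho_of_three ψ hb hb1
  rw [ψ.star_rho] at st sb
  simp only [tr, _root_.mul_inv_rev, map_mul, st, sb, skewPart, mul_add, add_mul, mul_one, one_mul, mul_neg,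
    sub_mul, neg_mul, neg_neg, neg_sub]
  module

/-- The second coordinate. -/
noncomputable def coordY (a t b : G) : ZMat ψ :=
  (-1 / 6 : ℚ) • (skewPart ψ a * ρ t * skewPart ψ b + skewPart ψ b * (skewPart ψ a * ρ t))

variable {ψ}

theorem rho_rel {S : Subgroup G} {a t c : G} (F : Frame S a t c) :
    ρ t * ρ t = (-1 : ℚ) • (1 : ZMat ψ) ∧ ρ t * skewPart ψ a = -(skewPart ψ a * ρ t) := by
  refine ⟨by rw [(rho_sq_of_four ψ F.h4 F.h2).1, neg_smul, one_smul], ?_⟩
  have h : t * a = a⁻¹ * t := by rw [← F.hinv]; group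
  obtain ⟨-, sa⟩ := rho_of_three ψ F.ha F.ha1
  rw [ψ.star_rho] at sa
  have h' := congrArg ψ.rho h
  rw [map_mul, map_mul, sa] at h'
  simp only [skewPart, mul_add, add_mul, mul_one, one_mul, h']
  noncomm_ring

/-- The coordinates of an element with product of order six with `a`. -/
theorem coords {S : Subgroup G} {a t c b : G} (F : Frame S a t c) (hb : b ^ 3 = 1) (hb1 : b ≠ 1)
    (h6 : orderOf (a * b) = 6) :
    skewPart ψ b = (-1 / 3 : ℚ) • skewPart ψ a + -tr ψ (t * b) * ρ t + coordY ψ a t b * (skewPart ψ a * ρ t) ∧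
      Commute (-tr ψ (t * b)) (coordY ψ a t b) ∧ Commute (skewPart ψ a) (-tr ψ (t * b)) ∧
      Commute (ρ t) (-tr ψ (t * b)) ∧ Commute (skewPart ψ a) (coordY ψ a t b) ∧
      Commute (ρ t) (coordY ψ a t b) ∧
      -tr ψ (t * b) * -tr ψ (t * b) + (3 : ℚ) • (coordY ψ a t b * coordY ψ a t b) = (8 / 3 : ℚ) • (1 : ZMat ψ) := by
  obtain ⟨htt, hta⟩ := rho_rel F
  refine decompose (skewPart_sq_smul ψ F.ha F.ha1) htt hta (skewPart_sq_smul ψ hb hb1) ?_ ?_ ?_
  · have h := anti_two ψ F.ha F.ha1 hb hb1 h6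
    rw [anti] at h
    rw [h, two_eq ψ]
  · rw [trace_rel ψ F.h4 F.h2 hb hb1]; module
  · rw [coordY, smul_smul]; norm_num

theorem coordY_star {S : Subgroup G} {a t c b : G} (F : Frame S a t c) (hb : b ^ 3 = 1) (hb1 : b ≠ 1) :
    star (coordY ψ a t b) = coordY ψ a t b := by
  obtain ⟨-, hta⟩ := rho_rel (ψ := ψ) F
  obtain ⟨-, st⟩ := rho_sq_of_four ψ F.h4 F.h2
  obtain ⟨-, sa⟩ := skewPart_sq ψ F.ha F.ha1
  obtain ⟨-, sb⟩ := skewPart_sq ψ hb hb1
  have hs : ∀ (r : ℚ) (A : ZMat ψ), star (r • A) = r • star A := fun r A => by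
    ext i j
    simp [Rat.smul_def]
  simp only [coordY, hs, star_add, star_mul, st, sa, sb, neg_mul, mul_neg, neg_neg, hta]
  congr 1
  abel

/-- The anticommutator of two elements in coordinates. -/
theorem anti_coords {R : Type*} [Ring R] [Algebra ℚ R] {a t Y V : R} {x : ℚ}
    (haa : a * a = (-3 : ℚ) • (1 : R)) (htt : t * t = (-1 : ℚ) • (1 : R)) (hta : t * a = -(a * t))
    (haY : Commute a Y) (haV : Commute a V) (htY : Commute t Y) (htV : Commute t V) :
    ((-1 / 3 : ℚ) • a + (x • (1 : R)) * t + Y * (a * t)) * ((-1 / 3 : ℚ) • a + t + V * (a * t)) +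
      ((-1 / 3 : ℚ) • a + t + V * (a * t)) * ((-1 / 3 : ℚ) • a + (x • (1 : R)) * t + Y * (a * t)) =
      (-2 / 3 - 2 * x : ℚ) • (1 : R) + (-3 : ℚ) • (Y * V + V * Y) := by
  have h1 : ∀ {Z : R}, Commute a Z → Commute t Z → ∀ w : R, a * (Z * w) = Z * (a * w) ∧ t * (Z * w) = Z * (t * w) := by
    intro Z p q w
    exact ⟨by rw [← mul_assoc, p.eq, mul_assoc], by rw [← mul_assoc, q.eq, mul_assoc]⟩
  have haat : a * (a * t) = (-3 : ℚ) • t := by rw [← mul_assoc, haa, smul_mul_assoc, one_mul]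
  have hata : a * (t * a) = (3 : ℚ) • t := by rw [hta, mul_neg, haat]; module
  have hatt : a * (t * t) = (-1 : ℚ) • a := by rw [htt, mul_smul_comm, mul_one]
  have htat : t * (a * t) = a := by rw [← mul_assoc, hta, neg_mul, mul_assoc, hatt]; module
  simp only [mul_add, add_mul, smul_mul_assoc, mul_smul_comm, one_mul, mul_one, mul_assoc,
    fun w => (h1 haY htY w).1, fun w => (h1 haY htY w).2, fun w => (h1 haV htV w).1, fun w => (h1 haV htV w).2,
    haa, htt, hta, haat, hata, hatt, htat, mul_neg]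
  module

/-- The first generator's coordinates. -/
def elA : QCliff := ⟨Cliff.scalar (-1 / 2), Cliff.scalar (1 / 2), Cliff.zero, Cliff.zero⟩

/-- The coordinates of `b`. -/
def elB (x : ℚ) : QCliff :=
  ⟨Cliff.scalar (-1 / 2), Cliff.scalar (-1 / 6), Cliff.scalar (x / 2), ⟨0, 1 / 2, 0, 0⟩⟩

/-- The coordinates of `c`. -/
def elC : QCliff := ⟨Cliff.scalar (-1 / 2), Cliff.scalar (-1 / 6), Cliff.scalar (1 / 2), ⟨0, 0, 1 / 2, 0⟩⟩

/-- The coordinates of `t`. -/
def elT : QCliff := ⟨Cliff.zero, Cliff.zero, Cliff.scalar 1, Cliff.zero⟩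

/-- The coordinates of `t⁻¹`. -/
def elT' : QCliff := ⟨Cliff.zero, Cliff.zero, Cliff.scalar (-1), Cliff.zero⟩

/-- A word in the coordinates of `a, b, c, t`. -/
inductive Wd | a | a' | b | c | c' | t | t'

/-- The coordinates of a letter. -/
def Wd.el (π : CliffPar) (x : ℚ) : Wd → QCliff
  | .a => elA | .a' => elA.mul π elA | .b => elB x | .c => elC | .c' => elC.mul π elC | .t => elT | .t' => elT'

/-- The coordinates of a word. -/
def wordEl (π : CliffPar) (x : ℚ) : List Wd → QCliff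
  | [] => QCliff.scalar 1
  | w :: l => (w.el π x).mul π (wordEl π x l)

/-- The value of a letter. -/
def Wd.val (a t c b : G) : Wd → G
  | .a => a | .a' => a⁻¹ | .b => b | .c => c | .c' => c⁻¹ | .t => t | .t' => t⁻¹

theorem inv_eq_sq {g : G} (h3 : g ^ 3 = 1) : g⁻¹ = g * g := by
  rw [inv_eq_iff_mul_eq_one, ← pow_three, h3]

theorem eval_word {π : CliffPar} {x : ℚ} (γ : CliffGens π (ZMat ψ)) {S : Subgroup G} {a t c b : G}
    (F : Frame S a t c) (ea : γ.a = skewPart ψ a) (et : γ.t = ρ t)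
    (eb : skewPart ψ b = (-1 / 3 : ℚ) • skewPart ψ a + (x • (1 : ZMat ψ)) * ρ t + γ.Y * (skewPart ψ a * ρ t))
    (ec : skewPart ψ c = (-1 / 3 : ℚ) • skewPart ψ a + ρ t + γ.V * (skewPart ψ a * ρ t)) (l : List Wd) :
    ρ (l.map (Wd.val a t c b)).prod = γ.eval (wordEl π x l) := by
  have hA : ρ a = γ.eval elA := by
    rw [rho_eq_skew ψ a, ← ea]
    simp [CliffGens.eval, CliffGens.evalC, elA, Cliff.scalar, Cliff.zero]
    module
  have hC : ρ c = γ.eval elC := by
    rw [rho_eq_skew ψ c, ec, ← ea, ← et]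
    simp [CliffGens.eval, CliffGens.evalC, elC, Cliff.scalar, Cliff.zero]
    module
  have hl : ∀ w : Wd, ρ (w.val a t c b) = γ.eval (w.el π x) := by
    intro w
    cases w
    · exact hA
    · show ρ a⁻¹ = γ.eval (elA.mul π elA)
      rw [γ.eval_mul, ← hA, inv_eq_sq F.ha, map_mul]
    · show ρ b = _
      rw [rho_eq_skew ψ b, eb, ← ea, ← et]
      simp [Wd.el, CliffGens.eval, CliffGens.evalC, elB, Cliff.scalar, Cliff.zero]
      module
    · exact hC
    · show ρ c⁻¹ = γ.eval (elC.mul π elC)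
      rw [γ.eval_mul, ← hC, inv_eq_sq F.hc, map_mul]
    · show ρ t = _
      rw [← et]
      simp [Wd.el, CliffGens.eval, CliffGens.evalC, elT, Cliff.scalar, Cliff.zero]
    · show ρ t⁻¹ = _
      rw [← ψ.star_rho, (rho_sq_of_four ψ F.h4 F.h2).2, ← et]
      simp [Wd.el, CliffGens.eval, CliffGens.evalC, elT', Cliff.scalar, Cliff.zero]
  induction l with
  | nil => simp [wordEl, γ.eval_scalar]
  | cons w l ih => rw [List.map_cons, List.prod_cons, map_mul, ih, hl, wordEl, γ.eval_mul]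

include ψ in
theorem eq_one_or_t_sq {t g : G} (h4 : t ^ 4 = 1) (h2 : t ^ 2 ≠ 1) (hg : g ^ 2 = 1) : g = 1 ∨ g = t ^ 2 := by
  rcases eq_or_ne g 1 with h | h
  · exact Or.inl h
  · refine Or.inr (rho_injective ψ ?_)
    rw [rho_eq_neg_one ψ hg h, rho_eq_neg_one ψ (by rw [← pow_mul]; exact h4) h2]

theorem mem_of_word_four {π : CliffPar} {x : ℚ} (γ : CliffGens π (ZMat ψ)) {S : Subgroup G} {a t c b : G}
    (F : Frame S a t c) (ea : γ.a = skewPart ψ a) (et : γ.t = ρ t)
    (eb : skewPart ψ b = (-1 / 3 : ℚ) • skewPart ψ a + (x • (1 : ZMat ψ)) * ρ t + γ.Y * (skewPart ψ a * ρ t))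
    (ec : skewPart ψ c = (-1 / 3 : ℚ) • skewPart ψ a + ρ t + γ.V * (skewPart ψ a * ρ t)) (l : List Wd)
    (N : ℚ) (hN : N ≠ 0)
    (h4 : (((wordEl π x l).mul π (wordEl π x l)).mul π ((wordEl π x l).mul π (wordEl π x l))) = QCliff.scalar 1)
    (hcert : ((((wordEl π x l).mul π (wordEl π x l)).add (QCliff.scalar 1)).part π).mul π
        ⟨(((wordEl π x l).mul π (wordEl π x l)).add (QCliff.scalar 1)).q1.conj π, Cliff.zero, Cliff.zero,
          Cliff.zero⟩ = QCliff.scalar N) :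
    (l.map (Wd.val a t c b)).prod ∈ S := by
  haveI := nontrivial_zmat ψ
  have e := eval_word γ F ea et eb ec l
  set g := (l.map (Wd.val a t c b)).prod
  have hg4 : g ^ 4 = 1 := rho_injective ψ (by
    rw [show g ^ 4 = g * g * (g * g) by simp only [pow_succ, pow_zero, one_mul, mul_assoc], map_mul, map_mul, e,
      ← γ.eval_mul, ← γ.eval_mul, h4, γ.eval_scalar, map_one, one_smul])
  rcases eq_or_ne (g ^ 2) 1 with h2 | h2
  · rcases eq_one_or_t_sq (ψ := ψ) F.h4 F.h2 h2 with h | h <;> rw [h]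
    · exact one_mem S
    · exact pow_mem F.htS 2
  · refine absurd ?_ (γ.eval_ne_zero hN hcert)
    rw [γ.eval_add, γ.eval_mul, γ.eval_scalar, ← e, (rho_sq_of_four ψ hg4 h2).1, one_smul, neg_add_cancel]

theorem mem_of_word_three {π : CliffPar} {x : ℚ} (γ : CliffGens π (ZMat ψ)) {S : Subgroup G} {a t c b : G}
    (F : Frame S a t c) (ea : γ.a = skewPart ψ a) (et : γ.t = ρ t)
    (eb : skewPart ψ b = (-1 / 3 : ℚ) • skewPart ψ a + (x • (1 : ZMat ψ)) * ρ t + γ.Y * (skewPart ψ a * ρ t))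
    (ec : skewPart ψ c = (-1 / 3 : ℚ) • skewPart ψ a + ρ t + γ.V * (skewPart ψ a * ρ t)) (l : List Wd)
    (N : ℚ) (hN : N ≠ 0)
    (h3 : ((wordEl π x l).mul π ((wordEl π x l).mul π (wordEl π x l))) = QCliff.scalar 1)
    (hcert : (((((wordEl π x l).mul π (wordEl π x l)).add (wordEl π x l)).add (QCliff.scalar 1)).part π).mul π
        ⟨((((wordEl π x l).mul π (wordEl π x l)).add (wordEl π x l)).add (QCliff.scalar 1)).q1.conj π, Cliff.zero,
          Cliff.zero, Cliff.zero⟩ = QCliff.scalar N) :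
    (l.map (Wd.val a t c b)).prod ∈ S := by
  haveI := nontrivial_zmat ψ
  have e := eval_word γ F ea et eb ec l
  set g := (l.map (Wd.val a t c b)).prod
  have hg3 : g ^ 3 = 1 := rho_injective ψ (by
    rw [pow_three, map_mul, map_mul, e, ← γ.eval_mul, ← γ.eval_mul, h3, γ.eval_scalar, map_one, one_smul])
  rcases eq_or_ne g 1 with h | h
  · rw [h]; exact one_mem S
  · refine absurd ?_ (γ.eval_ne_zero hN hcert)
    rw [γ.eval_add, γ.eval_add, γ.eval_mul, γ.eval_scalar, ← e, (rho_of_three ψ hg3 h).1, one_smul]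
    abel

theorem sq_smul_eq {x : ℚ} {P : ZMat ψ}
    (h : (x • (1 : ZMat ψ)) * (x • (1 : ZMat ψ)) + (3 : ℚ) • P = (8 / 3 : ℚ) • (1 : ZMat ψ)) :
    P = ((8 / 3 - x * x) / 3 : ℚ) • (1 : ZMat ψ) := by
  rw [smul_mul_assoc, one_mul, smul_smul] at h
  linear_combination (norm := module) (1 / 3 : ℚ) • h

/-- The element lies in `S` if its first coordinate is `0` or `1`. -/
theorem mem_of_coord {S : Subgroup G} {a t c b : G} (F : Frame S a t c) (hb : b ^ 3 = 1) (hb1 : b ≠ 1)
    (h6 : orderOf (a * b) = 6) {x : ℚ} (hx : x = 0 ∨ x = 1) (hX : -tr ψ (t * b) = x • (1 : ZMat ψ)) : b ∈ S := by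
  obtain ⟨eb, -, -, -, caY, ctY, qb⟩ := coords (ψ := ψ) F hb hb1 h6
  obtain ⟨ec, -, -, -, caV, ctV, qc⟩ := coords (ψ := ψ) F F.hc F.hc1 F.hac
  obtain ⟨htt, hta⟩ := rho_rel (ψ := ψ) F
  have hXc : -tr ψ (t * c) = 1 := by
    obtain ⟨-, hs⟩ := rho_of_three ψ (g := t * c) (F.htc ▸ pow_orderOf_eq_one _) (fun e => by
      have := F.htc; rw [e, orderOf_one] at this; omega)
    rw [ψ.star_rho] at hs
    rw [tr, hs]; abel
  rw [hXc, one_mul] at ec
  have qc' : ((1 : ℚ) • (1 : ZMat ψ)) * ((1 : ℚ) • (1 : ZMat ψ)) + (3 : ℚ) • (coordY ψ a t c * coordY ψ a t c) =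
      (8 / 3 : ℚ) • (1 : ZMat ψ) := by
    rw [one_smul, ← hXc]; rw [hXc] at qc ⊢; exact qc
  rw [hX] at eb qb
  set Y := coordY ψ a t b with hY
  set V := coordY ψ a t c with hV
  have sY : star Y = Y := coordY_star F hb hb1
  have sV : star V = V := coordY_star F F.hc F.hc1
  have hYY := sq_smul_eq qb
  have hVV : V * V = (5 / 9 : ℚ) • (1 : ZMat ψ) := by rw [sq_smul_eq qc']; norm_num
  have hanti : anti ψ b c = (-2 / 3 - 2 * x : ℚ) • (1 : ZMat ψ) + (-3 : ℚ) • (Y * V + V * Y) := by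
    rw [anti, eb, ec]
    exact anti_coords (skewPart_sq_smul ψ F.ha F.ha1) htt hta caY caV ctY ctV
  have bound : ∀ (l : ℚ), ∀ v, -((l * ((8 / 3 - x * x) / 3 : ℚ) * 1 : ℚ) + ((5 / 9 : ℚ) / l : ℚ) : ℝ) *
      formVal 1 v ≤ (1 : ℝ) * formVal (Y * V + V * Y) v ∨ l ≤ 0 := by
    intro l v
    rcases le_or_gt l 0 with hl | hl
    · exact Or.inr hl
    · refine Or.inl ?_
      have h := formVal_sq_nonneg (A := l • Y + V) (by
        rw [star_add, sV]; congr 1
        rw [← sY]; ext i j; simp [Rat.smul_def, sY]) v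
      rw [show (l • Y + V) * (l • Y + V) = (l * l) • (Y * Y) + V * V + l • (Y * V + V * Y) by
        simp only [mul_add, add_mul, smul_mul_assoc, mul_smul_comm]; module, hYY, hVV, smul_smul, formVal_add,
        formVal_add, formVal_ratSmul, formVal_ratSmul, formVal_ratSmul] at h
      push_cast at h ⊢
      have hl' : (0 : ℝ) < l := by exact_mod_cast hl
      have e : -((l : ℝ) * ((8 / 3 - x * x) / 3) * 1 + 5 / 9 / l) * formVal 1 v =
          -((l * l * ((8 / 3 - x * x) / 3) + 5 / 9) * formVal 1 v) / l := by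
        field_simp
      rw [e, one_mul, div_le_iff₀ hl']
      nlinarith
  have bound' : ∀ (l : ℚ), ∀ v, (1 : ℝ) * formVal (Y * V + V * Y) v ≤
      ((l * ((8 / 3 - x * x) / 3 : ℚ) * 1 : ℚ) + ((5 / 9 : ℚ) / l : ℚ) : ℝ) * formVal 1 v ∨ l ≤ 0 := by
    intro l v
    rcases le_or_gt l 0 with hl | hl
    · exact Or.inr hl
    · refine Or.inl ?_
      have h := formVal_sq_nonneg (A := l • Y - V) (by
        rw [star_sub, sV]; congr 1
        rw [← sY]; ext i j; simp [Rat.smul_def, sY]) v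
      rw [show (l • Y - V) * (l • Y - V) = (l * l) • (Y * Y) + V * V - l • (Y * V + V * Y) by
        simp only [mul_sub, sub_mul, smul_mul_assoc, mul_smul_comm]; module, hYY, hVV, smul_smul, formVal_sub,
        formVal_add, formVal_ratSmul, formVal_ratSmul, formVal_ratSmul] at h
      push_cast at h ⊢
      have hl' : (0 : ℝ) < l := by exact_mod_cast hl
      have e : ((l : ℝ) * ((8 / 3 - x * x) / 3) * 1 + 5 / 9 / l) * formVal 1 v =
          ((l * l * ((8 / 3 - x * x) / 3) + 5 / 9) * formVal 1 v) / l := by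
        field_simp
      rw [e, one_mul, le_div_iff₀ hl']
      nlinarith
  haveI : Nonempty (Fin ψ.n) := ⟨⟨0, n_pos ψ⟩⟩
  obtain ⟨v0, hv0⟩ : ∃ v : Fin ψ.n → ℂ, v ≠ 0 := ⟨1, one_ne_zero⟩
  have hscalar : ∀ k : ℚ, anti ψ b c = k • (1 : ZMat ψ) →
      Y * V + V * Y = ((-2 / 3 - 2 * x - k) / 3 : ℚ) • (1 : ZMat ψ) := by
    intro k hk
    rw [hk] at hanti
    linear_combination (norm := module) (1 / 3 : ℚ) • hanti
  rcases anti_cases ψ hb hb1 F.hc F.hc1 with ⟨-, -, h⟩ | ⟨-, h, -⟩ | ⟨-, h⟩ | ⟨-, h⟩ | ⟨-, h⟩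
  · exfalso
    have hK := hscalar 6 (by rw [h, six_eq ψ])
    have hp := formVal_one_pos hv0
    rcases hx with rfl | rfl
    · have := (bound (4 / 5) v0).resolve_right (by norm_num)
      rw [hK, formVal_ratSmul] at this
      push_cast at this
      nlinarith
    · have := (bound 1 v0).resolve_right (by norm_num)
      rw [hK, formVal_ratSmul] at this
      push_cast at this
      nlinarith
  · rw [h]; exact F.hcS
  · have hK := hscalar (-2) (by rw [h, neg_smul, two_eq ψ])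
    rcases hx with rfl | rfl
    · norm_num at hK
      have hw := mem_of_word_three (π := ⟨8 / 9, 5 / 9, 4 / 9⟩) (x := (0 : ℚ)) (a := a) (t := t) (c := c) (b := b)
        ⟨Y, V, skewPart ψ a, ρ t, by rw [hYY]; norm_num, hVV, hK, caY, caV, ctY, ctV,
          skewPart_sq_smul ψ F.ha F.ha1, htt, hta⟩
        F rfl rfl eb ec [.a, .b, .c, .t'] 4 (by norm_num) (by decide +kernel) (by decide +kernel)
      simp only [List.map_cons, List.map_nil, List.prod_cons, List.prod_nil, Wd.val, mul_one] at hw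
      simpa [F.haS, F.hcS, F.htS, Subgroup.mul_mem_cancel_left, Subgroup.mul_mem_cancel_right] using hw
    · norm_num at hK
      have hw := mem_of_word_four (π := ⟨5 / 9, 5 / 9, -2 / 9⟩) (x := (1 : ℚ)) (a := a) (t := t) (c := c) (b := b)
        ⟨Y, V, skewPart ψ a, ρ t, by rw [hYY]; norm_num, hVV, by rw [hK]; norm_num, caY, caV,
          ctY, ctV, skewPart_sq_smul ψ F.ha F.ha1, htt, hta⟩
        F rfl rfl eb ec [.b, .c, .t] (8 / 3) (by norm_num) (by decide +kernel) (by decide +kernel)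
      simp only [List.map_cons, List.map_nil, List.prod_cons, List.prod_nil, Wd.val, mul_one] at hw
      simpa [F.haS, F.hcS, F.htS, Subgroup.mul_mem_cancel_left, Subgroup.mul_mem_cancel_right] using hw
  · have hK := hscalar 2 (by rw [h, two_eq ψ])
    rcases hx with rfl | rfl
    · norm_num at hK
      have hw := mem_of_word_four (π := ⟨8 / 9, 5 / 9, -8 / 9⟩) (x := (0 : ℚ)) (a := a) (t := t) (c := c) (b := b)
        ⟨Y, V, skewPart ψ a, ρ t, by rw [hYY]; norm_num, hVV, by rw [hK]; norm_num, caY, caV,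
          ctY, ctV, skewPart_sq_smul ψ F.ha F.ha1, htt, hta⟩
        F rfl rfl eb ec [.a, .b, .a', .c'] 2 (by norm_num) (by decide +kernel) (by decide +kernel)
      simp only [List.map_cons, List.map_nil, List.prod_cons, List.prod_nil, Wd.val, mul_one] at hw
      simpa [F.haS, F.hcS, F.htS, Subgroup.mul_mem_cancel_left, Subgroup.mul_mem_cancel_right] using hw
    · exfalso
      have hp := formVal_one_pos hv0
      have := (bound 1 v0).resolve_right (by norm_num)
      rw [hK, formVal_ratSmul] at this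
      push_cast at this
      nlinarith
  · exfalso
    obtain ⟨-, ⟨v, w, hv, hw, hE⟩, -⟩ := h
    have hp := formVal_one_pos hv
    have e := formVal_eigen hE
    rw [hanti, formVal_add, formVal_ratSmul, formVal_ratSmul] at e
    rcases hx with rfl | rfl
    · have := (bound (4 / 5) v).resolve_right (by norm_num)
      push_cast at this e
      nlinarith
    · have := (bound 1 v).resolve_right (by norm_num)
      push_cast at this e
      nlinarith

include ψ in
/-- An element of order three with product of order six with `a` lies in `S`. -/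
theorem mem_of_frame {S : Subgroup G} {a t c b : G} (F : Frame S a t c) (hb : b ^ 3 = 1) (hb1 : b ≠ 1)
    (h6 : orderOf (a * b) = 6) : b ∈ S := by
  have easy : ∀ {t c : G}, Frame S a t c → (tr ψ (t * b) = 0 ∨ tr ψ (t * b) = 1 ∨ tr ψ (t * b) = -1) → b ∈ S := by
    intro t c F h
    rcases h with e | e | e
    · exact mem_of_coord (ψ := ψ) F hb hb1 h6 (Or.inl rfl) (by rw [e, neg_zero, zero_smul])
    · refine mem_of_coord (ψ := ψ) F.inv hb hb1 h6 (Or.inr rfl) ?_
      have h1 := trace_rel ψ F.inv.h4 F.inv.h2 hb hb1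
      have h2 := trace_rel ψ F.h4 F.h2 hb hb1
      rw [show ρ t⁻¹ = -ρ t by rw [← ψ.star_rho]; exact (rho_sq_of_four ψ F.h4 F.h2).2, neg_mul, mul_neg,
        ← neg_add, h2, e] at h1
      rw [one_smul]
      linear_combination (norm := module) (-1 / 2 : ℚ) • h1.symm
    · exact mem_of_coord (ψ := ψ) F hb hb1 h6 (Or.inr rfl) (by rw [e, neg_neg, one_smul])
  have cases' : ∀ {t c : G}, Frame S a t c → b ∈ S ∨ IsTraceValue (-tr ψ (t * b)) := by
    intro t c F
    obtain ⟨-, -, -, -, -, -, q⟩ := coords (ψ := ψ) F hb hb1 h6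
    have hbound : ∀ v, formVal (tr ψ (t * b) * tr ψ (t * b)) v ≤ 8 / 3 * formVal 1 v := by
      intro v
      rw [neg_mul_neg] at q
      have h := congrArg (fun A => formVal A v) q
      simp only [formVal_add, formVal_ratSmul] at h
      have := formVal_sq_nonneg (coordY_star (ψ := ψ) F hb hb1) v
      push_cast at h
      linarith
    rcases tr_cases ψ hbound with e | e | e | e
    · exact Or.inl (easy F (Or.inl e))
    · exact Or.inl (easy F (Or.inr (Or.inl e)))
    · exact Or.inl (easy F (Or.inr (Or.inr e)))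
    · refine Or.inr ?_
      rcases e with e | e | e
      · exact Or.inl (by rw [neg_mul_neg, e])
      · exact Or.inr (Or.inr (by rw [neg_mul_neg, e, sub_neg_eq_add]))
      · exact Or.inr (Or.inl (by rw [neg_mul_neg, e, sub_eq_add_neg]))
  have hta : t * a = a⁻¹ * t := by rw [← F.hinv]; group
  have haa' : a * a = a⁻¹ := (inv_eq_sq F.ha).symm
  have hinv' : a⁻¹ * a⁻¹ = a := by rw [← _root_.mul_inv_rev, haa', inv_inv]
  have e1 : MulAut.conj a t = a⁻¹ * t := by
    have hta' : t * a⁻¹ = a * t := by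
      calc t * a⁻¹ = a * (a⁻¹ * t) * a⁻¹ := by group
        _ = a * (t * a) * a⁻¹ := by rw [hta]
        _ = a * t := by group
    rw [MulAut.conj_apply, mul_assoc, hta', ← mul_assoc, haa']
  have e2 : MulAut.conj a⁻¹ t = a * t := by
    rw [MulAut.conj_apply, inv_inv, mul_assoc, hta, ← mul_assoc, hinv']
  have hfix : MulAut.conj a a = a := by simp
  have hfix' : MulAut.conj a⁻¹ a = a := by simp
  have F1 := F.conj F.haS hfix
  have F2 := F.conj (inv_mem F.haS) hfix'
  rw [e1] at F1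
  rw [e2] at F2
  rcases cases' F with h | h0
  · exact h
  rcases cases' F1 with h | h1
  · exact h
  rcases cases' F2 with h | h2
  · exact h
  exfalso
  haveI := nontrivial_zmat ψ
  obtain ⟨-, cXY, -, -, -, -, q⟩ := coords (ψ := ψ) F hb hb1 h6
  set X := -tr ψ (t * b) with hX
  set Y := coordY ψ a t b with hY
  have r0 := trace_rel ψ F.h4 F.h2 hb hb1
  obtain ⟨qa, sa⟩ := rho_of_three ψ F.ha F.ha1
  rw [ψ.star_rho] at sa
  have hu : skewPart ψ a * ρ t * skewPart ψ b + skewPart ψ b * (skewPart ψ a * ρ t) = (-6 : ℚ) • Y := by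
    rw [hY, coordY, smul_smul]; norm_num
  have eX1 : -tr ψ (a⁻¹ * t * b) = (-1 / 2 : ℚ) • X + (-3 / 2 : ℚ) • Y := by
    have r1 := trace_rel ψ F1.h4 F1.h2 hb hb1
    rw [map_mul, show ρ a⁻¹ * ρ t = (-1 / 2 : ℚ) • ρ t + (-1 / 2 : ℚ) • (skewPart ψ a * ρ t) by
      rw [sa]; simp only [skewPart, add_mul, sub_mul, neg_mul, one_mul]; module] at r1
    simp only [add_mul, mul_add, smul_mul_assoc, mul_smul_comm] at r1
    rw [hX]
    linear_combination (norm := module) (1 / 2 : ℚ) • r1 + (1 / 4 : ℚ) • hu + (1 / 4 : ℚ) • r0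
  have eX2 : -tr ψ (a * t * b) = (-1 / 2 : ℚ) • X + (3 / 2 : ℚ) • Y := by
    have r1 := trace_rel ψ F2.h4 F2.h2 hb hb1
    rw [map_mul, show ρ a * ρ t = (-1 / 2 : ℚ) • ρ t + (1 / 2 : ℚ) • (skewPart ψ a * ρ t) by
      simp only [skewPart, add_mul, one_mul]; module] at r1
    simp only [add_mul, mul_add, smul_mul_assoc, mul_smul_comm] at r1
    rw [hX]
    linear_combination (norm := module) (1 / 2 : ℚ) • r1 + (-1 / 4 : ℚ) • hu + (1 / 4 : ℚ) • r0
  rw [eX1] at h1
  rw [eX2] at h2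
  refine not_three_traces ?_ ?_ ?_ ?_ ?_ h0 h1 h2
  · exact ((Commute.refl X).smul_right _).add_right (cXY.smul_right _)
  · exact ((Commute.refl X).smul_right _).add_right (cXY.smul_right _)
  · exact ((((Commute.refl X).smul_right _).add_right (cXY.smul_right _)).smul_left _).add_left
      (((cXY.symm.smul_right _).add_right ((Commute.refl Y).smul_right _)).smul_left _)
  · module
  · simp only [mul_add, add_mul, smul_mul_assoc, mul_smul_comm, smul_smul]
    rw [← cXY.eq]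
    linear_combination (norm := module) (3 / 2 : ℚ) • q

end CfsgLib.Char.Zassenhaus
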