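/-
A fixed-point-free group of automorphisms of a finite group has a representation as in `ZRep`.
-/
import Cfsg.Agent.Lib.Char.Zassenhaus.Rep
import Cfsg.Agent.Lib.PGroup.FixedPointFree
import Mathlib.GroupTheory.PGroup
import Mathlib.GroupTheory.Nilpotent
import Mathlib.LinearAlgebra.Dimension.Free
import Mathlib.Algebra.Module.ZMod

set_option autoImplicit false

namespace CfsgLib.Char.Zassenhaus

variable {G K : Type*} [Group G] [Finite G] [Group K] [Finite K]

omit [Finite G] in
theorem autIterate (φ : G →* MulAut K) (g : G) (j : ℕ) (k : K) : φ (g ^ j) k = (φ g)^[j] k := by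
  induction j with
  | zero => simp
  | succ j ih => rw [pow_succ', map_mul, MulAut.mul_apply, ih, Function.iterate_succ_apply']

/-- A fixed-point-free action gives a representation. -/
theorem exists_zrep_of_fpf [Nontrivial K] (φ : G →* MulAut K)
    (hφ : ∀ g, g ≠ 1 → ∀ k : K, φ g k = k → k = 1) : Nonempty (ZRep G) := by
  classical
  rcases subsingleton_or_nontrivial G with hG | hG
  · haveI : Fact (Nat.Prime 2) := ⟨Nat.prime_two⟩
    exact exists_zrep_of_modp (p := 2) (by simp) (1 : G →* Matrix (Fin 1) (Fin 1) (ZMod 2))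
      fun g hg => absurd (Subsingleton.elim g 1) hg
  obtain ⟨r, hr, hrG⟩ := Nat.exists_prime_and_dvd (Finite.one_lt_card (α := G)).ne'
  haveI := Fact.mk hr
  obtain ⟨g0, hg0⟩ := exists_prime_orderOf_dvd_card' r hrG
  haveI : Group.IsNilpotent K :=
    PGroup.isNilpotent_of_fixedPointFree hr K (φ g0)
      (hφ g0 fun e => by rw [e, orderOf_one] at hg0; exact hr.ne_one hg0.symm)
      fun k => by rw [← autIterate, ← hg0, pow_orderOf_eq_one, map_one]; rfl
  haveI : Nontrivial (Subgroup.center K) :=
    (Subgroup.nontrivial_iff_ne_bot _).2 (Group.IsNilpotent.center_ne_bot K)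
  obtain ⟨p, hp, hpZ⟩ := Nat.exists_prime_and_dvd (Finite.one_lt_card (α := Subgroup.center K)).ne'
  haveI := Fact.mk hp
  let V : Subgroup K :=
    { carrier := {x | x ∈ Subgroup.center K ∧ x ^ p = 1}
      one_mem' := ⟨one_mem _, one_pow p⟩
      mul_mem' := fun {x y} hx hy => ⟨mul_mem hx.1 hy.1, by
        rw [Commute.mul_pow (Subgroup.mem_center_iff.1 hy.1 x), hx.2, hy.2, one_mul]⟩
      inv_mem' := fun {x} hx => ⟨inv_mem hx.1, by rw [inv_pow, hx.2, inv_one]⟩ }
  haveI : Nontrivial V := by
    obtain ⟨z, hz⟩ := exists_prime_orderOf_dvd_card' p hpZ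
    refine ⟨⟨⟨z, z.2, by rw [← Subgroup.coe_pow, ← hz, pow_orderOf_eq_one]; rfl⟩, 1, fun e => ?_⟩⟩
    rw [show z = 1 from Subtype.ext (congrArg (fun v : V => (v : K)) e), orderOf_one] at hz
    exact hp.ne_one hz.symm
  letI : CommGroup V :=
    { (inferInstance : Group V) with
      mul_comm := fun x y => Subtype.ext (Subgroup.mem_center_iff.1 y.2.1 x) }
  have hmem : ∀ g, ∀ x ∈ V, φ g x ∈ V := fun g x hx =>
    ⟨Subgroup.mem_center_iff.2 fun y => by
      have h := congrArg (φ g) (Subgroup.mem_center_iff.1 hx.1 ((φ g).symm y))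
      rwa [map_mul, map_mul, MulEquiv.apply_symm_apply] at h,
      by rw [← map_pow, hx.2, map_one]⟩
  have hdvd : ¬ p ∣ Nat.card G := by
    intro hd
    obtain ⟨g, hg⟩ := exists_prime_orderOf_dvd_card' p hd
    letI : MulAction (Subgroup.zpowers g) V :=
      { smul := fun q x => ⟨φ q x, hmem _ _ x.2⟩
        one_smul := fun x => Subtype.ext (by show φ ((1 : Subgroup.zpowers g) : G) x = x; simp)
        mul_smul := fun q q' x => Subtype.ext (by
          show φ ((q * q' : Subgroup.zpowers g) : G) x = φ q (φ q' x); simp) }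
    have hpg : IsPGroup p (Subgroup.zpowers g) := IsPGroup.of_card (n := 1) (by rw [Nat.card_zpowers, hg, pow_one])
    have hpV : p ∣ Nat.card V := by
      obtain ⟨x, hx⟩ := exists_ne (1 : V)
      rw [← orderOf_eq_prime (x := x) (Subtype.ext x.2.2) hx]
      exact orderOf_dvd_natCard x
    obtain ⟨x, hx, hne⟩ := hpg.exists_fixed_point_of_prime_dvd_card_of_fixed_point V hpV (a := 1)
      (fun q => Subtype.ext (show φ q (1 : K) = 1 from map_one _))
    exact hne (Subtype.ext (hφ g (fun e => by rw [e, orderOf_one] at hg; exact hp.ne_one hg.symm) x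
      (congrArg Subtype.val (hx ⟨g, Subgroup.mem_zpowers g⟩))).symm)
  haveI : Module (ZMod p) (Additive V) := AddCommGroup.zmodModule fun x : Additive V =>
    show Additive.ofMul (x.toMul ^ p) = Additive.ofMul 1 from
      congrArg Additive.ofMul (Subtype.ext x.toMul.2.2)
  haveI : Finite (Additive V) := inferInstanceAs (Finite V)
  haveI : Module.Finite (ZMod p) (Additive V) := Module.Finite.of_finite
  let b := Module.finBasis (ZMod p) (Additive V)
  let L : G →* (Additive V →ₗ[ZMod p] Additive V) :=
    { toFun := fun g => AddMonoidHom.toZModLinearMap p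
        { toFun := fun x => Additive.ofMul ⟨φ g x.toMul.1, hmem _ _ x.toMul.2⟩
          map_zero' := congrArg Additive.ofMul (Subtype.ext (map_one (φ g)))
          map_add' := fun x y => congrArg Additive.ofMul (Subtype.ext (map_mul (φ g) _ _)) }
      map_one' := LinearMap.ext fun x => congrArg Additive.ofMul (Subtype.ext (by simp; rfl))
      map_mul' := fun g g' => LinearMap.ext fun x => congrArg Additive.ofMul (Subtype.ext (by simp; rfl)) }
  haveI : Nontrivial (Additive V) := inferInstanceAs (Nontrivial V)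
  haveI : Nonempty (Fin (Module.finrank (ZMod p) (Additive V))) := ⟨⟨0, Module.finrank_pos⟩⟩
  refine exists_zrep_of_modp hdvd
    ((LinearMap.toMatrixAlgEquiv b).toAlgHom.toRingHom.toMonoidHom.comp L) fun g hg v hv => ?_
  set x := b.equivFun.symm v with hx
  have hv' : v = ⇑(b.repr x) := by rw [hx, ← b.equivFun_apply, LinearEquiv.apply_symm_apply]
  rw [hv'] at hv
  have e : b.repr (L g x) = b.repr x := Finsupp.ext fun i => by
    have h := congrFun (LinearMap.toMatrix_mulVec_repr b b (L g) x) i
    rw [← h]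
    exact congrFun hv i
  have h1 : (x.toMul : K) = 1 :=
    hφ g hg _ (congrArg (fun y : Additive V => (y.toMul : K)) (b.repr.injective e))
  have h0 : x = 0 := congrArg Additive.ofMul (Subtype.ext h1)
  rw [hv', h0, map_zero]
  rfl

end CfsgLib.Char.Zassenhaus
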