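/-
Tables for `SL(2,5)` generated by two elements of order three with product of order ten, and for its lift
to the integers adjoined a root of `X² = X + 1`.
-/
import Mathlib.Data.ZMod.Defs

set_option autoImplicit false

namespace CfsgLib.Char.Zassenhaus

/-- Coordinates of a matrix modulo five. -/
abbrev Mat5 := ZMod 5 × ZMod 5 × ZMod 5 × ZMod 5

/-- Coordinates in the order with basis `1, a, b, ab`. -/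
abbrev Ord := (ℤ × ℤ) × (ℤ × ℤ) × (ℤ × ℤ) × (ℤ × ℤ)

/-- The first generator. -/
def genA : Mat5 := (0, 4, 1, 4)

/-- The second generator. -/
def genB : Mat5 := (0, 1, 4, 4)

/-- The elements. -/
def elTable : List Mat5 := [
  (1, 0, 0, 1), (0, 4, 1, 4), (0, 1, 4, 4), (4, 1, 4, 0), (1, 1, 1, 2), (1, 4, 4, 2),
  (4, 4, 1, 0), (4, 3, 0, 4), (1, 3, 2, 2), (4, 0, 3, 4), (4, 0, 2, 4), (1, 2, 3, 2),
  (4, 2, 0, 4), (3, 3, 4, 1), (2, 1, 1, 1), (3, 1, 2, 1), (2, 3, 3, 0), (0, 1, 4, 3),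
  (0, 4, 1, 3), (2, 2, 2, 0), (3, 4, 3, 1), (2, 4, 4, 1), (3, 2, 1, 1), (3, 4, 1, 0),
  (2, 0, 4, 3), (1, 2, 1, 3), (4, 2, 4, 1), (3, 0, 0, 2), (2, 4, 0, 3), (1, 4, 3, 3),
  (4, 4, 2, 1), (4, 1, 3, 1), (1, 1, 2, 3), (2, 1, 0, 3), (4, 3, 1, 1), (1, 3, 4, 3),
  (2, 0, 1, 3), (3, 1, 4, 0), (1, 4, 0, 1), (0, 3, 3, 3), (0, 2, 2, 1), (2, 2, 3, 1),
  (3, 4, 2, 3), (2, 4, 1, 0), (3, 2, 4, 3), (0, 2, 2, 3), (4, 4, 3, 2), (1, 2, 2, 0),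
  (4, 2, 1, 2), (1, 0, 4, 1), (1, 0, 1, 1), (4, 3, 4, 2), (1, 3, 3, 0), (4, 1, 2, 2),
  (3, 3, 1, 3), (2, 1, 4, 0), (3, 1, 3, 3), (2, 3, 2, 1), (0, 3, 3, 1), (1, 1, 0, 1),
  (4, 0, 1, 4), (1, 2, 4, 4), (3, 2, 3, 4), (2, 3, 1, 2), (3, 0, 4, 2), (4, 3, 3, 0),
  (1, 4, 2, 4), (4, 4, 0, 4), (1, 3, 0, 1), (2, 0, 3, 3), (3, 3, 2, 4), (4, 2, 2, 0),
  (1, 0, 3, 1), (2, 2, 0, 3), (3, 4, 0, 2), (2, 4, 2, 2), (0, 4, 1, 0), (0, 1, 4, 0),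
  (2, 1, 3, 2), (3, 1, 0, 2), (2, 3, 0, 3), (1, 0, 2, 1), (2, 0, 2, 3), (1, 2, 0, 1),
  (4, 1, 0, 4), (1, 1, 3, 4), (3, 0, 1, 2), (2, 2, 4, 2), (1, 3, 1, 4), (4, 0, 4, 4),
  (0, 4, 1, 2), (3, 1, 1, 4), (3, 0, 2, 2), (2, 4, 3, 4), (0, 2, 2, 4), (0, 3, 3, 2),
  (3, 3, 0, 2), (2, 3, 4, 4), (0, 3, 3, 4), (0, 2, 2, 0), (3, 4, 4, 4), (3, 2, 0, 2),
  (0, 4, 1, 1), (0, 1, 4, 2), (4, 3, 2, 3), (4, 2, 3, 3), (3, 0, 3, 2), (0, 1, 4, 1),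
  (0, 3, 3, 0), (2, 2, 1, 4), (0, 2, 2, 2), (2, 1, 2, 4), (1, 1, 4, 0), (4, 4, 4, 3),
  (3, 2, 2, 0), (1, 4, 1, 0), (4, 1, 1, 3), (3, 3, 3, 0), (4, 0, 0, 4), (2, 0, 0, 3)]

/-- The lifts of the elements. -/
def ordTable : List Ord := [
  ((1, 0), (0, 0), (0, 0), (0, 0)), ((0, 0), (1, 0), (0, 0), (0, 0)), ((0, 0), (0, 0), (1, 0), (0, 0)),
  ((-1, 0), (-1, 0), (0, 0), (0, 0)), ((0, 0), (0, 0), (0, 0), (1, 0)), ((-1, 1), (-1, 0), (-1, 0), (-1, 0)),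
  ((-1, 0), (0, 0), (-1, 0), (0, 0)), ((0, 0), (0, 0), (-1, 0), (-1, 0)), ((1, 0), (0, 1), (1, 0), (0, 0)),
  ((0, 0), (-1, 0), (0, 0), (-1, 0)), ((1, -1), (1, 0), (0, 0), (1, 0)), ((1, 0), (1, 0), (0, 1), (0, 0)),
  ((1, -1), (0, 0), (1, 0), (1, 0)), ((0, -1), (1, -1), (0, 0), (1, 0)), ((1, 0), (1, 0), (1, 0), (1, 0)),
  ((-1, 0), (0, -1), (-1, 0), (-1, 0)), ((-1, 0), (0, 0), (0, 0), (0, 1)), ((0, 0), (1, -1), (-1, 0), (0, 0)),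
  ((0, 0), (-1, 0), (1, -1), (0, 0)), ((0, 0), (0, -1), (0, -1), (0, -1)), ((0, -1), (0, 0), (1, -1), (1, 0)),
  ((0, 1), (0, 0), (0, 0), (-1, 0)), ((-1, 0), (-1, 0), (0, -1), (-1, 0)), ((0, 1), (-1, 1), (1, 0), (0, 0)),
  ((0, 0), (-1, 0), (0, -1), (0, -1)), ((-1, 1), (-1, 1), (0, 0), (-1, 0)), ((1, 0), (1, 0), (0, 0), (1, -1)),
  ((0, 1), (0, 1), (0, 1), (0, 0)), ((0, 0), (0, -1), (-1, 0), (0, -1)), ((0, 0), (0, 1), (1, 0), (1, 0)),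
  ((1, 0), (0, 0), (1, 0), (1, -1)), ((-1, 1), (0, 1), (-1, 1), (-1, 1)), ((-1, 1), (0, 0), (-1, 1), (-1, 0)),
  ((-1, 0), (-1, 1), (0, 0), (0, 1)), ((-1, 1), (-1, 1), (0, 1), (-1, 1)), ((0, 0), (1, 0), (0, 1), (1, 0)),
  ((-1, 0), (0, 0), (-1, 1), (0, 1)), ((0, 1), (1, 0), (-1, 1), (0, 0)), ((-1, 0), (0, 0), (-1, 1), (-1, 1)),
  ((0, -1), (0, 0), (0, 0), (0, 1)), ((0, 1), (0, 1), (0, 1), (-1, 1)), ((0, -1), (0, -1), (-1, 0), (0, 0)),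
  ((0, 0), (1, 0), (-1, 1), (0, 1)), ((0, -1), (-1, 0), (1, -1), (0, 0)), ((0, 0), (-1, 1), (1, 0), (0, 1)),
  ((1, -1), (0, -1), (0, -1), (0, -1)), ((1, -1), (0, 0), (1, -1), (1, 0)), ((-1, 0), (-1, 0), (-1, 0), (-1, 1)),
  ((0, 0), (-1, 0), (0, -1), (-1, 0)), ((-1, 0), (-1, 1), (0, 0), (-1, 1)), ((1, -1), (1, -1), (0, 0), (1, -1)),
  ((1, -1), (1, -1), (0, 0), (1, 0)), ((1, -1), (0, -1), (0, -1), (1, -1)), ((0, 0), (0, -1), (-1, 0), (-1, 0)),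
  ((1, 0), (1, -1), (-1, 0), (0, -1)), ((0, -1), (1, -1), (-1, 0), (0, 0)), ((1, 0), (-1, 0), (1, -1), (0, -1)),
  ((0, -1), (-1, 0), (0, -1), (0, 0)), ((2, 0), (1, 0), (1, 0), (1, -1)), ((1, -1), (0, 0), (1, -1), (1, -1)),
  ((1, 0), (1, -1), (0, 0), (1, -1)), ((1, -1), (1, -1), (0, -1), (1, -1)), ((0, 1), (1, 0), (0, 1), (0, 0)),
  ((0, 0), (1, -1), (-1, 0), (0, -1)), ((1, 0), (0, 0), (1, -1), (0, -1)), ((1, 0), (1, 0), (1, 0), (1, -1)),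
  ((1, -1), (0, -1), (1, -1), (1, -1)), ((-1, 1), (0, 0), (-1, 1), (-1, 1)), ((-1, 1), (0, 0), (-1, 0), (-1, 0)),
  ((0, 1), (1, 0), (-1, 1), (-1, 0)), ((0, 1), (0, 1), (1, 0), (0, 0)), ((-1, 1), (0, 1), (0, 1), (-1, 1)),
  ((-1, 1), (-1, 0), (0, 0), (-1, 0)), ((1, 0), (2, 0), (0, 1), (1, 0)), ((1, 0), (1, -1), (0, 0), (0, -1)),
  ((-1, 0), (1, 0), (-1, 1), (0, 1)), ((0, 0), (1, -1), (-1, 1), (0, 0)), ((0, 0), (-1, 1), (1, -1), (0, 0)),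
  ((0, 0), (-1, 0), (1, -1), (0, -1)), ((0, 0), (0, 1), (1, 0), (0, 1)), ((0, 1), (-1, 1), (1, 0), (-1, 0)),
  ((0, 0), (1, 0), (0, 0), (1, 0)), ((1, 0), (0, 1), (2, 0), (1, 0)), ((0, 0), (0, 0), (1, 0), (1, 0)),
  ((1, 0), (0, 0), (1, -1), (1, -1)), ((-1, 0), (0, 0), (-1, 0), (-1, 1)), ((0, 0), (1, 0), (0, 1), (0, 1)),
  ((-1, 0), (-1, 1), (1, 0), (0, 1)), ((-1, 0), (-1, 0), (0, 0), (-1, 1)), ((-1, 1), (-1, 1), (0, 0), (-1, 1)),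
  ((0, 0), (-1, 1), (1, 0), (0, 0)), ((0, -1), (0, 0), (0, 0), (1, 0)), ((0, -1), (-1, 0), (1, -1), (1, 0)),
  ((1, 0), (0, 1), (1, 0), (1, 0)), ((-2, 0), (-1, 0), (-1, 0), (-1, 1)), ((-1, 1), (0, 1), (0, 1), (0, 1)),
  ((-1, 0), (-2, 0), (0, -1), (-1, 0)), ((1, 0), (1, 0), (0, 1), (1, 0)), ((0, -1), (0, -1), (0, -1), (1, -1)),
  ((1, -1), (1, 0), (1, 0), (2, 0)), ((-1, 0), (-1, 0), (-1, 0), (-1, 0)), ((0, -1), (1, -1), (-1, 0), (1, 0)),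
  ((0, 0), (0, 0), (-1, 0), (0, 0)), ((0, 0), (1, 0), (-1, 1), (0, 0)), ((-1, 0), (-1, 0), (0, -1), (0, 0)),
  ((-1, 0), (0, -1), (-1, 0), (0, 0)), ((-1, 0), (0, -1), (-2, 0), (-1, 0)), ((0, 0), (-1, 0), (0, 0), (0, 0)),
  ((-1, 1), (-1, 0), (-1, 0), (-2, 0)), ((0, 1), (-1, 1), (0, 0), (-1, 0)), ((0, 1), (0, 0), (0, 0), (0, -1)),
  ((0, 1), (0, 0), (-1, 1), (-1, 0)), ((1, 0), (0, 0), (1, 0), (0, 0)), ((0, 0), (0, 0), (0, 0), (-1, 0)),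
  ((1, 0), (0, 0), (0, 0), (0, -1)), ((1, 0), (1, 0), (0, 0), (0, 0)), ((1, -1), (1, 0), (1, 0), (1, 0)),
  ((0, 0), (0, 1), (0, 1), (0, 1)), ((-1, 0), (0, 0), (0, 0), (0, 0)), ((0, -1), (0, -1), (0, -1), (0, 0))]

/-- Right multiplication by the first generator. -/
def raTable : List ℕ := [
  1, 3, 5, 0, 8, 10, 12, 13, 15, 17, 2, 19, 21, 23, 25, 4, 27, 29, 31, 33,
  34, 6, 36, 7, 39, 41, 43, 45, 46, 9, 48, 50, 52, 11, 54, 56, 58, 59, 60, 62,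
  63, 14, 65, 67, 69, 16, 71, 73, 75, 76, 18, 70, 79, 81, 20, 83, 85, 86, 22, 88,
  77, 87, 24, 92, 94, 96, 89, 26, 91, 98, 100, 28, 102, 78, 104, 30, 84, 38, 47, 32,
  106, 90, 108, 109, 49, 35, 110, 111, 37, 103, 53, 112, 40, 113, 97, 114, 42, 64, 44, 80,
  51, 82, 116, 66, 117, 93, 99, 115, 101, 55, 57, 61, 68, 105, 119, 118, 72, 74, 107, 95]

/-- Right multiplication by the second generator. -/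
def rbTable : List ℕ := [
  2, 4, 6, 7, 9, 11, 0, 14, 16, 1, 18, 20, 22, 24, 3, 26, 28, 30, 32, 27,
  5, 35, 37, 38, 40, 42, 44, 39, 8, 47, 49, 51, 10, 53, 55, 57, 45, 12, 61, 19,
  13, 64, 66, 68, 15, 70, 72, 74, 62, 17, 77, 78, 80, 65, 82, 84, 71, 21, 87, 89,
  90, 23, 91, 93, 95, 33, 25, 50, 97, 99, 36, 101, 103, 92, 29, 52, 59, 67, 31, 105,
  75, 107, 94, 100, 34, 60, 98, 106, 63, 76, 85, 48, 108, 88, 54, 41, 69, 43, 109, 96,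
  115, 56, 112, 46, 111, 114, 58, 113, 73, 86, 117, 116, 118, 81, 79, 83, 104, 119, 102, 110]

/-- A predecessor of each element. -/
def parTable : List ℕ := [
  0, 0, 0, 1, 1, 2, 2, 3, 4, 4, 5, 5, 6, 7, 7, 8, 8, 9, 10, 11,
  11, 12, 12, 13, 13, 14, 15, 16, 16, 17, 17, 18, 18, 19, 20, 21, 22, 22, 23, 24,
  24, 25, 25, 26, 26, 27, 28, 29, 30, 30, 31, 31, 32, 33, 34, 34, 35, 35, 36, 37,
  38, 38, 39, 40, 41, 42, 42, 43, 43, 44, 45, 46, 46, 47, 47, 48, 49, 50, 51, 52,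
  52, 53, 54, 55, 55, 56, 57, 58, 59, 59, 60, 62, 63, 63, 64, 64, 65, 68, 69, 69,
  70, 71, 72, 72, 74, 79, 80, 81, 82, 83, 86, 87, 91, 93, 95, 100, 102, 104, 112, 114]

end CfsgLib.Char.Zassenhaus
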