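/-
Facts about `SL(2,5)` read off from the tables of its elements.
-/
import Cfsg.Agent.Lib.Char.Zassenhaus.Data
import Mathlib.LinearAlgebra.Matrix.SpecialLinearGroup
import Mathlib.GroupTheory.OrderOfElement

set_option autoImplicit false

namespace CfsgLib.Char.Zassenhaus

/-- `SL(2,5)`. -/
abbrev SL25 := Matrix.SpecialLinearGroup (Fin 2) (ZMod 5)

/-- Multiplication of coordinates. -/
def mulQ (x y : Mat5) : Mat5 :=
  (x.1 * y.1 + x.2.1 * y.2.2.1, x.1 * y.2.1 + x.2.1 * y.2.2.2,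
    x.2.2.1 * y.1 + x.2.2.2 * y.2.2.1, x.2.2.1 * y.2.1 + x.2.2.2 * y.2.2.2)

/-- The coordinates of an element. -/
def toQ (g : SL25) : Mat5 := (g.1 0 0, g.1 0 1, g.1 1 0, g.1 1 1)

theorem toQ_injective : Function.Injective toQ := by
  intro g h e
  simp only [toQ, Prod.mk.injEq] at e
  apply Subtype.ext
  ext i j
  fin_cases i <;> fin_cases j <;> simp_all

theorem toQ_mul (g h : SL25) : toQ (g * h) = mulQ (toQ g) (toQ h) := by
  simp [toQ, mulQ, Matrix.mul_apply, Fin.sum_univ_two]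

theorem toQ_one : toQ 1 = (1, 0, 0, 1) := by
  simp [toQ]

/-- The elements by index. -/
def elQ (k : Fin 120) : Mat5 := elTable.getD k.val (0, 0, 0, 0)

/-- The lifts by index. -/
def ordOf (k : Fin 120) : Ord := ordTable.getD k.val ((0, 0), (0, 0), (0, 0), (0, 0))

/-- Right multiplication by the first generator. -/
def ra (k : Fin 120) : Fin 120 := Fin.ofNat 120 (raTable.getD k.val 0)

/-- Right multiplication by the second generator. -/
def rb (k : Fin 120) : Fin 120 := Fin.ofNat 120 (rbTable.getD k.val 0)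

/-- The predecessor. -/
def par (k : Fin 120) : Fin 120 := Fin.ofNat 120 (parTable.getD k.val 0)

/-- The index of coordinates. -/
def idxQ (q : Mat5) : Fin 120 := Fin.ofNat 120 (elTable.findIdx (· == q))

theorem elQ_det : ∀ k, (elQ k).1 * (elQ k).2.2.2 - (elQ k).2.1 * (elQ k).2.2.1 = 1 := by
  decide +kernel

/-- The element with an index. -/
def el (k : Fin 120) : SL25 :=
  ⟨!![(elQ k).1, (elQ k).2.1; (elQ k).2.2.1, (elQ k).2.2.2], by rw [Matrix.det_fin_two_of]; exact elQ_det k⟩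

theorem toQ_el (k : Fin 120) : toQ (el k) = elQ k := by
  simp [toQ, el]

/-- The first generator. -/
def A5 : SL25 := el (ra 0)

/-- The second generator. -/
def B5 : SL25 := el (rb 0)

theorem toQ_A5 : toQ A5 = genA := by rw [A5, toQ_el]; decide +kernel

theorem toQ_B5 : toQ B5 = genB := by rw [B5, toQ_el]; decide +kernel

theorem elQ_zero : elQ 0 = (1, 0, 0, 1) := by decide +kernel

theorem el_zero : el 0 = 1 := toQ_injective (by rw [toQ_el, toQ_one, elQ_zero])

theorem idxQ_elQ : ∀ k, idxQ (elQ k) = k := by decide +kernel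

theorem elQ_idxQ : ∀ a b c d : ZMod 5, a * d - b * c = 1 → elQ (idxQ (a, b, c, d)) = (a, b, c, d) := by
  decide +kernel

/-- The index of an element. -/
def idx (g : SL25) : Fin 120 := idxQ (toQ g)

theorem idx_el (k : Fin 120) : idx (el k) = k := by rw [idx, toQ_el, idxQ_elQ]

theorem el_idx (g : SL25) : el (idx g) = g := by
  refine toQ_injective ?_
  rw [toQ_el, idx]
  exact elQ_idxQ _ _ _ _ (by rw [← Matrix.det_fin_two]; exact g.2)

theorem elQ_ra : ∀ k, elQ (ra k) = mulQ (elQ k) genA := by decide +kernel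

theorem elQ_rb : ∀ k, elQ (rb k) = mulQ (elQ k) genB := by decide +kernel

theorem el_ra (k : Fin 120) : el (ra k) = el k * A5 :=
  toQ_injective (by rw [toQ_el, toQ_mul, toQ_el, toQ_A5, elQ_ra])

theorem el_rb (k : Fin 120) : el (rb k) = el k * B5 :=
  toQ_injective (by rw [toQ_el, toQ_mul, toQ_el, toQ_B5, elQ_rb])

theorem par_spec : ∀ k : Fin 120, k ≠ 0 → par k < k ∧ (k = ra (par k) ∨ k = rb (par k)) := by
  decide +kernel

/-- Induction over the elements by right multiplication with the generators. -/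
theorem sl25_induction {p : SL25 → Prop} (h1 : p 1) (hA : ∀ g, p g → p (g * A5)) (hB : ∀ g, p g → p (g * B5))
    (g : SL25) : p g := by
  rw [← el_idx g]
  induction idx g using WellFoundedLT.induction with
  | ind k ih =>
    rcases eq_or_ne k 0 with rfl | hk
    · rwa [el_zero]
    · obtain ⟨h, e | e⟩ := par_spec k hk
      · rw [e, el_ra]; exact hA _ (ih _ h)
      · rw [e, el_rb]; exact hB _ (ih _ h)

/-- The central involution. -/
def Z5 : SL25 := el 118

theorem toQ_Z5 : toQ Z5 = (4, 0, 0, 4) := by rw [Z5, toQ_el]; decide +kernel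

/-- The cube of coordinates. -/
def cubeQ (x : Mat5) : Mat5 := mulQ (mulQ x x) x

theorem toQ_cube (g : SL25) : toQ (g ^ 3) = cubeQ (toQ g) := by
  rw [pow_succ, sq, toQ_mul, toQ_mul]; rfl

/-- The inverse of coordinates. -/
def invQ (x : Mat5) : Mat5 := (x.2.2.2, -x.2.1, -x.2.2.1, x.1)

theorem toQ_inv (g : SL25) : toQ g⁻¹ = invQ (toQ g) := by
  simp [toQ, invQ, Matrix.SpecialLinearGroup.coe_inv, Matrix.adjugate_fin_two]

theorem kernel_check : ∀ k : Fin 120, elQ k = (1, 0, 0, 1) ∨ elQ k = (4, 0, 0, 4) ∨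
    ∃ j : Fin 120, cubeQ (mulQ (elQ k) (mulQ (mulQ (elQ j) (invQ (elQ k))) (invQ (elQ j)))) = (4, 0, 0, 4) := by
  decide +kernel

/-- A normal subgroup without the central involution is trivial. -/
theorem eq_bot_of_Z5_notMem (N : Subgroup SL25) [hN : N.Normal] (h : Z5 ∉ N) : N = ⊥ := by
  refine (Subgroup.eq_bot_iff_forall N).2 fun g hg => ?_
  rcases kernel_check (idx g) with e | e | ⟨j, e⟩
  · exact toQ_injective (by rw [toQ_one, ← e, ← toQ_el, el_idx])
  · exact absurd hg (by rwa [show g = Z5 from toQ_injective (by rw [toQ_Z5, ← e, ← toQ_el, el_idx])])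
  · refine absurd ?_ h
    rw [show Z5 = (g * (el j * g⁻¹ * (el j)⁻¹)) ^ 3 from toQ_injective (by
      rw [toQ_Z5, ← e, toQ_cube, ← toQ_el, el_idx]
      simp only [toQ_mul, toQ_inv, toQ_el])]
    exact pow_mem (mul_mem hg (hN.conj_mem _ (inv_mem hg) (el j))) 3

theorem A5_cube : A5 ^ 3 = 1 := toQ_injective (by rw [toQ_cube, toQ_A5, toQ_one]; decide +kernel)

theorem B5_cube : B5 ^ 3 = 1 := toQ_injective (by rw [toQ_cube, toQ_B5, toQ_one]; decide +kernel)

theorem A5_ne_one : A5 ≠ 1 := fun e => by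
  have := congrArg toQ e; rw [toQ_A5, toQ_one] at this; revert this; decide

theorem B5_ne_one : B5 ≠ 1 := fun e => by
  have := congrArg toQ e; rw [toQ_B5, toQ_one] at this; revert this; decide

theorem conj_check : ∀ k : Fin 120, cubeQ (elQ k) = (1, 0, 0, 1) → elQ k = (1, 0, 0, 1) ∨
    ∃ j : Fin 120, mulQ (elQ j) genA = mulQ (elQ k) (elQ j) := by decide +kernel

/-- The elements of order three are conjugate. -/
theorem exists_conj_eq {g : SL25} (h3 : g ^ 3 = 1) (h1 : g ≠ 1) : ∃ h, h * A5 * h⁻¹ = g := by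
  rcases conj_check (idx g) (by rw [← toQ_el, el_idx, ← toQ_cube, h3, toQ_one]) with e | ⟨j, e⟩
  · exact absurd (toQ_injective (by rw [toQ_one, ← e, ← toQ_el, el_idx])) h1
  · refine ⟨el j, ?_⟩
    rw [mul_inv_eq_iff_eq_mul]
    exact toQ_injective (by rw [toQ_mul, toQ_mul, toQ_el, toQ_A5, e, ← toQ_el, el_idx])

/-- An element of order four inverting the first generator, and an element of order three adapted to it. -/
theorem exists_t_c : ∃ t c : SL25, t ^ 4 = 1 ∧ t ^ 2 ≠ 1 ∧ t * A5 * t⁻¹ = A5⁻¹ ∧ c ^ 3 = 1 ∧ c ≠ 1 ∧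
    orderOf (A5 * c) = 6 ∧ orderOf (t * c) = 3 := by
  refine ⟨el (idxQ (2, 3, 0, 3)), el (idxQ (2, 1, 3, 2)), ?_⟩
  have p4 : ∀ g : SL25, toQ (g ^ 4) = mulQ (cubeQ (toQ g)) (toQ g) := fun g => by
    rw [pow_succ, toQ_mul, toQ_cube]
  refine ⟨toQ_injective ?_, fun e => ?_, toQ_injective ?_, toQ_injective ?_, fun e => ?_, ?_, ?_⟩
  · rw [p4, toQ_one, toQ_el]; decide +kernel
  · have := congrArg toQ e; rw [sq, toQ_mul, toQ_one, toQ_el] at this; revert this; decide +kernel
  · simp only [toQ_mul, toQ_inv, toQ_el, toQ_A5]; decide +kernel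
  · rw [toQ_cube, toQ_one, toQ_el]; decide +kernel
  · have := congrArg toQ e; rw [toQ_one, toQ_el] at this; revert this; decide +kernel
  · rw [orderOf_eq_iff (by norm_num)]
    refine ⟨toQ_injective ?_, fun m hm hm0 e => ?_⟩
    · simp only [pow_succ, pow_zero, one_mul, toQ_mul, toQ_el, toQ_A5, toQ_one]; decide +kernel
    · have := congrArg toQ e
      interval_cases m <;> simp only [pow_succ, pow_zero, one_mul, toQ_mul, toQ_el, toQ_A5, toQ_one] at this <;>
        revert this <;> decide +kernel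
  · rw [orderOf_eq_iff (by norm_num)]
    refine ⟨toQ_injective ?_, fun m hm hm0 e => ?_⟩
    · simp only [pow_succ, pow_zero, one_mul, toQ_mul, toQ_el, toQ_one]; decide +kernel
    · have := congrArg toQ e
      interval_cases m <;> simp only [pow_succ, pow_zero, one_mul, toQ_mul, toQ_el, toQ_one] at this <;>
        revert this <;> decide +kernel

/-- Two elements of order three which have products of order six with the first generator, and generate with it
the second generator. -/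
theorem exists_u_v : ∃ u v : SL25, u ^ 3 = 1 ∧ u ≠ 1 ∧ v ^ 3 = 1 ∧ v ≠ 1 ∧ orderOf (A5 * u) = 6 ∧
    orderOf (A5 * v) = 6 ∧ B5 = A5 * v * A5 * A5 * u * A5 := by
  refine ⟨el (idxQ (1, 1, 2, 3)), el (idxQ (1, 3, 4, 3)), ?_⟩
  refine ⟨toQ_injective ?_, fun e => ?_, toQ_injective ?_, fun e => ?_, ?_, ?_, toQ_injective ?_⟩
  · rw [toQ_cube, toQ_one, toQ_el]; decide +kernel
  · have := congrArg toQ e; rw [toQ_one, toQ_el] at this; revert this; decide +kernel
  · rw [toQ_cube, toQ_one, toQ_el]; decide +kernel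
  · have := congrArg toQ e; rw [toQ_one, toQ_el] at this; revert this; decide +kernel
  iterate 2
    rw [orderOf_eq_iff (by norm_num)]
    refine ⟨toQ_injective ?_, fun m hm hm0 e => ?_⟩
    · simp only [pow_succ, pow_zero, one_mul, toQ_mul, toQ_el, toQ_A5, toQ_one]; decide +kernel
    · have := congrArg toQ e
      interval_cases m <;> simp only [pow_succ, pow_zero, one_mul, toQ_mul, toQ_el, toQ_A5, toQ_one] at this <;>
        revert this <;> decide +kernel
  · simp only [toQ_mul, toQ_el, toQ_A5, toQ_B5]; decide +kernel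

/-- The fifth power of coordinates. -/
def fifthQ (x : Mat5) : Mat5 := mulQ (mulQ (cubeQ x) x) x

theorem toQ_fifth (g : SL25) : toQ (g ^ 5) = fifthQ (toQ g) := by
  rw [pow_succ, pow_succ, toQ_mul, toQ_mul, toQ_cube]; rfl

theorem pair_check : ∀ k : Fin 120, cubeQ (elQ k) = (1, 0, 0, 1) → fifthQ (mulQ genA (elQ k)) = (4, 0, 0, 4) →
    ∃ j : Fin 120, mulQ (elQ j) genA = mulQ genA (elQ j) ∧
      (mulQ (elQ j) genB = mulQ (elQ k) (elQ j) ∨ mulQ (elQ j) (1, 2, 1, 3) = mulQ (elQ k) (elQ j)) := by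
  decide +kernel

/-- The second type of second generator. -/
def B5' : SL25 := el (idxQ (1, 2, 1, 3))

theorem toQ_B5' : toQ B5' = (1, 2, 1, 3) := by rw [B5', toQ_el]; decide +kernel

theorem fifth_check : ∀ k : Fin 120, fifthQ (elQ k) ≠ (1, 0, 0, 1) →
    mulQ (fifthQ (elQ k)) (fifthQ (elQ k)) = (1, 0, 0, 1) → fifthQ (elQ k) = (4, 0, 0, 4) := by
  decide +kernel

/-- Up to the centralizer of the first generator there are two second generators. -/
theorem exists_centralizer_conj {g : SL25} (h3 : g ^ 3 = 1) (h10 : orderOf (A5 * g) = 10) :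
    ∃ h, h * A5 * h⁻¹ = A5 ∧ (h * B5 * h⁻¹ = g ∨ h * B5' * h⁻¹ = g) := by
  have hpow : (A5 * g) ^ 5 = Z5 := by
    refine toQ_injective ?_
    rw [toQ_Z5, toQ_fifth, ← el_idx (A5 * g), toQ_el]
    refine fifth_check _ (fun e => ?_) ?_
    · rw [← toQ_el, el_idx, ← toQ_fifth, ← toQ_one] at e
      have := orderOf_le_of_pow_eq_one (by norm_num) (toQ_injective e)
      omega
    · rw [← toQ_el, el_idx, ← toQ_fifth, ← toQ_mul, ← pow_add, ← toQ_one]
      rw [show 5 + 5 = orderOf (A5 * g) by rw [h10], pow_orderOf_eq_one]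
  obtain ⟨j, e1, e2⟩ := pair_check (idx g) (by rw [← toQ_el, el_idx, ← toQ_cube, h3, toQ_one])
    (by rw [← toQ_el, el_idx, ← toQ_A5, ← toQ_mul, ← toQ_fifth, hpow, toQ_Z5])
  refine ⟨el j, mul_inv_eq_iff_eq_mul.2 (toQ_injective ?_), e2.imp (fun e => ?_) fun e => ?_⟩
  · rw [toQ_mul, toQ_mul, toQ_el, toQ_A5, e1]
  · exact mul_inv_eq_iff_eq_mul.2 (toQ_injective (by rw [toQ_mul, toQ_mul, toQ_el, toQ_B5, e, ← toQ_el, el_idx]))
  · exact mul_inv_eq_iff_eq_mul.2 (toQ_injective (by rw [toQ_mul, toQ_mul, toQ_el, toQ_B5', e, ← toQ_el, el_idx]))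

end CfsgLib.Char.Zassenhaus
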