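/-
Two elements of order three with product of order ten in a fixed-point-free unitary group generate a copy
of `SL(2,5)`.
-/
import Cfsg.Agent.Lib.Char.Zassenhaus.Pair
import Cfsg.Agent.Lib.Char.Zassenhaus.Table

set_option autoImplicit false

namespace CfsgLib.Char.Zassenhaus

open Matrix

/-- Addition in the order. -/
def addP (p q : ℤ × ℤ) : ℤ × ℤ := (p.1 + q.1, p.2 + q.2)

/-- Multiplication by the root. -/
def timesW (p : ℤ × ℤ) : ℤ × ℤ := (p.2, p.1 + p.2)

/-- Negation of a coefficient. -/
def negP (p : ℤ × ℤ) : ℤ × ℤ := (-p.1, -p.2)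

/-- Right multiplication by `a` in the order. -/
def mulA : Ord → Ord
  | (x, y, z, w) =>
    (addP (addP (negP y) (addP (timesW z) (negP z))) w, addP (addP (addP x (negP y)) (negP z)) (timesW w),
      addP w (negP z), negP z)

/-- Right multiplication by `b` in the order. -/
def mulB : Ord → Ord
  | (x, y, z, w) => (negP z, negP w, addP x (negP z), addP y (negP w))

theorem ordOf_ra : ∀ k, ordOf (ra k) = mulA (ordOf k) := by decide +kernel

theorem ordOf_rb : ∀ k, ordOf (rb k) = mulB (ordOf k) := by decide +kernel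

theorem ordOf_zero : ordOf 0 = ((1, 0), (0, 0), (0, 0), (0, 0)) := by decide +kernel

theorem ordOf_118 : ordOf 118 = ((-1, 0), (0, 0), (0, 0), (0, 0)) := by decide +kernel

section Eval

variable {R : Type*} [Ring R] (a b W : R)

/-- The value of a coefficient. -/
def evalP (p : ℤ × ℤ) : R := p.1 • (1 : R) + p.2 • W

/-- The value of an element of the order. -/
def evalO : Ord → R
  | (x, y, z, w) => evalP W x + evalP W y * a + evalP W z * b + evalP W w * (a * b)

variable {a b W}

theorem evalP_addP (p q : ℤ × ℤ) : evalP W (addP p q) = evalP W p + evalP W q := by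
  simp only [evalP, addP]; module

theorem evalP_negP (p : ℤ × ℤ) : evalP W (negP p) = -evalP W p := by
  simp only [evalP, negP]; module

theorem evalP_timesW (hW : W * W = W + 1) (p : ℤ × ℤ) : evalP W (timesW p) = evalP W p * W := by
  simp only [evalP, timesW, add_mul, smul_mul_assoc, one_mul, hW]; module

theorem evalO_mulA (hW : W * W = W + 1) (haW : a * W = W * a) (haa : a * a = -1 - a)
    (hba : b * a = W - 1 - a - b - a * b) (haba : a * b * a = 1 + W * a + b) (x : Ord) :
    evalO a b W (mulA x) = evalO a b W x * a := by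
  obtain ⟨x, y, z, w⟩ := x
  simp only [evalO, mulA, evalP_addP, evalP_negP, evalP_timesW hW, add_mul, mul_assoc (evalP W _)]
  rw [haa, hba, haba]
  simp only [mul_add, mul_sub, add_mul, mul_one, neg_mul, mul_neg, mul_assoc]
  abel

theorem evalO_mulB (hbb : b * b = -1 - b) (x : Ord) :
    evalO a b W (mulB x) = evalO a b W x * b := by
  obtain ⟨x, y, z, w⟩ := x
  simp only [evalO, mulB, evalP_addP, evalP_negP, add_mul, mul_assoc (evalP W _)]
  rw [mul_assoc a b b, hbb]
  simp only [mul_add, mul_sub, add_mul, mul_one, neg_mul, mul_neg, mul_assoc]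
  abel

theorem evalO_one : evalO a b W ((1, 0), (0, 0), (0, 0), (0, 0)) = 1 := by simp [evalO, evalP]

theorem evalO_neg_one : evalO a b W ((-1, 0), (0, 0), (0, 0), (0, 0)) = -1 := by simp [evalO, evalP]

end Eval

variable {G : Type*} [Group G] [Finite G] (ψ : ZRep G)

local notation "ρ" => ψ.rho

include ψ in
/-- The copy of `SL(2,5)`. -/
theorem exists_sl25_hom {a b : G} (ha : a ^ 3 = 1) (hb : b ^ 3 = 1) (h10 : orderOf (a * b) = 10) :
    ∃ f : SL25 →* G, Function.Injective f ∧ f A5 = a ∧ f B5 = b := by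
  have ha1 : a ≠ 1 := fun e => by
    rw [e, one_mul] at h10
    have := orderOf_le_of_pow_eq_one (by norm_num) hb
    omega
  have hb1 : b ≠ 1 := fun e => by
    rw [e, mul_one] at h10
    have := orderOf_le_of_pow_eq_one (by norm_num) ha
    omega
  have h20 : anti ψ a b * anti ψ a b = 20 := by
    rcases anti_cases ψ ha ha1 hb hb1 with ⟨h, -⟩ | ⟨h, -⟩ | ⟨h, -⟩ | ⟨h, -⟩ | ⟨-, h⟩
    iterate 4 omega
    exact h.1
  obtain ⟨qa, sa⟩ := rho_of_three ψ ha ha1
  obtain ⟨qb, sb⟩ := rho_of_three ψ hb hb1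
  rw [ψ.star_rho] at sa sb
  set W : ZMat ψ := ρ (a * b) + ρ (a * b)⁻¹ with hWdef
  have hW' : W = ρ a * ρ b + ρ b * ρ a + ρ a + ρ b + 1 := by
    rw [hWdef, _root_.mul_inv_rev, map_mul, map_mul, sa, sb]
    noncomm_ring
  have hW : W * W = W + 1 := by
    have e := anti_eq_trace ψ ha ha1 hb hb1
    rw [← hWdef] at e
    rw [e] at h20
    have e16 : (16 : ℂ) • (W * W - (W + 1)) = 0 := by
      rw [show (16 : ℂ) • (W * W - (W + 1)) = (4 * W - 2) * (4 * W - 2) - 20 by
        rw [show (4 : ZMat ψ) = (4 : ℂ) • 1 by rw [← Algebra.algebraMap_eq_smul_one, map_ofNat],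
          show (2 : ZMat ψ) = (2 : ℂ) • 1 by rw [← Algebra.algebraMap_eq_smul_one, map_ofNat],
          show (20 : ZMat ψ) = (20 : ℂ) • 1 by rw [← Algebra.algebraMap_eq_smul_one, map_ofNat]]
        simp only [mul_sub, sub_mul, smul_mul_assoc, mul_smul_comm, one_mul, mul_one]
        module, h20, sub_self]
    exact sub_eq_zero.1 ((smul_eq_zero.1 e16).resolve_left (by norm_num))
  have hba : ρ b * ρ a = W - 1 - ρ a - ρ b - ρ a * ρ b := by rw [hW']; abel
  have haba : ρ a * ρ b * ρ a = 1 + W * ρ a + ρ b := by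
    rw [mul_assoc, hba, hW']
    simp only [mul_sub, mul_add, add_mul, mul_one, one_mul, mul_assoc, ← mul_assoc (ρ a) (ρ a), qa]
    simp only [neg_mul, sub_mul, one_mul, mul_assoc, qa]
    noncomm_ring
  have haW : ρ a * W = W * ρ a := by
    rw [hW']
    simp only [mul_add, add_mul, mul_one, one_mul, mul_assoc, qa]
    simp only [← mul_assoc (ρ a) (ρ a), qa, mul_sub, mul_neg, sub_mul, neg_mul, mul_one, one_mul]
    abel
  let val : Fin 120 → ZMat ψ := fun k => evalO (ρ a) (ρ b) W (ordOf k)
  have hA : ∀ k, val (ra k) = val k * ρ a := fun k => by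
    simp only [val, ordOf_ra, evalO_mulA hW haW qa hba haba]
  have hB : ∀ k, val (rb k) = val k * ρ b := fun k => by
    simp only [val, ordOf_rb, evalO_mulB qb]
  have hex : ∀ k, ∃ g : G, ρ g = val k := by
    intro k
    induction k using WellFoundedLT.induction with
    | ind k ih =>
      rcases eq_or_ne k 0 with rfl | hk
      · exact ⟨1, by rw [map_one]; simp only [val, ordOf_zero, evalO_one]⟩
      · obtain ⟨hlt, e | e⟩ := par_spec k hk
        · obtain ⟨g, hg⟩ := ih _ hlt
          exact ⟨g * a, by rw [map_mul, hg, ← hA, ← e]⟩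
        · obtain ⟨g, hg⟩ := ih _ hlt
          exact ⟨g * b, by rw [map_mul, hg, ← hB, ← e]⟩
  choose F hF using hex
  have hFA : ∀ g, F (idx (g * A5)) = F (idx g) * a := fun g => by
    refine rho_injective ψ ?_
    rw [map_mul, hF, hF, ← hA]
    congr 1
    rw [← idx_el (ra (idx g)), el_ra, el_idx]
  have hFB : ∀ g, F (idx (g * B5)) = F (idx g) * b := fun g => by
    refine rho_injective ψ ?_
    rw [map_mul, hF, hF, ← hB]
    congr 1
    rw [← idx_el (rb (idx g)), el_rb, el_idx]
  have hF1 : F (idx 1) = 1 := rho_injective ψ (by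
    rw [hF, map_one, ← el_zero, idx_el]; simp only [val, ordOf_zero, evalO_one])
  let f : SL25 →* G :=
    { toFun := fun g => F (idx g)
      map_one' := hF1
      map_mul' := fun g h => by
        refine sl25_induction (p := fun h => F (idx (g * h)) = F (idx g) * F (idx h)) ?_ ?_ ?_ h
        · simp [hF1]
        · intro h ih; rw [← mul_assoc, hFA, hFA, ih, mul_assoc]
        · intro h ih; rw [← mul_assoc, hFB, hFB, ih, mul_assoc] }
  refine ⟨f, ?_, ?_, ?_⟩
  · rw [← MonoidHom.ker_eq_bot_iff]
    refine eq_bot_of_Z5_notMem _ fun hz => ?_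
    have e : ρ (f Z5) = 1 := by rw [(MonoidHom.mem_ker).1 hz, map_one]
    have e' : ρ (f Z5) = -1 := by
      show ρ (F (idx Z5)) = -1
      rw [hF, Z5, idx_el]
      simp only [val, ordOf_118, evalO_neg_one]
    haveI : Nonempty (Fin ψ.n) := ⟨⟨0, n_pos ψ⟩⟩
    have h2 := congrFun (congrFun (e.symm.trans e') ⟨0, n_pos ψ⟩) ⟨0, n_pos ψ⟩
    simp at h2
    norm_num at h2
  · show F (idx A5) = a
    simpa [hF1] using hFA 1
  · show F (idx B5) = b
    simpa [hF1] using hFB 1

end CfsgLib.Char.Zassenhaus
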