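/-
Sylow subgroups of a fixed-point-free group, and two criteria for solvability.
-/
import Cfsg.Agent.Lib.Char.Zassenhaus.Pair
import Cfsg.Agent.Lib.Coprime.UniqueOrderP
import Cfsg.Agent.Lib.PGroup.CyclicIndexTwoComplement
import Mathlib.GroupTheory.SpecificGroups.ZGroup
import Mathlib.Analysis.Complex.Polynomial.Basic
import Mathlib.NumberTheory.Basic

set_option autoImplicit false

namespace CfsgLib.Char.Zassenhaus

open Matrix

variable {G : Type*} [Group G] [Finite G] (ψ : ZRep G)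

local notation "ρ" => ψ.rho

include ψ in
/-- An element of prime order commuting with another lies in the subgroup generated by it. -/
theorem mem_zpowers_of_commute {p : ℕ} (hp : p.Prime) {z w : G} (hz : orderOf z = p) (hw : w ^ p = 1)
    (hc : Commute z w) : w ∈ Subgroup.zpowers z := by
  have hζ := Complex.isPrimitiveRoot_exp p hp.ne_zero
  set ζ := Complex.exp (2 * Real.pi * Complex.I / p)
  obtain ⟨v, hv, hzv⟩ := ψ.spectral z ζ (hz ▸ hζ)
  let E : Submodule ℂ (Fin ψ.n → ℂ) := LinearMap.ker ((ρ z).mulVecLin - ζ • LinearMap.id)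
  have hE : ∀ u, u ∈ E ↔ ρ z *ᵥ u = ζ • u := fun u => by simp [E, sub_eq_zero]
  haveI : Nontrivial E := ⟨⟨⟨v, (hE v).2 hzv⟩, 0, fun e => hv (congrArg Subtype.val e)⟩⟩
  have hinv : ∀ u ∈ E, ρ w *ᵥ u ∈ E := fun u hu => by
    rw [hE, mulVec_mulVec, ← map_mul, hc.eq, map_mul, ← mulVec_mulVec, (hE u).1 hu, mulVec_smul]
  obtain ⟨μ, hμ⟩ := Module.End.exists_eigenvalue (((ρ w).mulVecLin).restrict hinv : Module.End ℂ E)
  obtain ⟨⟨u, huE⟩, hu⟩ := hμ.exists_hasEigenvector
  have huw : ρ w *ᵥ u = μ • u := congrArg Subtype.val hu.apply_eq_smul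
  have hu0 : u ≠ 0 := fun e => hu.2 (Subtype.ext e)
  have hpow : ∀ (g : G) (c : ℂ) (_ : ρ g *ᵥ u = c • u) (j : ℕ), ρ (g ^ j) *ᵥ u = c ^ j • u := by
    intro g c h j
    induction j with
    | zero => simp
    | succ j ih => rw [pow_succ, map_mul, ← mulVec_mulVec, h, mulVec_smul, ih, smul_smul, pow_succ, mul_comm]
  have hμp : μ ^ p = 1 := by
    have h := hpow w μ huw p
    rw [hw, map_one, one_mulVec] at h
    refine sub_eq_zero.1 ((smul_eq_zero.1 (?_ : (μ ^ p - 1) • u = 0)).resolve_right hu0)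
    rw [sub_smul, one_smul, ← h, sub_self]
  haveI : NeZero p := ⟨hp.ne_zero⟩
  obtain ⟨j, -, hj⟩ := hζ.eq_pow_of_pow_eq_one hμp
  have hfix : ρ (w⁻¹ * z ^ j) *ᵥ u = u := by
    rw [map_mul, ← mulVec_mulVec, hpow z ζ ((hE u).1 huE) j, hj, ← huw, mulVec_mulVec, ← map_mul,
      inv_mul_cancel, map_one, one_mulVec]
  have h1 : w⁻¹ * z ^ j = 1 := by
    by_contra h
    exact hu0 (ψ.fpf _ h u hfix)
  rw [inv_mul_eq_one] at h1
  rw [h1]
  exact Subgroup.pow_mem _ (Subgroup.mem_zpowers z) j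

include ψ in
theorem unique_involution {s t : G} (hs : s ^ 2 = 1) (hs1 : s ≠ 1) (ht : t ^ 2 = 1) (ht1 : t ≠ 1) : s = t :=
  rho_injective ψ (by rw [rho_eq_neg_one ψ hs hs1, rho_eq_neg_one ψ ht ht1])

include ψ in
/-- The Sylow subgroups have unique subgroups of prime order. -/
theorem uniqueOrderP_sylow {p : ℕ} [Fact p.Prime] (P : Subgroup G) (hP : IsPGroup p P) :
    Coprime.UniqueOrderP p P := by
  intro x y hx hy hx1
  haveI : Nontrivial P := ⟨⟨x, 1, hx1⟩⟩
  haveI := hP.center_nontrivial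
  obtain ⟨k, hk⟩ := IsPGroup.iff_card.1 (hP.to_subgroup (Subgroup.center P))
  have hk0 : k ≠ 0 := fun e => absurd (Finite.one_lt_card (α := Subgroup.center P))
    (by rw [hk, e, pow_zero]; exact lt_irrefl 1)
  obtain ⟨⟨z, hzc⟩, hz⟩ := exists_prime_orderOf_dvd_card' (G := Subgroup.center P) p (hk ▸ dvd_pow_self p hk0)
  have hzo : orderOf z = p := (Subgroup.orderOf_coe (⟨z, hzc⟩ : Subgroup.center P)).trans hz
  have key : ∀ w : P, w ^ p = 1 → w ∈ Subgroup.zpowers z := by
    intro w hw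
    obtain ⟨i, hi⟩ := mem_zpowers_of_commute ψ (Fact.out : p.Prime) (z := (z : G)) (w := (w : G))
      (by rw [Subgroup.orderOf_coe, hzo]) (by rw [← Subgroup.coe_pow, hw, Subgroup.coe_one])
      (congrArg Subtype.val ((Subgroup.mem_center_iff.1 hzc w).symm))
    exact ⟨i, Subtype.ext (by simpa using hi)⟩
  have hxz := key x hx
  have hzx : Subgroup.zpowers x = Subgroup.zpowers z := by
    refine Subgroup.eq_of_le_of_card_ge (Subgroup.zpowers_le.2 hxz) ?_
    rw [Nat.card_zpowers, Nat.card_zpowers, hzo, orderOf_eq_prime hx hx1]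
  exact hzx ▸ key y hy

include ψ in
theorem sylow_cyclic {p : ℕ} [Fact p.Prime] (hp : p ≠ 2) (P : Subgroup G) (hP : IsPGroup p P) : IsCyclic P :=
  Coprime.isCyclic_of_unique_odd hp hP (uniqueOrderP_sylow ψ P hP)

include ψ in
theorem isSolvable_of_odd (H : Subgroup G) (hH : Odd (Nat.card H)) : Group.IsSolvable H := by
  haveI : IsZGroup H := by
    refine ⟨fun p hp P => ?_⟩
    haveI := Fact.mk hp
    rcases eq_or_ne p 2 with rfl | h2
    · haveI : Subsingleton P := by
        refine (Nat.card_eq_one_iff_unique.1 ?_).1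
        rw [P.card_eq_multiplicity, Nat.factorization_eq_zero_of_not_dvd, pow_zero]
        exact fun h => (Nat.not_even_iff_odd.2 hH) (even_iff_two_dvd.2 h)
      exact isCyclic_of_subsingleton
    · exact sylow_cyclic (ψ.comap H.subtype H.subtype_injective) h2 P P.2
  infer_instance

include ψ in
/-- Without elements of order three the group is solvable. -/
theorem isSolvable_of_not_three (h3 : ¬ 3 ∣ Nat.card G) : Group.IsSolvable G := by
  haveI : Fact (Nat.Prime 2) := ⟨Nat.prime_two⟩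
  obtain ⟨P⟩ : Nonempty (Sylow 2 G) := inferInstance
  have hN : Cfsg.HasNormalPComplement 2 G := by
    rcases Coprime.cyclic_or_quaternion_of_unique P.2 (uniqueOrderP_sylow ψ P.1 P.2) with hc | ⟨-, m, ⟨e⟩⟩
    · exact PGroup.hasNormalPComplement_of_cyclic_index_two P (C := (P : Subgroup G))
        (fun x hx y hy hxC _ => absurd hx hxC) h3
    · let C : Subgroup G := ((Subgroup.zpowers (QuaternionGroup.a 1)).map e.symm.toMonoidHom).map
        (P : Subgroup G).subtype
      haveI : IsCyclic C := by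
        obtain ⟨g, hg⟩ : ∃ g : G, C = Subgroup.zpowers g :=
          ⟨_, by simp only [C, MonoidHom.map_zpowers]; rfl⟩
        rw [hg]; infer_instance
      refine PGroup.hasNormalPComplement_of_cyclic_index_two P (C := C) ?_ h3
      intro x hx y hy hxC hyC
      have key : ∀ (z : G) (hz : z ∈ (P : Subgroup G)), z ∈ C ↔ ∃ i, e ⟨z, hz⟩ = QuaternionGroup.a i := by
        intro z hz
        constructor
        · rintro ⟨w, ⟨u, ⟨k, rfl⟩, rfl⟩, hw⟩
          obtain ⟨j, hj⟩ := mem_powers_iff_mem_zpowers.2 (⟨k, rfl⟩ :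
            QuaternionGroup.a (1 : ZMod (2 * 2 ^ m)) ^ k ∈ Subgroup.zpowers (QuaternionGroup.a 1))
          refine ⟨(j : ZMod (2 * 2 ^ m)), ?_⟩
          have : (⟨z, hz⟩ : P) = e.symm (QuaternionGroup.a 1 ^ k) := Subtype.ext hw.symm
          rw [this, e.apply_symm_apply, ← hj]
          exact QuaternionGroup.a_one_pow j
        · rintro ⟨i, hi⟩
          refine ⟨⟨z, hz⟩, ⟨QuaternionGroup.a i, ⟨(i.val : ℤ), ?_⟩, ?_⟩, rfl⟩
          · show QuaternionGroup.a 1 ^ (i.val : ℤ) = _
            rw [zpow_natCast, QuaternionGroup.a_one_pow, ZMod.natCast_zmod_val]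
          · rw [← hi]; exact e.symm_apply_apply _
      rw [key x hx] at hxC
      rw [key y hy] at hyC
      rw [key _ (mul_mem (inv_mem hx) hy)]
      have hm : ∀ q : QuaternionGroup (2 ^ m), (∀ i, q ≠ QuaternionGroup.a i) → ∃ i, q = QuaternionGroup.xa i := by
        intro q hq
        cases q with
        | a i => exact absurd rfl (hq i)
        | xa i => exact ⟨i, rfl⟩
      push Not at hxC hyC
      obtain ⟨i, hi⟩ := hm _ hxC
      obtain ⟨j, hj⟩ := hm _ hyC
      have he : e (⟨x, hx⟩⁻¹ * ⟨y, hy⟩) = (QuaternionGroup.xa i)⁻¹ * QuaternionGroup.xa j := by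
        rw [map_mul, map_inv, hi, hj]
      have hinv : (QuaternionGroup.xa i)⁻¹ = QuaternionGroup.xa ((2 ^ m : ℕ) + i : ZMod (2 * 2 ^ m)) := rfl
      rw [hinv, QuaternionGroup.xa_mul_xa] at he
      exact ⟨_, he⟩
  obtain ⟨P, N, hN, hc⟩ := hN
  haveI : Group.IsSolvable N := by
    refine isSolvable_of_odd ψ N ?_
    rw [← Nat.not_even_iff_odd, even_iff_two_dvd, ← Subgroup.IsComplement'.index_eq_card hc]
    exact P.not_dvd_index
  haveI : Group.IsSolvable (G ⧸ N) := by
    haveI : Group.IsNilpotent (G ⧸ N) := IsPGroup.isNilpotent (p := 2) (IsPGroup.of_card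
      (n := (Nat.card G).factorization 2) (by
        rw [← Subgroup.index_eq_card, Subgroup.IsComplement'.index_eq_card hc.symm, P.card_eq_multiplicity]))
    infer_instance
  exact Group.isSolvable_of_ker_le_range N.subtype (QuotientGroup.mk' N)
    (by rw [QuotientGroup.ker_mk', Subgroup.range_subtype])

/-- An automorphism of order prime to `3` of a cyclic `3`-group fixing an element of order three is trivial. -/
theorem aut_eq_one_of_fix_three {T : Type*} [Group T] [Finite T] [IsCyclic T] (hT : IsPGroup 3 T) (σ : MulAut T)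
    {m : ℕ} (hm : Nat.Coprime m 3) (hσ : σ ^ m = 1) {a : T} (ha : orderOf a = 3) (hfix : σ a = a) : σ = 1 := by
  obtain ⟨x, hx⟩ := IsCyclic.exists_generator (α := T)
  obtain ⟨k, hk⟩ := hx (σ x)
  obtain ⟨i, hi⟩ := hx a
  simp only at hk hi
  obtain ⟨e, he⟩ := hT x
  have hpow : ∀ j : ℕ, (σ ^ j) x = x ^ (k ^ j) := by
    intro j
    induction j with
    | zero => simp
    | succ j ih => rw [pow_succ', MulAut.mul_apply, ih, map_zpow, ← hk, ← _root_.zpow_mul, pow_succ']
  have h3 : (3 : ℤ) ∣ k - 1 := by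
    have h1 : x ^ (i * (k - 1)) = 1 := by
      rw [mul_sub, mul_one, _root_.zpow_sub, mul_comm i k, _root_.zpow_mul, hk, ← map_zpow, hi, hfix, mul_inv_cancel]
    have h1' : (orderOf x : ℤ) ∣ i * (k - 1) := orderOf_dvd_iff_zpow_eq_one.2 h1
    by_contra hc
    obtain ⟨f, hf⟩ : ∃ f, orderOf x = 3 ^ f := by
      obtain ⟨f, -, hf⟩ := (Nat.dvd_prime_pow Nat.prime_three).1 (orderOf_dvd_of_pow_eq_one he)
      exact ⟨f, hf⟩
    rw [hf] at h1'
    push_cast at h1'
    have h2 : (3 : ℤ) ^ f ∣ i := ((Int.prime_three.coprime_iff_not_dvd.2 hc).pow_left).dvd_of_dvd_mul_right h1'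
    have h5 : a = 1 := by
      rw [← hi]
      exact orderOf_dvd_iff_zpow_eq_one.1 (by rw [hf]; exact_mod_cast h2)
    rw [h5, orderOf_one] at ha
    omega
  have h4 : (σ ^ (3 ^ e)) x = x := by
    rw [hpow]
    have : ((3 : ℤ) ^ (e + 1)) ∣ k ^ (3 ^ e) - 1 := by
      have := dvd_sub_pow_of_dvd_sub (p := 3) (a := k) (b := 1) h3 e
      simpa using this
    conv_rhs => rw [← zpow_one x]
    rw [← mul_inv_eq_one, ← _root_.zpow_sub]
    refine orderOf_dvd_iff_zpow_eq_one.1 (dvd_trans ?_ this)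
    have h6 := orderOf_dvd_of_pow_eq_one he
    exact (Int.natCast_dvd_natCast.2 h6).trans (by push_cast; exact pow_dvd_pow _ (Nat.le_succ e))
  have h7 : σ ^ (3 ^ e) = 1 := by
    refine MulEquiv.ext fun y => ?_
    obtain ⟨j, rfl⟩ := hx y
    simp only [map_zpow, h4, MulAut.one_apply]
  rw [← orderOf_eq_one_iff]
  exact Nat.eq_one_of_dvd_coprimes (hm.pow_right e) (orderOf_dvd_of_pow_eq_one hσ) (orderOf_dvd_of_pow_eq_one h7)

include ψ in
/-- With a central element of order three the group is solvable. -/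
theorem isSolvable_of_central_three {a : G} (ha : orderOf a = 3) (hc : a ∈ Subgroup.center G) :
    Group.IsSolvable G := by
  haveI : Fact (Nat.Prime 3) := ⟨Nat.prime_three⟩
  obtain ⟨P⟩ : Nonempty (Sylow 3 G) := inferInstance
  have hN : Cfsg.HasNormalPComplement 3 G := by
    refine Fusion.hasNormalPComplement_of_locallyPNilpotentAction P fun T hT g hg hcop => ?_
    have hT3 : IsPGroup 3 T := P.2.to_le hT
    haveI : IsCyclic T := sylow_cyclic ψ (by norm_num) T hT3
    refine Fusion.mem_centralizer_iff'.2 fun x hx => ?_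
    rcases eq_or_ne T ⊥ with rfl | hT0
    · rw [Subgroup.mem_bot.1 hx]; simp
    haveI := (Subgroup.nontrivial_iff_ne_bot T).2 hT0
    obtain ⟨k, hk⟩ := IsPGroup.iff_card.1 hT3
    have hk0 : k ≠ 0 := fun e => absurd (Finite.one_lt_card (α := T))
      (by rw [hk, e, pow_zero]; exact lt_irrefl 1)
    obtain ⟨z, hz⟩ := exists_prime_orderOf_dvd_card' (G := T) 3 (hk ▸ dvd_pow_self 3 hk0)
    have hz' : orderOf (z : G) = 3 := by rw [Subgroup.orderOf_coe, hz]
    have hzc : (z : G) ∈ Subgroup.center G := by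
      obtain ⟨i, hi⟩ := mem_zpowers_of_commute ψ Nat.prime_three ha (w := (z : G))
        (by rw [← hz', pow_orderOf_eq_one]) ((Subgroup.mem_center_iff.1 hc _).symm)
      rw [← hi]; exact zpow_mem hc i
    have hs := aut_eq_one_of_fix_three hT3 (T.normalizerMonoidHom ⟨g, hg⟩) (m := orderOf g) hcop
      (by rw [← map_pow, show (⟨g, hg⟩ : Subgroup.normalizer (T : Set G)) ^ orderOf g = 1 from
        Subtype.ext (pow_orderOf_eq_one g), map_one]) hz
      (Subtype.ext (by
        show g * (z : G) * g⁻¹ = z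
        rw [Subgroup.mem_center_iff.1 hzc g, mul_inv_cancel_right]))
    exact congrArg Subtype.val (DFunLike.congr_fun hs ⟨x, hx⟩)
  obtain ⟨P, N, hN, hcN⟩ := hN
  haveI : Group.IsSolvable N := by
    refine isSolvable_of_not_three (ψ.comap N.subtype N.subtype_injective) fun h => ?_
    rw [← Subgroup.IsComplement'.index_eq_card hcN] at h
    exact P.not_dvd_index h
  haveI : Group.IsSolvable (G ⧸ N) := by
    haveI : Group.IsNilpotent (G ⧸ N) := IsPGroup.isNilpotent (p := 3) (IsPGroup.of_card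
      (n := (Nat.card G).factorization 3) (by
        rw [← Subgroup.index_eq_card, Subgroup.IsComplement'.index_eq_card hcN.symm, P.card_eq_multiplicity]))
    infer_instance
  exact Group.isSolvable_of_ker_le_range N.subtype (QuotientGroup.mk' N)
    (by rw [QuotientGroup.ker_mk', Subgroup.range_subtype])

end CfsgLib.Char.Zassenhaus
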