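/-
Without a pair of elements of order three with product of order ten there are at most four subgroups of
order three, and the group is solvable.
-/
import Cfsg.Agent.Lib.Char.Zassenhaus.Sylow
import Cfsg.Agent.Lib.Char.Zassenhaus.TraceValue
import Cfsg.Agent.Lib.Char.Burnside
import Mathlib.GroupTheory.Perm.ViaEmbedding

set_option autoImplicit false

namespace CfsgLib.Char.Zassenhaus

open Matrix

theorem three_part_a {R : Type*} [Ring R] [Algebra ℚ R] {a b : R} (haa : a * a = (-3 : ℚ) • (1 : R))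
    (hbb : b * b = (-3 : ℚ) • (1 : R)) (hab : a * b + b * a = (2 : ℚ) • (1 : R)) :
    a * b * a = (2 : ℚ) • a + (3 : ℚ) • b ∧ b * a * b = (2 : ℚ) • b + (3 : ℚ) • a := by
  have e : b * a = (2 : ℚ) • (1 : R) - a * b := eq_sub_of_add_eq' hab
  constructor
  · rw [mul_assoc, e, mul_sub, ← mul_assoc, haa, mul_smul_comm, mul_one, smul_mul_assoc, one_mul]
    module
  · rw [mul_assoc, eq_sub_of_add_eq hab, mul_sub, ← mul_assoc, hbb, mul_smul_comm, mul_one, smul_mul_assoc,
      one_mul]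
    module

/-- A skew element with scalar anticommutators lies in the span. -/
theorem span_of_scalar {R : Type*} [Ring R] [Algebra ℚ R] {a b c : R} (haa : a * a = (-3 : ℚ) • (1 : R))
    (hbb : b * b = (-3 : ℚ) • (1 : R)) (hab : a * b + b * a = (2 : ℚ) • (1 : R)) {p q s : ℚ}
    (hp : a * c + c * a = p • (1 : R)) (hq : b * c + c * b = q • (1 : R))
    (hs : (a * b - b * a) * c + c * (a * b - b * a) = s • (1 : R)) :
    c = (-(3 * p + q) / 16 : ℚ) • a + (-(p + 3 * q) / 16 : ℚ) • b + (-s / 64 : ℚ) • (a * b - b * a) ∧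
      (a * b - b * a) * (a * b - b * a) = (-32 : ℚ) • (1 : R) := by
  obtain ⟨haba, hbab⟩ := three_part_a haa hbb hab
  set w := a * b - b * a with hw
  have hw' : w = (2 : ℚ) • (a * b) - (2 : ℚ) • (1 : R) := by
    rw [hw, eq_sub_of_add_eq' hab]; module
  have haw : a * w + w * a = 0 := by
    simp only [hw, mul_sub, sub_mul, ← mul_assoc, haa, haba, smul_mul_assoc, one_mul]
    rw [mul_assoc b a a, haa, mul_smul_comm, mul_one]
    module
  have hbw : b * w + w * b = 0 := by
    simp only [hw, mul_sub, sub_mul, ← mul_assoc, hbb, hbab, smul_mul_assoc, one_mul]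
    rw [mul_assoc a b b, hbb, mul_smul_comm, mul_one]
    module
  have hww : w * w = (-32 : ℚ) • (1 : R) := by
    have h : a * b * (a * b) = (2 : ℚ) • (a * b) + (-9 : ℚ) • (1 : R) := by
      rw [← mul_assoc, haba, add_mul, smul_mul_assoc, smul_mul_assoc, hbb]
      module
    rw [hw']
    simp only [mul_sub, sub_mul, smul_mul_assoc, mul_smul_comm, mul_one, one_mul, h]
    module
  set r := c - ((-(3 * p + q) / 16 : ℚ) • a + (-(p + 3 * q) / 16 : ℚ) • b + (-s / 64 : ℚ) • w) with hr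
  have hba' : b * a = (2 : ℚ) • (1 : R) - a * b := eq_sub_of_add_eq' hab
  have ra : a * r + r * a = 0 := by
    rw [show a * r + r * a = (a * c + c * a) - ((-(3 * p + q) / 16 : ℚ) • (a * a + a * a) +
        (-(p + 3 * q) / 16 : ℚ) • (a * b + b * a) + (-s / 64 : ℚ) • (a * w + w * a)) by
      simp only [hr, mul_sub, sub_mul, mul_add, add_mul, mul_smul_comm, smul_mul_assoc]; module, hp, haa, hab, haw]
    module
  have rb : b * r + r * b = 0 := by
    rw [show b * r + r * b = (b * c + c * b) - ((-(3 * p + q) / 16 : ℚ) • (a * b + b * a) +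
        (-(p + 3 * q) / 16 : ℚ) • (b * b + b * b) + (-s / 64 : ℚ) • (b * w + w * b)) by
      simp only [hr, mul_sub, sub_mul, mul_add, add_mul, mul_smul_comm, smul_mul_assoc]; module, hq, hbb, hab, hbw]
    module
  have rw' : w * r + r * w = 0 := by
    rw [show w * r + r * w = (w * c + c * w) - ((-(3 * p + q) / 16 : ℚ) • (a * w + w * a) +
        (-(p + 3 * q) / 16 : ℚ) • (b * w + w * b) + (-s / 64 : ℚ) • (w * w + w * w)) by
      simp only [hr, mul_sub, sub_mul, mul_add, add_mul, mul_smul_comm, smul_mul_assoc]; module, hs, haw, hbw, hww]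
    module
  have hcom : a * b * r = r * (a * b) := by
    rw [mul_assoc, eq_neg_of_add_eq_zero_left rb, mul_neg, ← mul_assoc, eq_neg_of_add_eq_zero_left ra, neg_mul,
      neg_neg, mul_assoc]
  have hcomw : w * r = r * w := by
    clear_value r
    simp only [hw', sub_mul, mul_sub, smul_mul_assoc, mul_smul_comm, hcom, one_mul, mul_one]
  have h2 : (2 : ℚ) • (w * r) = 0 := by
    rw [two_smul]; nth_rewrite 2 [hcomw]; exact rw'
  have h3 : w * r = 0 := (smul_eq_zero.1 h2).resolve_left (by norm_num)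
  have h4 : (-32 : ℚ) • r = 0 := by
    rw [show (-32 : ℚ) • r = w * w * r by rw [hww, smul_mul_assoc, one_mul], mul_assoc, h3, mul_zero]
  exact ⟨sub_eq_zero.1 ((smul_eq_zero.1 h4).resolve_left (by norm_num)), hww⟩

variable {G : Type*} [Group G] [Finite G] (ψ : ZRep G)

local notation "ρ" => ψ.rho

theorem anti_scalar (hno : ∀ a b : G, a ^ 3 = 1 → a ≠ 1 → b ^ 3 = 1 → b ≠ 1 → orderOf (a * b) ≠ 10)
    {a b : G} (ha : a ^ 3 = 1) (ha1 : a ≠ 1) (hb : b ^ 3 = 1) (hb1 : b ≠ 1) (hne : b ≠ a) (hne' : b ≠ a⁻¹) :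
    anti ψ a b = (2 : ℚ) • (1 : ZMat ψ) ∨ anti ψ a b = (-2 : ℚ) • (1 : ZMat ψ) := by
  have e2 : (2 : ZMat ψ) = (2 : ℚ) • (1 : ZMat ψ) := by simpa using natCast_eq_smul ψ 2
  rcases anti_cases ψ ha ha1 hb hb1 with ⟨-, h, -⟩ | ⟨-, h, -⟩ | ⟨-, h⟩ | ⟨-, h⟩ | ⟨h, -⟩
  · exact absurd h hne'
  · exact absurd h.symm hne
  · exact Or.inr (by rw [h, e2, neg_smul])
  · exact Or.inl (by rw [h, e2])
  · exact absurd h (hno a b ha ha1 hb hb1)

include ψ in
/-- The elements of order three are at most eight. -/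
theorem mem_four (hno : ∀ a b : G, a ^ 3 = 1 → a ≠ 1 → b ^ 3 = 1 → b ≠ 1 → orderOf (a * b) ≠ 10)
    {a b c : G} (ha : a ^ 3 = 1) (ha1 : a ≠ 1) (hb : b ^ 3 = 1) (hb1 : b ≠ 1)
    (hab : anti ψ a b = (2 : ℚ) • (1 : ZMat ψ)) (hc : c ^ 3 = 1) (hc1 : c ≠ 1) :
    c = a ∨ c = a⁻¹ ∨ c = b ∨ c = b⁻¹ ∨ c = a * b * a⁻¹ ∨ c = (a * b * a⁻¹)⁻¹ ∨ c = a⁻¹ * b * a ∨
      c = (a⁻¹ * b * a)⁻¹ := by
  by_contra hcon
  push Not at hcon
  obtain ⟨n1, n2, n3, n4, n5, n6, n7, n8⟩ := hcon
  wlog hpos : anti ψ a c = (2 : ℚ) • (1 : ZMat ψ) generalizing c with H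
  · rcases anti_scalar ψ hno ha ha1 hc hc1 n1 n2 with h | h
    · exact hpos h
    · refine H (c := c⁻¹) (by rw [inv_pow, hc, inv_one]) (inv_ne_one.2 hc1) ?_ ?_ ?_ ?_ ?_ ?_ ?_ ?_ ?_
      · simpa [inv_eq_iff_eq_inv] using n2
      · simpa using n1
      · simpa [inv_eq_iff_eq_inv] using n4
      · simpa using n3
      · exact fun e => n6 (by rw [← e, inv_inv])
      · exact fun e => n5 (inv_injective e)
      · exact fun e => n8 (by rw [← e, inv_inv])
      · exact fun e => n7 (inv_injective e)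
      · rw [anti_inv_right ψ hc hc1, h, ← neg_smul, neg_neg]
  have qa : skewPart ψ a * skewPart ψ a = (-3 : ℚ) • (1 : ZMat ψ) := by
    rw [(skewPart_sq ψ ha ha1).1, neg_smul]; simpa using natCast_eq_smul ψ 3
  have qb : skewPart ψ b * skewPart ψ b = (-3 : ℚ) • (1 : ZMat ψ) := by
    rw [(skewPart_sq ψ hb hb1).1, neg_smul]; simpa using natCast_eq_smul ψ 3
  have qc : skewPart ψ c * skewPart ψ c = (-3 : ℚ) • (1 : ZMat ψ) := by
    rw [(skewPart_sq ψ hc hc1).1, neg_smul]; simpa using natCast_eq_smul ψ 3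
  set w := skewPart ψ a * skewPart ψ b - skewPart ψ b * skewPart ψ a with hw
  obtain ⟨haba, -⟩ := three_part_a qa qb (show skewPart ψ a * skewPart ψ b + skewPart ψ b * skewPart ψ a = _ from hab)
  obtain ⟨sa1, sa⟩ := rho_of_three ψ ha ha1
  rw [ψ.star_rho] at sa
  have hA : ρ a = (1 / 2 : ℚ) • skewPart ψ a + (-1 / 2 : ℚ) • (1 : ZMat ψ) := by
    simp only [skewPart]; module
  have hA' : ρ a⁻¹ = (-1 / 2 : ℚ) • skewPart ψ a + (-1 / 2 : ℚ) • (1 : ZMat ψ) := by
    rw [sa]; simp only [skewPart]; module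
  have conjB : skewPart ψ (a * b * a⁻¹) = (-1 / 2 : ℚ) • skewPart ψ a + (-1 / 2 : ℚ) • skewPart ψ b +
      (-1 / 4 : ℚ) • w := by
    have : skewPart ψ (a * b * a⁻¹) = ρ a * skewPart ψ b * ρ a⁻¹ := by
      simp only [skewPart, map_mul, mul_add, add_mul, mul_one, rho_mul_inv]
    rw [this, hA, hA']
    simp only [hw, mul_add, add_mul, smul_mul_assoc, mul_smul_comm, one_mul, mul_one, haba]
    module
  have conjB' : skewPart ψ (a⁻¹ * b * a) = (-1 / 2 : ℚ) • skewPart ψ a + (-1 / 2 : ℚ) • skewPart ψ b +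
      (1 / 4 : ℚ) • w := by
    have : skewPart ψ (a⁻¹ * b * a) = ρ a⁻¹ * skewPart ψ b * ρ a := by
      simp only [skewPart, map_mul, mul_add, add_mul, mul_one, rho_inv_mul]
    rw [this, hA, hA']
    simp only [hw, mul_add, add_mul, smul_mul_assoc, mul_smul_comm, one_mul, mul_one, haba]
    module
  have hb' : (a * b * a⁻¹) ^ 3 = 1 := by rw [conj_pow, hb]; simp
  have hb'1 : a * b * a⁻¹ ≠ 1 := fun e => hb1 (by simpa [mul_inv_eq_one] using e)
  have key : ∀ q r : ℚ, anti ψ b c = q • (1 : ZMat ψ) → anti ψ (a * b * a⁻¹) c = r • (1 : ZMat ψ) →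
      skewPart ψ c = (-(3 * 2 + q) / 16 : ℚ) • skewPart ψ a + (-(2 + 3 * q) / 16 : ℚ) • skewPart ψ b +
        ((4 * r + 2 * 2 + 2 * q) / 64 : ℚ) • w ∧ w * w = (-32 : ℚ) • (1 : ZMat ψ) := by
    intro q r hq hr
    have hs : w * skewPart ψ c + skewPart ψ c * w = (-(4 * r + 2 * 2 + 2 * q) : ℚ) • (1 : ZMat ψ) := by
      have h := hr
      simp only [anti, conjB, mul_add, add_mul, smul_mul_assoc, mul_smul_comm] at h
      simp only [anti] at hpos hq
      linear_combination (norm := module) (-4 : ℚ) • h + (-2 : ℚ) • hpos + (-2 : ℚ) • hq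
    obtain ⟨e, e'⟩ := span_of_scalar qa qb hab (p := 2) (q := q) (by exact hpos) (by exact hq) hs
    exact ⟨by rw [e]; module, e'⟩
  haveI : Nontrivial (ZMat ψ) := nontrivial_zmat ψ
  have hnum : ∀ k : ℚ, k ≠ 0 → k • (1 : ZMat ψ) ≠ 0 := fun k hk e =>
    hk ((smul_eq_zero.1 e).resolve_right one_ne_zero)
  rcases anti_scalar ψ hno hb hb1 hc hc1 n3 n4 with hq | hq <;>
    rcases anti_scalar ψ hno hb' hb'1 hc hc1 n5 n6 with hr | hr <;> obtain ⟨e, e'⟩ := key _ _ hq hr
  · refine n7 (skewPart_injective ψ ?_)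
    rw [e, conjB']; module
  all_goals
    have h := qc
    rw [e] at h
    simp only [mul_add, add_mul, smul_mul_assoc, mul_smul_comm, qa, qb, e',
      show skewPart ψ b * skewPart ψ a = (2 : ℚ) • (1 : ZMat ψ) - skewPart ψ a * skewPart ψ b from
        eq_sub_of_add_eq' hab] at h
    simp only [hw, mul_sub, sub_mul, mul_add, add_mul, ← mul_assoc, smul_mul_assoc, mul_smul_comm, qa, qb, haba,
      one_mul, mul_one, show skewPart ψ b * skewPart ψ a = (2 : ℚ) • (1 : ZMat ψ) - skewPart ψ a * skewPart ψ b from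
        eq_sub_of_add_eq' hab] at h
    simp only [mul_assoc (skewPart ψ a) (skewPart ψ a), mul_assoc (skewPart ψ a) (skewPart ψ b) (skewPart ψ b),
      qa, qb, mul_smul_comm, mul_one] at h
  · exact hnum 2 (by norm_num) (by linear_combination (norm := module) h)
  · exact hnum 2 (by norm_num) (by linear_combination (norm := module) h)
  · exact hnum 2 (by norm_num) (by linear_combination (norm := module) h)

include ψ in
/-- Without such a pair the group is solvable. -/
theorem isSolvable_of_no_ten (hno : ∀ a b : G, a ^ 3 = 1 → a ≠ 1 → b ^ 3 = 1 → b ≠ 1 → orderOf (a * b) ≠ 10) :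
    Group.IsSolvable G := by
  classical
  by_cases h3 : ¬ 3 ∣ Nat.card G
  · exact isSolvable_of_not_three ψ h3
  push Not at h3
  haveI : Fact (Nat.Prime 3) := ⟨Nat.prime_three⟩
  obtain ⟨a, hao⟩ := exists_prime_orderOf_dvd_card' 3 h3
  have ha : a ^ 3 = 1 := hao ▸ pow_orderOf_eq_one a
  have ha1 : a ≠ 1 := fun e => by rw [e, orderOf_one] at hao; omega
  let Ω := {H : Subgroup G // ∃ g : G, g ^ 3 = 1 ∧ g ≠ 1 ∧ H = Subgroup.zpowers g}
  have hcard : Nat.card Ω ≤ 4 := by
    by_cases hb : ∃ b : G, b ^ 3 = 1 ∧ b ≠ 1 ∧ b ≠ a ∧ b ≠ a⁻¹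
    · obtain ⟨b, hb, hb1, hne, hne'⟩ := hb
      obtain ⟨b, hb, hb1, hab⟩ : ∃ b : G, b ^ 3 = 1 ∧ b ≠ 1 ∧ anti ψ a b = (2 : ℚ) • (1 : ZMat ψ) := by
        rcases anti_scalar ψ hno ha ha1 hb hb1 hne hne' with h | h
        · exact ⟨b, hb, hb1, h⟩
        · exact ⟨b⁻¹, by rw [inv_pow, hb, inv_one], inv_ne_one.2 hb1,
            by rw [anti_inv_right ψ hb hb1, h, ← neg_smul, neg_neg]⟩
      let L : List (Subgroup G) := [Subgroup.zpowers a, Subgroup.zpowers b, Subgroup.zpowers (a * b * a⁻¹),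
        Subgroup.zpowers (a⁻¹ * b * a)]
      have hmem : ∀ H : Ω, H.1 ∈ L := by
        rintro ⟨H, g, hg, hg1, rfl⟩
        rcases mem_four ψ hno ha ha1 hb hb1 hab hg hg1 with e | e | e | e | e | e | e | e <;>
          simp only [L, e, Subgroup.zpowers_inv, List.mem_cons, true_or, or_true]
      calc Nat.card Ω ≤ Nat.card {H // H ∈ L.toFinset} :=
            Nat.card_le_card_of_injective (fun H => ⟨H.1, List.mem_toFinset.2 (hmem H)⟩)
              fun x y e => Subtype.ext (congrArg (fun z : {H // H ∈ L.toFinset} => z.1) e)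
        _ ≤ 4 := by rw [Nat.card_eq_fintype_card, Fintype.card_coe]; exact L.toFinset_card_le
    · push Not at hb
      haveI : Subsingleton Ω := ⟨fun x y => by
        obtain ⟨H, g, hg, hg1, rfl⟩ := x
        obtain ⟨H', g', hg', hg'1, rfl⟩ := y
        refine Subtype.ext ?_
        have h : ∀ g : G, g ^ 3 = 1 → g ≠ 1 → Subgroup.zpowers g = Subgroup.zpowers a := fun g hg hg1 => by
          rcases eq_or_ne g a with rfl | h
          · rfl
          · rw [hb g hg hg1 h, Subgroup.zpowers_inv]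
        exact (h g hg hg1).trans (h g' hg' hg'1).symm⟩
      exact (Finite.card_le_one_iff_subsingleton.2 inferInstance).trans (by norm_num)
  have hconj : ∀ (g : G) (H : Ω), ∃ k : G, k ^ 3 = 1 ∧ k ≠ 1 ∧
      H.1.map (MulAut.conj g).toMonoidHom = Subgroup.zpowers k := by
    rintro g ⟨H, k, hk, hk1, rfl⟩
    exact ⟨MulAut.conj g k, by rw [← map_pow, hk, map_one],
      fun e => hk1 ((MulAut.conj g).injective (by rw [e, map_one])), by
        rw [MonoidHom.map_zpowers]; rfl⟩
  letI : MulAction G Ω :=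
    { smul := fun g H => ⟨H.1.map (MulAut.conj g).toMonoidHom, hconj g H⟩
      one_smul := fun H => Subtype.ext (by
        show H.1.map (MulAut.conj (1 : G)).toMonoidHom = H.1
        ext x; simp)
      mul_smul := fun g g' H => Subtype.ext (by
        show H.1.map (MulAut.conj (g * g')).toMonoidHom =
          (H.1.map (MulAut.conj g').toMonoidHom).map (MulAut.conj g).toMonoidHom
        rw [Subgroup.map_map, map_mul]; rfl) }
  let φ := MulAction.toPermHom G Ω
  haveI : Group.IsSolvable φ.range := by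
    haveI : Group.IsSolvable (Equiv.Perm Ω) := by
      obtain ⟨k, ⟨e⟩⟩ := Finite.exists_equiv_fin Ω
      have hk : k ≤ 4 := by rw [Nat.card_congr e, Nat.card_fin] at hcard; exact hcard
      haveI : Group.IsSolvable (Equiv.Perm (Fin 4)) :=
        Char.isSolvable_of_card_two_primes Nat.prime_two Nat.prime_three _ 3 1 (by
          rw [Nat.card_perm, Nat.card_fin]; rfl)
      exact Group.isSolvable_of_isSolvable_injective
        (f := Equiv.Perm.viaEmbeddingHom (e.toEmbedding.trans (Fin.castLEEmb hk)))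
        (Equiv.Perm.viaEmbeddingHom_injective _)
    infer_instance
  have hK : ∀ g ∈ φ.ker, ∀ k : G, k ^ 3 = 1 → k ≠ 1 → g * k * g⁻¹ = k ∨ g * k * g⁻¹ = k⁻¹ := by
    intro g hg k hk hk1
    have h := congrArg Subtype.val (Equiv.ext_iff.1 ((MonoidHom.mem_ker).1 hg)
      (⟨Subgroup.zpowers k, k, hk, hk1, rfl⟩ : Ω))
    change (Subgroup.zpowers k).map (MulAut.conj g).toMonoidHom = Subgroup.zpowers k at h
    have hmem : g * k * g⁻¹ ∈ Subgroup.zpowers k := h ▸ ⟨k, Subgroup.mem_zpowers k, rfl⟩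
    obtain ⟨j, hj⟩ := mem_powers_iff_mem_zpowers.2 hmem
    simp only at hj
    rw [← hj]
    have ho : orderOf k = 3 := orderOf_eq_prime hk hk1
    rw [← pow_mod_orderOf, ho]
    have hj3 : j % 3 < 3 := Nat.mod_lt _ (by norm_num)
    interval_cases hv : j % 3
    · refine absurd ?_ hk1
      rw [← pow_mod_orderOf, ho, hv, pow_zero] at hj
      simpa [eq_comm, mul_inv_eq_one] using hj
    · exact Or.inl (pow_one k)
    · exact Or.inr (by rw [eq_inv_iff_mul_eq_one, ← pow_succ, hk])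
  haveI : Group.IsSolvable φ.ker := by
    let C : Subgroup φ.ker := (Subgroup.centralizer {k : G | k ^ 3 = 1}).subgroupOf φ.ker
    haveI hCn : C.Normal := ⟨fun c hc g => by
      rw [Subgroup.mem_subgroupOf, Subgroup.mem_centralizer_iff] at hc ⊢
      intro k (hk : k ^ 3 = 1)
      have h := hc ((g : G)⁻¹ * k * g) (show ((g : G)⁻¹ * k * g) ^ 3 = 1 by
        rw [show (g : G)⁻¹ * k * g = (g : G)⁻¹ * k * (g : G)⁻¹⁻¹ by rw [inv_inv], conj_pow, hk]; simp)
      push_cast
      calc k * ((g : G) * c * (g : G)⁻¹) = g * (((g : G)⁻¹ * k * g) * c) * (g : G)⁻¹ := by group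
        _ = g * (c * ((g : G)⁻¹ * k * g)) * (g : G)⁻¹ := by rw [h]
        _ = g * c * (g : G)⁻¹ * k := by group⟩
    haveI : Group.IsSolvable C := by
      let ι : C →* G := φ.ker.subtype.comp C.subtype
      have hι : Function.Injective ι := φ.ker.subtype_injective.comp C.subtype_injective
      by_cases h : 3 ∣ Nat.card C
      · obtain ⟨c, hc⟩ := exists_prime_orderOf_dvd_card' (G := C) 3 h
        refine isSolvable_of_central_three (ψ.comap ι hι) hc (Subgroup.mem_center_iff.2 fun x => hι ?_)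
        rw [map_mul, map_mul]
        exact ((Subgroup.mem_centralizer_iff.1 x.2) (ι c) (show (ι c) ^ 3 = 1 by
          rw [← map_pow, ← hc, pow_orderOf_eq_one, map_one])).symm
      · exact isSolvable_of_not_three (ψ.comap ι hι) h
    haveI : Group.IsSolvable (φ.ker ⧸ C) := by
      refine Group.isSolvable_of_comm fun x y => ?_
      obtain ⟨x, rfl⟩ := QuotientGroup.mk'_surjective C x
      obtain ⟨y, rfl⟩ := QuotientGroup.mk'_surjective C y
      rw [← map_mul, ← map_mul, QuotientGroup.mk'_eq_mk']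
      refine ⟨(x * y)⁻¹ * (y * x), ?_, by group⟩
      rw [Subgroup.mem_subgroupOf, Subgroup.mem_centralizer_iff]
      intro k (hk : k ^ 3 = 1)
      rcases eq_or_ne k 1 with rfl | hk1
      · simp
      have hi : ∀ g ∈ φ.ker, g * k⁻¹ * g⁻¹ = (g * k * g⁻¹)⁻¹ := fun g _ => by group
      have hc : ∀ g ∈ φ.ker, ∀ g' ∈ φ.ker, g * (g' * k * g'⁻¹) * g⁻¹ = g' * (g * k * g⁻¹) * g'⁻¹ := by
        intro g hg g' hg'
        rcases hK g hg k hk hk1 with e | e <;> rcases hK g' hg' k hk hk1 with e' | e' <;>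
          simp only [e, e', hi g hg, hi g' hg', inv_inv]
      have h := hc _ x.2 _ y.2
      push_cast
      calc k * (((x : G) * y)⁻¹ * (y * x)) =
            ((x : G) * y)⁻¹ * ((x : G) * (y * k * (y : G)⁻¹) * (x : G)⁻¹) * (y * x) := by group
        _ = ((x : G) * y)⁻¹ * ((y : G) * (x * k * (x : G)⁻¹) * (y : G)⁻¹) * (y * x) := by rw [h]
        _ = ((x : G) * y)⁻¹ * (y * x) * k := by group
    exact Group.isSolvable_of_ker_le_range C.subtype (QuotientGroup.mk' C)
      (by rw [QuotientGroup.ker_mk', Subgroup.range_subtype])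
  exact Group.isSolvable_of_ker_le_range φ.ker.subtype φ.rangeRestrict
    (by rw [MonoidHom.ker_rangeRestrict, Subgroup.range_subtype])

end CfsgLib.Char.Zassenhaus
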