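/-
Zassenhaus' theorem: the structure of a non-solvable fixed-point-free group.
-/
import Cfsg.Agent.Lib.Char.Zassenhaus.Embed
import Cfsg.Agent.Lib.Char.Zassenhaus.Closed
import Cfsg.Agent.Lib.Char.Zassenhaus.NoTen
import Mathlib.GroupTheory.Transfer

set_option autoImplicit false

namespace CfsgLib.Char.Zassenhaus

variable {G : Type*} [Group G] [Finite G] (ψ : ZRep G)

include ψ in
/-- An element of order three with product of order six with one of the copy lies in it. -/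
theorem mem_range_of_six (f : SL25 →* G) (hf : Function.Injective f) {a : G} (ha : a ∈ f.range) (ha3 : a ^ 3 = 1)
    (ha1 : a ≠ 1) {b : G} (hb : b ^ 3 = 1) (hb1 : b ≠ 1) (h6 : orderOf (a * b) = 6) : b ∈ f.range := by
  obtain ⟨x, rfl⟩ := ha
  obtain ⟨h, rfl⟩ := exists_conj_eq (g := x) (hf (by rw [map_pow, ha3, map_one]))
    (fun e => ha1 (by rw [e, map_one]))
  obtain ⟨t, c, h4, h2, hinv, hc, hc1, hac, htc⟩ := exists_t_c
  have hne : ∀ x : SL25, x ≠ 1 → f x ≠ 1 := fun x hx e => hx (hf (by rw [e, map_one]))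
  have F : Frame f.range (f A5) (f t) (f c) :=
    { ha := by rw [← map_pow, A5_cube, map_one]
      ha1 := hne _ A5_ne_one
      h4 := by rw [← map_pow, h4, map_one]
      h2 := by rw [← map_pow]; exact hne _ h2
      hinv := by rw [← map_inv, ← map_mul, ← map_mul, hinv, map_inv]
      hc := by rw [← map_pow, hc, map_one]
      hc1 := hne _ hc1
      hac := by rw [← map_mul, orderOf_injective f hf, hac]
      htc := by rw [← map_mul, orderOf_injective f hf, htc]
      haS := ⟨_, rfl⟩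
      htS := ⟨_, rfl⟩
      hcS := ⟨_, rfl⟩ }
  have hb' := mem_of_frame (ψ := ψ) F (b := (f h)⁻¹ * b * f h)
    (by rw [show (f h)⁻¹ * b * f h = (f h)⁻¹ * b * (f h)⁻¹⁻¹ by rw [inv_inv], conj_pow, hb]; simp)
    (fun e => hb1 (by
      rw [show b = f h * ((f h)⁻¹ * b * f h) * (f h)⁻¹ by group, e]; group))
    (by
      rw [← h6, map_mul, map_mul, map_inv,
        show f A5 * ((f h)⁻¹ * b * f h) = MulAut.conj (f h)⁻¹ (f h * f A5 * (f h)⁻¹ * b) by
          simp only [MulAut.conj_apply, inv_inv]; group, MulEquiv.orderOf_eq])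
  rw [show b = f h * ((f h)⁻¹ * b * f h) * (f h)⁻¹ by group]
  exact mul_mem (mul_mem ⟨h, rfl⟩ hb') (inv_mem ⟨h, rfl⟩)

include ψ in
/-- A copy contains every element of order three. -/
theorem mem_range_of_three (f : SL25 →* G) (hf : Function.Injective f) {c : G} (hc : c ^ 3 = 1) :
    c ∈ f.range := by
  rcases eq_or_ne c 1 with rfl | hc1
  · exact one_mem _
  have ha : (f A5) ^ 3 = 1 := by rw [← map_pow, A5_cube, map_one]
  have ha1 : f A5 ≠ 1 := fun e => A5_ne_one (hf (by rw [e, map_one]))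
  rcases anti_cases ψ ha ha1 hc hc1 with ⟨-, h, -⟩ | ⟨-, h, -⟩ | ⟨h, -⟩ | ⟨h, -⟩ | ⟨h, -⟩
  · rw [h]; exact inv_mem ⟨_, rfl⟩
  · rw [← h]; exact ⟨_, rfl⟩
  · refine (Subgroup.inv_mem_iff _).1 (mem_range_of_six ψ f hf ⟨A5, rfl⟩ ha ha1 (by rw [inv_pow, hc, inv_one])
      (inv_ne_one.2 hc1) ?_)
    rcases anti_cases ψ ha ha1 (b := c⁻¹) (by rw [inv_pow, hc, inv_one]) (inv_ne_one.2 hc1) with
      ⟨-, e, -⟩ | ⟨-, e, -⟩ | ⟨-, e⟩ | ⟨e, -⟩ | ⟨-, e⟩
    · exfalso
      rw [inv_inj] at e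
      rw [e, ← sq] at h
      have := orderOf_le_of_pow_eq_one (n := 3) (x := f A5 ^ 2) (by norm_num)
        (by rw [← pow_mul, pow_mul', ha, one_pow])
      omega
    · exfalso
      rw [e, inv_mul_cancel, orderOf_one] at h
      omega
    · exfalso
      have h' := anti_inv_right ψ (a := f A5) hc hc1
      have h4 : anti ψ (f A5) c = -2 := by
        rcases anti_cases ψ ha ha1 hc hc1 with ⟨h0, -⟩ | ⟨h0, -⟩ | ⟨-, h0⟩ | ⟨h0, -⟩ | ⟨h0, -⟩
        iterate 2 omega
        · exact h0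
        iterate 2 omega
      rw [h4, e, neg_neg] at h'
      haveI := nontrivial_zmat ψ
      rw [eq_comm, eq_neg_iff_add_eq_zero, two_eq ψ, ← add_smul] at h'
      exact absurd ((smul_eq_zero.1 h').resolve_right one_ne_zero) (by norm_num)
    · exact e
    · exfalso
      have h4 : anti ψ (f A5) c = -2 := by
        rcases anti_cases ψ ha ha1 hc hc1 with ⟨h0, -⟩ | ⟨h0, -⟩ | ⟨-, h0⟩ | ⟨h0, -⟩ | ⟨h0, -⟩
        iterate 2 omega
        · exact h0
        iterate 2 omega
      have h' := e.1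
      rw [anti_inv_right ψ hc hc1, h4, neg_neg, two_eq ψ, smul_mul_assoc, one_mul, smul_smul,
        show (20 : ZMat ψ) = (20 : ℚ) • (1 : ZMat ψ) by simpa using natCast_eq_smul ψ 20] at h'
      haveI := nontrivial_zmat ψ
      rw [← sub_eq_zero, ← sub_smul] at h'
      exact absurd ((smul_eq_zero.1 h').resolve_right one_ne_zero) (by norm_num)
  · exact mem_range_of_six ψ f hf ⟨A5, rfl⟩ ha ha1 hc hc1 h
  · obtain ⟨f', hf', eA, eB⟩ := exists_sl25_hom ψ ha hc h
    obtain ⟨u, v, hu, hu1, hv, hv1, hu6, hv6, hB⟩ := exists_u_v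
    have hw : ∀ w : SL25, w ^ 3 = 1 → w ≠ 1 → orderOf (A5 * w) = 6 → f' w ∈ f.range := fun w h3 h1 h6 =>
      mem_range_of_six ψ f hf ⟨A5, rfl⟩ ha ha1 (by rw [← map_pow, h3, map_one])
        (fun e => h1 (hf' (by rw [e, map_one]))) (by rw [← eA, ← map_mul, orderOf_injective f' hf', h6])
    rw [← eB, hB]
    simp only [map_mul, eA]
    exact mul_mem (mul_mem (mul_mem (mul_mem (mul_mem ⟨_, rfl⟩ (hw v hv hv1 hv6)) ⟨_, rfl⟩) ⟨_, rfl⟩)
      (hw u hu hu1 hu6)) ⟨_, rfl⟩

include ψ in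
theorem orderOf_B5_prod : orderOf (A5 * B5) = 10 := by
  rw [orderOf_eq_iff (by norm_num)]
  refine ⟨toQ_injective ?_, fun m hm hm0 e => ?_⟩
  · simp only [pow_succ, pow_zero, one_mul, toQ_mul, toQ_A5, toQ_B5, toQ_one]; decide +kernel
  · have := congrArg toQ e
    interval_cases m <;> simp only [pow_succ, pow_zero, one_mul, toQ_mul, toQ_A5, toQ_B5, toQ_one] at this <;>
      revert this <;> decide +kernel

include ψ in
/-- The centralizer of a copy has order prime to `15` and only the central involution of order two. -/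
theorem centralizer_props (f : SL25 →* G) (hf : Function.Injective f) {x : G}
    (hx : x ∈ Subgroup.centralizer (f.range : Set G)) :
    (x ^ 3 = 1 → x = 1) ∧ (x ^ 5 = 1 → x = 1) ∧ (x ^ 4 = 1 → x ^ 2 = 1) := by
  rw [Subgroup.mem_centralizer_iff] at hx
  have key : ∀ (p : ℕ) (y z : SL25), p.Prime → orderOf y = p → z * y ≠ y * z → x ^ p = 1 → x = 1 := by
    intro p y z hp hy hyz hxp
    have hyx : Commute (f y) x := hx (f y) ⟨y, rfl⟩
    obtain ⟨i, hi⟩ := mem_zpowers_of_commute ψ hp (z := f y) (w := x) (by rw [orderOf_injective f hf, hy]) hxp hyx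
    by_contra hx1
    have hi' : f (y ^ i) = x := by rw [map_zpow]; exact hi
    have h2 : Commute z (y ^ i) := hf (by rw [map_mul, map_mul, hi']; exact hx (f z) ⟨z, rfl⟩)
    have hy' : y ∈ Subgroup.zpowers (y ^ i) := by
      have ho : orderOf (y ^ i) = p :=
        orderOf_eq_prime (hp := ⟨hp⟩) (hf (by rw [map_pow, hi', hxp, map_one]))
          (fun e => hx1 (by rw [← hi', e, map_one]))
      rw [Subgroup.eq_of_le_of_card_ge (Subgroup.zpowers_le.2 (Subgroup.zpow_mem _ (Subgroup.mem_zpowers y) i))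
        (by rw [Nat.card_zpowers, Nat.card_zpowers, ho, hy])]
      exact Subgroup.mem_zpowers y
    obtain ⟨j, hj⟩ := hy'
    simp only at hj
    exact hyz (by rw [← hj]; exact h2.zpow_right j)
  have hAB : B5 * A5 ≠ A5 * B5 := fun e => by
    have := congrArg toQ e
    rw [toQ_mul, toQ_mul, toQ_A5, toQ_B5] at this
    revert this; decide +kernel
  refine ⟨key 3 A5 B5 Nat.prime_three (orderOf_eq_prime (hp := ⟨Nat.prime_three⟩) A5_cube A5_ne_one) hAB, ?_,
    fun h4 => ?_⟩
  · refine key 5 ((A5 * B5) ^ 2) A5 Nat.prime_five ?_ ?_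
    · rw [orderOf_pow, orderOf_B5_prod ψ]; rfl
    · intro e
      have := congrArg toQ e
      simp only [sq, toQ_mul, toQ_A5, toQ_B5] at this
      revert this; decide +kernel
  · by_contra h2
    obtain ⟨t, -, t4, t2, tinv, -, -, -, -⟩ := exists_t_c
    have hf2 : (f t) ^ 2 ≠ 1 := fun e => t2 (hf (by rw [map_pow, e, map_one]))
    have e2 : x ^ 2 = (f t) ^ 2 :=
      unique_involution ψ (by rw [← pow_mul]; exact h4) h2 (by rw [← pow_mul, ← map_pow, t4, map_one]) hf2
    have hcomm : Commute (f t) x := hx (f t) ⟨t, rfl⟩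
    have hy : (x * (f t)⁻¹) ^ 2 = 1 := by
      rw [(Commute.inv_left hcomm).symm.mul_pow, e2, inv_pow, mul_inv_cancel]
    rcases eq_one_or_t_sq (ψ := ψ) (t := f t) (by rw [← map_pow, t4, map_one]) hf2 hy with h | h
    · rw [mul_inv_eq_one] at h
      subst h
      have hAt : A5 * t = t * A5 := hf (by rw [map_mul, map_mul]; exact hx (f A5) ⟨A5, rfl⟩)
      rw [← hAt, mul_inv_cancel_right, eq_inv_iff_mul_eq_one, ← sq] at tinv
      exact A5_ne_one (by simpa [pow_succ, tinv] using A5_cube)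
    · rw [mul_inv_eq_iff_eq_mul, ← pow_succ] at h
      subst h
      have hAt : A5 * t ^ 3 = t ^ 3 * A5 := hf (by
        rw [map_mul, map_mul, map_pow]; exact hx (f A5) ⟨A5, rfl⟩)
      have ht' : t = (t ^ 3)⁻¹ := by rw [eq_inv_iff_mul_eq_one, ← pow_succ', t4]
      have hAt' : A5 * t = t * A5 := by
        rw [ht']; exact (Commute.inv_right (hAt : Commute A5 (t ^ 3))).eq
      rw [← hAt', mul_inv_cancel_right, eq_inv_iff_mul_eq_one, ← sq] at tinv
      exact A5_ne_one (by simpa [pow_succ, tinv] using A5_cube)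

include ψ in
/-- The structure of a non-solvable fixed-point-free group. -/
theorem zassenhaus (hns : ¬ Group.IsSolvable G) :
    ∃ (f : SL25 →* G) (C : Subgroup G), Function.Injective f ∧ f.range.Normal ∧
      C = Subgroup.centralizer (f.range : Set G) ∧ Group.IsSolvable C ∧
      (∀ g g' : G, g ∉ f.range ⊔ C → g' ∉ f.range ⊔ C → g⁻¹ * g' ∈ f.range ⊔ C) := by
  obtain ⟨a, b, ha, -, hb, -, h10⟩ : ∃ a b : G, a ^ 3 = 1 ∧ a ≠ 1 ∧ b ^ 3 = 1 ∧ b ≠ 1 ∧ orderOf (a * b) = 10 := by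
    by_contra hc
    push Not at hc
    exact hns (isSolvable_of_no_ten ψ hc)
  obtain ⟨f, hf, eA, eB⟩ := exists_sl25_hom ψ ha hb h10
  set C := Subgroup.centralizer (f.range : Set G) with hC
  have hthree : ∀ c : G, c ^ 3 = 1 → c ∈ f.range := fun c => mem_range_of_three ψ f hf
  have hn : f.range.Normal := ⟨fun x hx g => by
    obtain ⟨y, rfl⟩ := hx
    refine sl25_induction (p := fun y => g * f y * g⁻¹ ∈ f.range) ?_ ?_ ?_ y
    · simp
    · intro y hy
      rw [map_mul, show g * (f y * f A5) * g⁻¹ = (g * f y * g⁻¹) * (g * f A5 * g⁻¹) by group]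
      exact mul_mem hy (hthree _ (by rw [conj_pow, ← map_pow, A5_cube, map_one]; simp))
    · intro y hy
      rw [map_mul, show g * (f y * f B5) * g⁻¹ = (g * f y * g⁻¹) * (g * f B5 * g⁻¹) by group]
      exact mul_mem hy (hthree _ (by rw [conj_pow, ← map_pow, B5_cube, map_one]; simp))⟩
  have hsol : Group.IsSolvable C := by
    refine isSolvable_of_not_three (ψ.comap C.subtype C.subtype_injective) fun h => ?_
    haveI : Fact (Nat.Prime 3) := ⟨Nat.prime_three⟩
    obtain ⟨x, hx⟩ := exists_prime_orderOf_dvd_card' (G := C) 3 h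
    have := (centralizer_props ψ f hf x.2).1 (by
      rw [← Subgroup.coe_pow, ← hx, pow_orderOf_eq_one, Subgroup.coe_one])
    rw [show x = 1 from Subtype.ext this, orderOf_one] at hx
    omega
  refine ⟨f, C, hf, hn, rfl, hsol, ?_⟩
  have hgen : ∀ g : G, MulAut.conj g (f A5) = f A5 → MulAut.conj g (f B5) = f B5 → g ∈ C := by
    intro g h1 h2
    rw [hC, Subgroup.mem_centralizer_iff]
    rintro _ ⟨y, rfl⟩
    have : MulAut.conj g (f y) = f y := by
      refine sl25_induction (p := fun y => MulAut.conj g (f y) = f y) (by simp) ?_ ?_ y <;>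
        intro y hy <;> simp only [map_mul, hy, h1, h2]
    rw [MulAut.conj_apply, mul_inv_eq_iff_eq_mul] at this
    exact this.symm
  have hcls : ∀ g : G, g ∈ f.range ⊔ C ∨
      ∃ h : SL25, MulAut.conj ((f h)⁻¹ * g) (f A5) = f A5 ∧ MulAut.conj ((f h)⁻¹ * g) (f B5) = f B5' := by
    intro g
    obtain ⟨x, hx⟩ := hn.conj_mem _ (⟨A5, rfl⟩ : f A5 ∈ f.range) g
    obtain ⟨y, hy⟩ := hn.conj_mem _ (⟨B5, rfl⟩ : f B5 ∈ f.range) g
    have hx3 : x ^ 3 = 1 := hf (by rw [map_pow, hx, conj_pow, ← map_pow, A5_cube, map_one]; simp)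
    have hy3 : y ^ 3 = 1 := hf (by rw [map_pow, hy, conj_pow, ← map_pow, B5_cube, map_one]; simp)
    have hxy : orderOf (x * y) = 10 := by
      rw [← orderOf_injective f hf, map_mul, hx, hy,
        show g * f A5 * g⁻¹ * (g * f B5 * g⁻¹) = MulAut.conj g (f (A5 * B5)) by
          rw [map_mul, MulAut.conj_apply]; group, MulEquiv.orderOf_eq, orderOf_injective f hf, orderOf_B5_prod ψ]
    obtain ⟨s, rfl⟩ := exists_conj_eq hx3 (fun e => by
      rw [e, one_mul] at hxy
      have := orderOf_le_of_pow_eq_one (by norm_num) hy3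
      omega)
    have hy' : (s⁻¹ * y * s) ^ 3 = 1 := by
      rw [show s⁻¹ * y * s = s⁻¹ * y * s⁻¹⁻¹ by rw [inv_inv], conj_pow, hy3]; simp
    have h10' : orderOf (A5 * (s⁻¹ * y * s)) = 10 := by
      rw [show A5 * (s⁻¹ * y * s) = MulAut.conj s⁻¹ (s * A5 * s⁻¹ * y) by
        simp only [MulAut.conj_apply, inv_inv]; group, MulEquiv.orderOf_eq, hxy]
    obtain ⟨r, hr1, hr2⟩ := exists_centralizer_conj hy' h10'
    have e1 : MulAut.conj ((f (s * r))⁻¹ * g) (f A5) = f A5 := by
      rw [map_mul, MulAut.mul_apply, MulAut.conj_apply g, ← hx, MulAut.conj_apply, ← map_inv, ← map_inv, inv_inv,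
        ← map_mul, ← map_mul]
      refine congrArg f ?_
      conv_rhs => rw [show A5 = r⁻¹ * (r * A5 * r⁻¹) * r by group, hr1]
      group
    rcases hr2 with e | e
    · refine Or.inl ?_
      rw [show g = f (s * r) * ((f (s * r))⁻¹ * g) by group]
      refine mul_mem (Subgroup.mem_sup_left ⟨_, rfl⟩) (Subgroup.mem_sup_right (hgen _ e1 ?_))
      rw [map_mul, MulAut.mul_apply, MulAut.conj_apply g, ← hy, MulAut.conj_apply, ← map_inv, ← map_inv, inv_inv,
        ← map_mul, ← map_mul]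
      refine congrArg f ?_
      conv_rhs => rw [show B5 = r⁻¹ * (r * B5 * r⁻¹) * r by group, e]
      group
    · refine Or.inr ⟨s * r, e1, ?_⟩
      rw [map_mul, MulAut.mul_apply, MulAut.conj_apply g, ← hy, MulAut.conj_apply, ← map_inv, ← map_inv, inv_inv,
        ← map_mul, ← map_mul]
      refine congrArg f ?_
      conv_rhs => rw [show B5' = r⁻¹ * (r * B5' * r⁻¹) * r by group, e]
      group
  intro g g' hg hg'
  obtain ⟨h, h1, h2⟩ := (hcls g).resolve_left hg
  obtain ⟨h', h1', h2'⟩ := (hcls g').resolve_left hg'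
  have hm : ((f h)⁻¹ * g)⁻¹ * ((f h')⁻¹ * g') ∈ C := by
    refine hgen _ ?_ ?_
    · rw [map_mul, MulAut.mul_apply, h1', map_inv, MulAut.inv_apply, MulEquiv.symm_apply_eq, h1]
    · rw [map_mul, MulAut.mul_apply, h2', map_inv, MulAut.inv_apply, MulEquiv.symm_apply_eq, h2]
  rw [show g⁻¹ * g' = (g⁻¹ * f (h' * h⁻¹) * g) * (((f h)⁻¹ * g)⁻¹ * ((f h')⁻¹ * g')) by
    rw [map_mul, map_inv]; group]
  exact mul_mem (Subgroup.mem_sup_left (by simpa using hn.conj_mem _ ⟨h' * h⁻¹, rfl⟩ g⁻¹)) (Subgroup.mem_sup_right hm)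

end CfsgLib.Char.Zassenhaus
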