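/-
Zassenhaus' theorem on non-solvable fixed-point-free groups, in its two usual forms.
-/
import Cfsg.Agent.Lib.Char.Zassenhaus.Structure
import Cfsg.Agent.Lib.Char.Zassenhaus.OfAut

set_option autoImplicit false

namespace CfsgLib.Char.Zassenhaus

variable {G : Type*} [Group G] [Finite G] (ψ : ZRep G)

include ψ in
/-- A perfect non-trivial fixed-point-free group is `SL(2,5)`. -/
theorem perfect_equiv_sl25 [Nontrivial G] (hperf : commutator G = ⊤) : Nonempty (G ≃* SL25) := by
  have hns : ¬ Group.IsSolvable G := fun h =>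
    absurd hperf (Group.IsSolvable.commutator_lt_top_of_nontrivial G).ne
  obtain ⟨f, C, hf, hn, hC, hsol, htwo⟩ := zassenhaus ψ hns
  haveI := hn
  haveI : (f.range ⊔ C).Normal := by
    haveI : C.Normal := hC ▸ Subgroup.normal_centralizer
    infer_instance
  have hG0 : f.range ⊔ C = ⊤ := by
    rw [eq_top_iff, ← hperf, commutator_def, Subgroup.commutator_le]
    intro x _ y _
    rw [← QuotientGroup.eq_one_iff]
    have key : ∀ a b : G ⧸ (f.range ⊔ C), a ≠ 1 → b ≠ 1 → a = b := by
      intro a b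
      induction a using QuotientGroup.induction_on with
      | H a =>
        induction b using QuotientGroup.induction_on with
        | H b =>
          intro ha hb
          rw [Ne, QuotientGroup.eq_one_iff] at ha hb
          exact QuotientGroup.eq.2 (htwo a b ha hb)
    rw [← QuotientGroup.mk'_apply, map_commutatorElement, commutatorElement_eq_one_iff_mul_comm]
    generalize QuotientGroup.mk' (f.range ⊔ C) x = a
    generalize QuotientGroup.mk' (f.range ⊔ C) y = b
    rcases eq_or_ne a 1 with rfl | ha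
    · simp
    rcases eq_or_ne b 1 with rfl | hb
    · simp
    rw [key a b ha hb]
  have htop : f.range = ⊤ := by
    by_contra hne
    haveI : Nontrivial (G ⧸ f.range) := QuotientGroup.nontrivial_iff.2 hne
    haveI : Group.IsSolvable (G ⧸ f.range) := by
      haveI := hsol
      refine Group.isSolvable_of_surjective (f := (QuotientGroup.mk' f.range).comp C.subtype) fun q => ?_
      obtain ⟨g, rfl⟩ := QuotientGroup.mk'_surjective f.range q
      have hg : g ∈ ((f.range ⊔ C : Subgroup G) : Set G) := by rw [hG0]; trivial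
      rw [Subgroup.normal_mul] at hg
      obtain ⟨r, hr, c, hc, rfl⟩ := hg
      exact ⟨⟨c, hc⟩, by simp [(QuotientGroup.eq_one_iff r).2 hr]⟩
    refine absurd ?_ (Group.IsSolvable.commutator_lt_top_of_nontrivial (G ⧸ f.range)).ne
    rw [eq_top_iff]
    intro q _
    obtain ⟨g, rfl⟩ := QuotientGroup.mk'_surjective f.range q
    have : (commutator G).map (QuotientGroup.mk' f.range) ≤ commutator (G ⧸ f.range) := by
      rw [commutator_def, Subgroup.map_commutator, commutator_def]
      exact Subgroup.commutator_mono le_top le_top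
    exact this ⟨g, hperf ▸ Subgroup.mem_top g, rfl⟩
  exact ⟨(MulEquiv.ofBijective f ⟨hf, MonoidHom.range_eq_top.1 htop⟩).symm⟩

include ψ in
/-- The structure of a non-solvable fixed-point-free group. -/
theorem nonsolvable_structure (hns : ¬ Group.IsSolvable G) :
    ∃ G₀ : Subgroup G, G₀.Normal ∧ (G₀.index = 1 ∨ G₀.index = 2) ∧
      ∃ S M : Subgroup G, S ⊔ M = G₀ ∧ S ⊓ M = ⊥ ∧ (∀ s ∈ S, ∀ x ∈ M, s * x = x * s) ∧
        Nonempty (S ≃* SL25) ∧ (∀ (p : ℕ) [Fact p.Prime] (P : Sylow p M), IsCyclic P) ∧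
        (Nat.card M).Coprime 30 := by
  classical
  obtain ⟨f, C, hf, hn, hC, -, htwo⟩ := zassenhaus ψ hns
  haveI := hn
  haveI hG0 : (f.range ⊔ C).Normal := by
    haveI : C.Normal := hC ▸ Subgroup.normal_centralizer
    infer_instance
  have hcent : ∀ s ∈ f.range, ∀ x ∈ C, s * x = x * s := fun s hs x hx =>
    (Subgroup.mem_centralizer_iff.1 (hC ▸ hx)) s hs
  have hprops : ∀ x ∈ C, (x ^ 3 = 1 → x = 1) ∧ (x ^ 5 = 1 → x = 1) ∧ (x ^ 4 = 1 → x ^ 2 = 1) := fun x hx =>
    centralizer_props ψ f hf (hC ▸ hx)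
  have hidx : (f.range ⊔ C).index = 1 ∨ (f.range ⊔ C).index = 2 := by
    by_cases h : f.range ⊔ C = ⊤
    · exact Or.inl (Subgroup.index_eq_one.2 h)
    obtain ⟨a, ha⟩ : ∃ a, a ∉ f.range ⊔ C := by
      by_contra hc
      push Not at hc
      exact h (eq_top_iff.2 fun x _ => hc x)
    refine Or.inr (Subgroup.index_eq_two_iff_exists_notMem_and'.2 ⟨a, ha, fun b => ?_⟩)
    by_cases hb : b ∈ f.range ⊔ C
    · exact Or.inr hb
    · refine Or.inl ?_
      have h1 := htwo a⁻¹ b (fun h' => ha (inv_mem_iff.1 h')) hb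
      rwa [inv_inv] at h1
  have hz2 : (f Z5) ^ 2 = 1 := by
    rw [← map_pow, show Z5 ^ 2 = 1 from toQ_injective (by rw [sq, toQ_mul, toQ_Z5, toQ_one]; decide +kernel),
      map_one]
  have hz1 : f Z5 ≠ 1 := fun e => by
    have h := congrArg toQ (hf (e.trans (map_one f).symm))
    rw [toQ_Z5, toQ_one] at h
    revert h; decide +kernel
  haveI : Fact (Nat.Prime 2) := ⟨Nat.prime_two⟩
  obtain ⟨P⟩ : Nonempty (Sylow 2 C) := inferInstance
  have hsmall : ∀ (k : ℕ) (x : G), x ∈ C → x ^ 2 ^ k = 1 → x ^ 2 = 1 := by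
    intro k
    induction k with
    | zero => intro x _ h; rw [pow_zero, pow_one] at h; rw [h, one_pow]
    | succ k ih =>
      intro x hx h
      rw [pow_succ', pow_mul] at h
      have h4 : x ^ 4 = 1 := by
        rw [show (4 : ℕ) = 2 * 2 from rfl, pow_mul]
        exact ih _ (pow_mem hx 2) h
      exact (hprops x hx).2.2 h4
  have hPelt : ∀ x : C, x ∈ (P : Subgroup C) → (x : G) = 1 ∨ (x : G) = f Z5 := by
    intro x hx
    obtain ⟨k, hk⟩ := P.2 ⟨x, hx⟩
    have h : (x : G) ^ 2 = 1 := hsmall k _ x.2 (by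
      have := congrArg (fun y : P => (((y : C)) : G)) hk
      simpa using this)
    rcases eq_or_ne (x : G) 1 with e | e
    · exact Or.inl e
    · exact Or.inr (unique_involution ψ h e hz2 hz1)
  have hP : Subgroup.normalizer ((P : Subgroup C) : Set C) ≤ Subgroup.centralizer ((P : Subgroup C) : Set C) := by
    intro y _
    rw [Subgroup.mem_centralizer_iff]
    intro x hx
    refine Subtype.ext ?_
    rcases hPelt x hx with e | e
    · push_cast
      rw [e, one_mul, mul_one]
    · exact (hcent _ (e ▸ ⟨Z5, rfl⟩) _ y.2)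
  have hcompl := MonoidHom.ker_transferSylow_isComplement' P hP
  set M0 := (MonoidHom.transferSylow P hP).ker
  have hcop2 : ¬ 2 ∣ Nat.card M0 := by
    rw [← Subgroup.IsComplement'.index_eq_card hcompl.symm.symm]
    exact P.not_dvd_index
  let M : Subgroup G := M0.map C.subtype
  have hMC : M ≤ C := Subgroup.map_subtype_le _
  have hMcard : Nat.card M = Nat.card M0 :=
    (Nat.card_congr (M0.equivMapOfInjective C.subtype C.subtype_injective).toEquiv).symm
  have hM30 : (Nat.card M).Coprime 30 := by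
    refine Nat.coprime_of_dvd fun q hq hqM hq30 => ?_
    have : q = 2 ∨ q = 3 ∨ q = 5 := by
      have h235 : q ∣ 2 ∨ q ∣ 3 ∨ q ∣ 5 := by
        rcases hq.dvd_mul.1 (show q ∣ 2 * 15 from hq30) with h | h
        · exact Or.inl h
        · exact Or.inr (hq.dvd_mul.1 (show q ∣ 3 * 5 from h))
      exact h235.imp (fun h => (Nat.prime_dvd_prime_iff_eq hq Nat.prime_two).1 h)
        (Or.imp (fun h => (Nat.prime_dvd_prime_iff_eq hq Nat.prime_three).1 h)
          fun h => (Nat.prime_dvd_prime_iff_eq hq Nat.prime_five).1 h)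
    rcases this with rfl | hq'
    · exact hcop2 (hMcard ▸ hqM)
    haveI := Fact.mk hq
    obtain ⟨x, hx⟩ := exists_prime_orderOf_dvd_card' q hqM
    have hxq : (x : G) ^ q = 1 := by rw [← Subgroup.coe_pow, ← hx, pow_orderOf_eq_one, Subgroup.coe_one]
    have hx1 : (x : G) = 1 := by
      rcases hq' with rfl | rfl
      · exact (hprops x (hMC x.2)).1 hxq
      · exact (hprops x (hMC x.2)).2.1 hxq
    rw [show x = 1 from Subtype.ext hx1, orderOf_one] at hx
    exact hq.ne_one hx.symm
  refine ⟨f.range ⊔ C, hG0, hidx, f.range, M, ?_, ?_, fun s hs x hx => hcent s hs x (hMC hx),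
    ⟨(MonoidHom.ofInjective hf).symm⟩, ?_, hM30⟩
  · refine le_antisymm (sup_le_sup_left hMC _) (sup_le le_sup_left fun c hc => ?_)
    obtain ⟨⟨⟨m, hm⟩, ⟨q, hq⟩⟩, hmq, -⟩ := hcompl.existsUnique (⟨c, hc⟩ : C)
    have e : (m : G) * (q : G) = c := congrArg Subtype.val hmq
    rw [← e]
    refine mul_mem (Subgroup.mem_sup_right ⟨m, hm, rfl⟩) (Subgroup.mem_sup_left ?_)
    rcases hPelt q hq with e' | e' <;> rw [e']
    · exact one_mem _
    · exact ⟨Z5, rfl⟩
  · rw [eq_bot_iff]
    rintro x ⟨⟨y, rfl⟩, hxM⟩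
    rw [Subgroup.mem_bot]
    have h1 : orderOf (f y) ∣ Nat.card M := by
      have := orderOf_dvd_natCard (⟨f y, hxM⟩ : M)
      rwa [← Subgroup.orderOf_coe] at this
    have h2 : orderOf (f y) ∣ Nat.card SL25 := by
      rw [orderOf_injective f hf]; exact orderOf_dvd_natCard y
    have h120 : Nat.card SL25 = 120 :=
      (Nat.card_eq_of_bijective el ⟨fun i j e => by rw [← idx_el i, e, idx_el],
        fun g => ⟨idx g, el_idx g⟩⟩).symm.trans (Nat.card_fin 120)
    rw [h120] at h2
    have h3 : (orderOf (f y)).Coprime (30 ^ 3) := (hM30.coprime_dvd_left h1).pow_right 3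
    exact orderOf_eq_one_iff.1 (h3.eq_one_of_dvd (h2.trans (by norm_num)))
  · intro p _ Q
    rcases eq_or_ne p 2 with rfl | hp
    · haveI : Subsingleton Q := by
        refine (Nat.card_eq_one_iff_unique.1 ?_).1
        rw [Q.card_eq_multiplicity, Nat.factorization_eq_zero_of_not_dvd, pow_zero]
        exact hMcard ▸ hcop2
      exact isCyclic_of_subsingleton
    · exact sylow_cyclic (ψ.comap M.subtype M.subtype_injective) hp Q Q.2

end CfsgLib.Char.Zassenhaus
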