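/-
A Frobenius complement has a representation as in `ZRep`.
-/
import Cfsg.Agent.Lib.Char.Zassenhaus.Main
import Cfsg.Agent.Lib.Coprime.Frobenius

set_option autoImplicit false

namespace CfsgLib.Char.Zassenhaus

/-- The representation of a Frobenius complement. -/
theorem exists_zrep_of_complement {L : Type*} [Group L] [Finite L] {H : Subgroup L}
    (hH : Cfsg.IsFrobeniusComplement H) : Nonempty (ZRep H) := by
  obtain ⟨N, hN, hn, hc⟩ := Coprime.frob_kernel_subgroup hH
  haveI := hn
  haveI : Nontrivial N := by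
    rw [Subgroup.nontrivial_iff_ne_bot]
    intro e
    refine hH.2.1 ?_
    have h := hc.sup_eq_top
    rwa [e, bot_sup_eq] at h
  refine exists_zrep_of_fpf ((MulAut.conjNormal (H := N)).comp H.subtype) fun g hg k hk => ?_
  have h1 : (g : L) * k * (g : L)⁻¹ = k := congrArg Subtype.val hk
  have h2 : (k : L) ∈ H := Coprime.frob_mem_of_commute hH g.2 (fun e => hg (Subtype.ext e))
    (mul_inv_eq_iff_eq_mul.1 h1)
  exact Subtype.ext (Coprime.frob_kernel_inter (hN ▸ k.2 : (k : L) ∈ Cfsg.frobeniusKernel H) h2)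

end CfsgLib.Char.Zassenhaus
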