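/-
`SL(2,5)` acts fixed-point-freely on the plane over the field with eleven elements.
-/
import Cfsg.Agent.Lib.Char.Zassenhaus.Embed
import Cfsg.Agent.Lib.Coprime.Frobenius
import Mathlib.GroupTheory.SemidirectProduct

set_option autoImplicit false

namespace CfsgLib.Char.Zassenhaus

/-- Vectors of the plane. -/
abbrev Plane := ZMod 11 × ZMod 11

/-- A matrix, by rows. -/
abbrev Mat11 := ZMod 11 × ZMod 11 × ZMod 11 × ZMod 11

/-- The image of the first generator. -/
def A11 : Mat11 := (0, 10, 1, 10)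

/-- A matrix applied to a vector. -/
def act11 (m : Mat11) (v : Plane) : Plane := (m.1 * v.1 + m.2.1 * v.2, m.2.2.1 * v.1 + m.2.2.2 * v.2)

/-- The product. -/
def mul11 (x y : Mat11) : Mat11 :=
  (x.1 * y.1 + x.2.1 * y.2.2.1, x.1 * y.2.1 + x.2.1 * y.2.2.2,
    x.2.2.1 * y.1 + x.2.2.2 * y.2.2.1, x.2.2.1 * y.2.1 + x.2.2.2 * y.2.2.2)

theorem act11_mul (x y : Mat11) (v : Plane) : act11 (mul11 x y) v = act11 x (act11 y v) := by
  simp only [act11, mul11, Prod.mk.injEq]; constructor <;> ring

/-- The value of a coefficient. -/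
def val11P (p : ℤ × ℤ) : ZMod 11 := (p.1 : ZMod 11) + 8 * (p.2 : ZMod 11)

/-- The image of the second generator. -/
def B11 : Mat11 := (0, 3, 7, 10)

/-- The value of an element of the order. -/
def val11 : Ord → Mat11
  | (x, y, z, w) =>
    let m := mul11 A11 B11
    (val11P x + val11P y * A11.1 + val11P z * B11.1 + val11P w * m.1,
      val11P y * A11.2.1 + val11P z * B11.2.1 + val11P w * m.2.1,
      val11P y * A11.2.2.1 + val11P z * B11.2.2.1 + val11P w * m.2.2.1,
      val11P x + val11P y * A11.2.2.2 + val11P z * B11.2.2.2 + val11P w * m.2.2.2)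

/-- The matrix of an element. -/
def mat11 (k : Fin 120) : Mat11 := val11 (ordOf k)

theorem mat11_zero : mat11 0 = (1, 0, 0, 1) := by decide +kernel

theorem mat11_ra : ∀ k, mat11 (ra k) = mul11 (mat11 k) A11 := by decide +kernel

theorem mat11_rb : ∀ k, mat11 (rb k) = mul11 (mat11 k) B11 := by decide +kernel

theorem mat11_fpf : ∀ k : Fin 120, k ≠ 0 →
    (mat11 k).1 * (mat11 k).2.2.2 - (mat11 k).2.1 * (mat11 k).2.2.1 + 1 - (mat11 k).1 - (mat11 k).2.2.2 ≠ 0 := by
  decide +kernel

theorem act11_one (v : Plane) : act11 (1, 0, 0, 1) v = v := by simp [act11]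

theorem mul11_assoc (x y z : Mat11) : mul11 (mul11 x y) z = mul11 x (mul11 y z) := by
  simp only [mul11, Prod.mk.injEq]; refine ⟨?_, ?_, ?_, ?_⟩ <;> ring

theorem mat11_mul (g h : SL25) : mat11 (idx (g * h)) = mul11 (mat11 (idx g)) (mat11 (idx h)) := by
  have step : ∀ g, mat11 (idx (g * A5)) = mul11 (mat11 (idx g)) A11 ∧
      mat11 (idx (g * B5)) = mul11 (mat11 (idx g)) B11 := fun g => by
    refine ⟨?_, ?_⟩
    · rw [← mat11_ra]; congr 1; rw [← idx_el (ra (idx g)), el_ra, el_idx]
    · rw [← mat11_rb]; congr 1; rw [← idx_el (rb (idx g)), el_rb, el_idx]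
  refine sl25_induction (p := fun h => mat11 (idx (g * h)) = mul11 (mat11 (idx g)) (mat11 (idx h))) ?_ ?_ ?_ h
  · rw [mul_one, ← el_zero, idx_el, mat11_zero]; simp [mul11]
  · intro h ih; rw [← mul_assoc, (step _).1, (step _).1, ih, mul11_assoc]
  · intro h ih; rw [← mul_assoc, (step _).2, (step _).2, ih, mul11_assoc]

theorem act11_mul' (g h : SL25) (v : Plane) :
    act11 (mat11 (idx g)) (act11 (mat11 (idx h)) v) = act11 (mat11 (idx (g * h))) v := by
  rw [mat11_mul, act11_mul]

theorem act11_idx_one (v : Plane) : act11 (mat11 (idx (1 : SL25))) v = v := by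
  rw [← el_zero, idx_el, mat11_zero, act11_one]

/-- The action on the plane. -/
def planeHom : SL25 →* MulAut (Multiplicative Plane) where
  toFun g :=
    { toFun := fun v => Multiplicative.ofAdd (act11 (mat11 (idx g)) v.toAdd)
      invFun := fun v => Multiplicative.ofAdd (act11 (mat11 (idx g⁻¹)) v.toAdd)
      left_inv := fun v => congrArg Multiplicative.ofAdd
        (show act11 (mat11 (idx g⁻¹)) (act11 (mat11 (idx g)) v.toAdd) = v.toAdd by
          rw [act11_mul', inv_mul_cancel, act11_idx_one])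
      right_inv := fun v => congrArg Multiplicative.ofAdd
        (show act11 (mat11 (idx g)) (act11 (mat11 (idx g⁻¹)) v.toAdd) = v.toAdd by
          rw [act11_mul', mul_inv_cancel, act11_idx_one])
      map_mul' := fun v w => congrArg Multiplicative.ofAdd
        (show act11 (mat11 (idx g)) (v.toAdd + w.toAdd) =
            act11 (mat11 (idx g)) v.toAdd + act11 (mat11 (idx g)) w.toAdd by
          simp only [act11, Prod.fst_add, Prod.snd_add, Prod.mk_add_mk, Prod.mk.injEq]
          constructor <;> ring) }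
  map_one' := MulEquiv.ext fun v => congrArg Multiplicative.ofAdd (act11_idx_one v.toAdd)
  map_mul' g h := MulEquiv.ext fun v => congrArg Multiplicative.ofAdd (act11_mul' g h v.toAdd).symm

theorem planeHom_fpf (g : SL25) (hg : g ≠ 1) (v : Multiplicative Plane) (h : planeHom g v = v) : v = 1 := by
  have hk : idx g ≠ 0 := fun e => hg (by rw [← el_idx g, e, el_zero])
  have hd := mat11_fpf _ hk
  have e : act11 (mat11 (idx g)) v.toAdd = v.toAdd := congrArg Multiplicative.toAdd h
  set m := mat11 (idx g)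
  simp only [act11, Prod.ext_iff] at e
  obtain ⟨e1, e2⟩ := e
  haveI : Fact (Nat.Prime 11) := ⟨by norm_num⟩
  have h1 : (m.1 * m.2.2.2 - m.2.1 * m.2.2.1 + 1 - m.1 - m.2.2.2) * v.toAdd.1 = 0 := by
    linear_combination (m.2.2.2 - 1) * e1 - m.2.1 * e2
  have h2 : (m.1 * m.2.2.2 - m.2.1 * m.2.2.1 + 1 - m.1 - m.2.2.2) * v.toAdd.2 = 0 := by
    linear_combination (m.1 - 1) * e2 - m.2.2.1 * e1
  have : v.toAdd = (0, 0) :=
    Prod.ext ((mul_eq_zero.1 h1).resolve_left hd) ((mul_eq_zero.1 h2).resolve_left hd)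
  exact congrArg Multiplicative.ofAdd this

theorem sl25_complement : ∃ (L : Type) (_ : Group L) (_ : Finite L) (H : Subgroup L),
    Cfsg.IsFrobeniusComplement H ∧ Nonempty (H ≃* SL25) := by
  let L := Multiplicative Plane ⋊[planeHom] SL25
  haveI : Finite L := Finite.of_injective (fun x : L => (x.left, x.right))
    fun x y e => SemidirectProduct.ext (congrArg Prod.fst e) (congrArg Prod.snd e)
  let K : Subgroup L := (SemidirectProduct.inl : Multiplicative Plane →* L).range
  let H : Subgroup L := (SemidirectProduct.inr : SL25 →* L).range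
  haveI : K.Normal := by
    show ((SemidirectProduct.inl : Multiplicative Plane →* L).range).Normal
    rw [SemidirectProduct.range_inl_eq_ker_rightHom]
    infer_instance
  have hc : Subgroup.IsComplement' K H := by
    refine Subgroup.isComplement'_of_disjoint_and_mul_eq_univ ?_ ?_
    · rw [Subgroup.disjoint_def]
      rintro _ ⟨a, rfl⟩ ⟨b, e⟩
      have := congrArg SemidirectProduct.left e
      simp at this
      rw [← this]; exact map_one _
    · ext x
      simp only [Set.mem_univ, iff_true]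
      exact ⟨_, ⟨x.left, rfl⟩, _, ⟨x.right, rfl⟩, x.inl_left_mul_inr_right⟩
  refine ⟨L, inferInstance, inferInstance, H, (Coprime.frob_iff_fixed_point_free hc ?_ ?_).2 ?_,
    ⟨(MonoidHom.ofInjective SemidirectProduct.inr_injective).symm⟩⟩
  · rw [Subgroup.ne_bot_iff_exists_ne_one]
    refine ⟨⟨_, ⟨Multiplicative.ofAdd ((1, 0) : Plane), rfl⟩⟩, fun e => ?_⟩
    have := congrArg (fun x : K => (x : L).left.toAdd.1) e
    simp at this
    exact absurd this (by decide)
  · rw [Subgroup.ne_bot_iff_exists_ne_one]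
    refine ⟨⟨_, ⟨A5, rfl⟩⟩, fun e => A5_ne_one ?_⟩
    have := congrArg (fun x : H => (x : L).right) e
    simpa using this
  · rintro _ ⟨g, rfl⟩ hg
    refine (Subgroup.eq_bot_iff_forall _).2 ?_
    rintro _ ⟨⟨v, rfl⟩, hv⟩
    have hg1 : g ≠ 1 := fun e => hg (by rw [e, map_one])
    have h := congrArg SemidirectProduct.left (Subgroup.mem_centralizer_singleton_iff.1 hv)
    simp at h
    rw [planeHom_fpf g hg1 v h.symm, map_one]

end CfsgLib.Char.Zassenhaus
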